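import Mathlib.GroupTheory.Sylow
import Mathlib.GroupTheory.GroupAction.Primitive
import Mathlib.GroupTheory.GroupAction.MultipleTransitivity
import Mathlib.GroupTheory.Subgroup.Simple
import Mathlib.Algebra.Group.End
import Mathlib.Tactic

/-!
Two elementary simplicity criteria, enough for the five Mathieu groups.
-/

namespace Cfsg.Agent.SimpleCriteria

/-- If `p` divides the order of every non-trivial normal subgroup, `p²` does not divide the group
order, and the group is generated by elements killed by `p`, then the group is simple. -/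
theorem isSimpleGroup_of_prime_elements {G : Type*} [Group G] [Finite G] [Nontrivial G] (p : ℕ)
    [hp : Fact p.Prime] (hsq : ¬ p ^ 2 ∣ Nat.card G)
    (hdvd : ∀ N : Subgroup G, N.Normal → N ≠ ⊥ → p ∣ Nat.card N) (S : Set G)
    (hS : Subgroup.closure S = ⊤) (hpow : ∀ s ∈ S, s ^ p = 1) : IsSimpleGroup G := by
  refine ⟨fun N hN => (eq_or_ne N ⊥).imp_right fun hne => ?_⟩
  obtain ⟨x, hx⟩ := exists_prime_orderOf_dvd_card' (G := N) p (hdvd N hN hne)
  have hxord : orderOf (x : G) = p := by rw [Subgroup.orderOf_coe, hx]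
  have hfact : (Nat.card G).factorization p = 1 := by
    have h1 : p ∣ Nat.card G := hxord ▸ orderOf_dvd_natCard (x : G)
    have h2 := (hp.out.pow_dvd_iff_le_factorization (Nat.card_pos (α := G)).ne').not.1 hsq
    have h3 := (hp.out.dvd_iff_one_le_factorization (Nat.card_pos (α := G)).ne').1 h1
    omega
  have hsyl : ∀ g : G, orderOf g = p → ∃ P : Sylow p G, (P : Subgroup G) = Subgroup.zpowers g := by
    intro g hg
    refine ⟨Sylow.ofCard (Subgroup.zpowers g) ?_, Sylow.coe_ofCard _ _⟩
    rw [Nat.card_zpowers, hg, hfact, pow_one]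
  obtain ⟨P, hP⟩ := hsyl _ hxord
  have hPN : (P : Subgroup G) ≤ N := hP ▸ Subgroup.zpowers_le.2 x.2
  rw [eq_top_iff, ← hS, Subgroup.closure_le]
  intro s hs
  rcases (Nat.dvd_prime hp.out).1 (orderOf_dvd_of_pow_eq_one (hpow s hs)) with h | h
  · rw [orderOf_eq_one_iff.1 h]; exact one_mem _
  · obtain ⟨Q, hQ⟩ := hsyl s h
    obtain ⟨g, rfl⟩ := MulAction.exists_smul_eq G P Q
    have hsQ : s ∈ ((g • P : Sylow p G) : Subgroup G) := hQ ▸ Subgroup.mem_zpowers s
    rw [Sylow.coe_subgroup_smul] at hsQ
    obtain ⟨y, hy, rfl⟩ := hsQ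
    exact hN.conj_mem y (hPN hy) g

variable {α : Type*} [Finite α]

/-- A non-trivial normal subgroup of a primitive group has order divisible by the degree. -/
theorem card_dvd_card_normal (G : Subgroup (Equiv.Perm α)) [MulAction.IsPreprimitive G α]
    (N : Subgroup G) (hN : N.Normal) (hne : N ≠ ⊥) : Nat.card α ∣ Nat.card N := by
  have hfix : MulAction.fixedPoints N α ≠ Set.univ := by
    intro h
    refine hne ((Subgroup.eq_bot_iff_forall N).2 fun n hn => ?_)
    refine Subtype.ext (Equiv.ext fun a => ?_)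
    have ha : a ∈ MulAction.fixedPoints N α := h ▸ Set.mem_univ a
    exact ha ⟨n, hn⟩
  have := MulAction.IsQuasiPreprimitive.isPretransitive_of_normal (N := N) hfix
  rcases isEmpty_or_nonempty α with hα | ⟨⟨a⟩⟩
  · rw [Nat.card_of_isEmpty]
    exfalso
    exact hfix (Set.eq_univ_of_forall fun a => hα.elim a)
  · have h := MulAction.index_stabilizer_of_transitive N a
    rw [← h]
    exact Subgroup.index_dvd_card _

/-- A doubly transitive group with simple point stabiliser is simple when the degree has two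
distinct prime divisors. -/
theorem isSimpleGroup_of_stabilizer (G : Subgroup (Equiv.Perm α)) [Finite G]
    (h2 : ∀ a b c d : α, a ≠ b → c ≠ d → ∃ g ∈ G, g a = c ∧ g b = d) (a : α)
    [IsSimpleGroup (MulAction.stabilizer G a)] {p q : ℕ} (hp : p.Prime) (hq : q.Prime)
    (hpq : p ≠ q) (hpd : p ∣ Nat.card α) (hqd : q ∣ Nat.card α) : IsSimpleGroup G := by
  have : MulAction.IsMultiplyPretransitive G α 2 := by
    constructor
    intro x y
    obtain ⟨g, hg, hg0, hg1⟩ := h2 (x 0) (x 1) (y 0) (y 1) (x.injective.ne (by decide))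
      (y.injective.ne (by decide))
    refine ⟨⟨g, hg⟩, Function.Embedding.ext fun i => ?_⟩
    fin_cases i
    · exact hg0
    · exact hg1
  have : MulAction.IsPreprimitive G α :=
    MulAction.isPreprimitive_of_is_two_pretransitive (α := α) this
  have : Nontrivial G := by
    obtain ⟨x, hx⟩ := exists_ne (1 : MulAction.stabilizer G a)
    exact ⟨(x : G), 1, fun h => hx (Subtype.ext h)⟩
  refine ⟨fun N hN => (eq_or_ne N ⊥).imp_right fun hne => ?_⟩
  have hfix : MulAction.fixedPoints N α ≠ Set.univ := by
    intro h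
    refine hne ((Subgroup.eq_bot_iff_forall N).2 fun n hn => ?_)
    refine Subtype.ext (Equiv.ext fun b => ?_)
    have hb : b ∈ MulAction.fixedPoints N α := h ▸ Set.mem_univ b
    exact hb ⟨n, hn⟩
  have := MulAction.IsQuasiPreprimitive.isPretransitive_of_normal (N := N) hfix
  have hM : (N.subgroupOf (MulAction.stabilizer G a)).Normal := hN.subgroupOf _
  rcases hM.eq_bot_or_eq_top with h | h
  · exfalso
    have hinj : ∀ n ∈ N, n • a = a → n = 1 := fun n hn hna => by
      have : (⟨n, hna⟩ : MulAction.stabilizer G a) ∈ N.subgroupOf (MulAction.stabilizer G a) := hn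
      rw [h, Subgroup.mem_bot] at this
      exact congrArg Subtype.val this
    have hcard : Nat.card α = Nat.card N := by
      refine (Nat.card_congr (Equiv.ofBijective (fun n : N => (n : G) • a) ⟨?_, ?_⟩)).symm
      · intro m n hmn
        apply Subtype.ext
        have hh : ((m : G)⁻¹ * n) • a = a := by
          rw [mul_smul, inv_smul_eq_iff]
          exact hmn.symm
        exact inv_mul_eq_one.1 (hinj _ (mul_mem (inv_mem m.2) n.2) hh)
      · intro b
        obtain ⟨n, hn⟩ := MulAction.exists_smul_eq N a b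
        exact ⟨n, hn⟩
    obtain ⟨x, hx⟩ := exists_prime_orderOf_dvd_card' (hp := ⟨hp⟩) p (hcard ▸ hpd)
    obtain ⟨y, hy⟩ := exists_prime_orderOf_dvd_card' (hp := ⟨hq⟩) q (hcard ▸ hqd)
    have hxa : (x : G) • a ≠ a := fun hh => by
      have h1 : (x : G) = 1 := hinj _ x.2 hh
      have : orderOf x = 1 := orderOf_eq_one_iff.2 (Subtype.ext h1)
      exact hp.one_lt.ne' (hx ▸ this)
    have hya : (y : G) • a ≠ a := fun hh => by
      have h1 : (y : G) = 1 := hinj _ y.2 hh
      have : orderOf y = 1 := orderOf_eq_one_iff.2 (Subtype.ext h1)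
      exact hq.one_lt.ne' (hy ▸ this)
    obtain ⟨g, hg, hga, hgx⟩ := h2 a ((x : G) • a) a ((y : G) • a) hxa.symm hya.symm
    let c : G := ⟨g, hg⟩
    have hca : c • a = a := hga
    have hcy : (c * x * c⁻¹) • a = (y : G) • a := by
      rw [mul_smul, mul_smul, inv_smul_eq_iff.2 hca.symm]
      exact hgx
    have hconj : c * x * c⁻¹ = (y : G) := by
      refine inv_mul_eq_one.1 (hinj _ (mul_mem (inv_mem (hN.conj_mem _ x.2 c)) y.2) ?_)
      rw [mul_smul, inv_smul_eq_iff]
      exact hcy.symm
    have ho : orderOf (c * x * c⁻¹) = orderOf (x : G) := by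
      rw [← MulAut.conj_apply, MulEquiv.orderOf_eq]
    rw [hconj, Subgroup.orderOf_coe, Subgroup.orderOf_coe, hx, hy] at ho
    exact hpq ho.symm
  · rw [Subgroup.subgroupOf_eq_top] at h
    rw [eq_top_iff]
    intro g _
    obtain ⟨n, hn⟩ := MulAction.exists_smul_eq N a (g • a)
    have hn' : (n : G) • a = g • a := hn
    have : (n : G)⁻¹ * g ∈ MulAction.stabilizer G a := by
      rw [MulAction.mem_stabilizer_iff, mul_smul, ← hn', inv_smul_smul]
    have := mul_mem n.2 (h this)
    rwa [mul_inv_cancel_left] at this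

/-! ### Restriction of a permutation group to an invariant set -/

/-- Restriction of a permutation group to an invariant set of points. -/
def restrict {β : Type*} (K : Subgroup (Equiv.Perm β)) (p : β → Prop)
    (h : ∀ g ∈ K, ∀ x, p (g x) ↔ p x) : K →* Equiv.Perm {x // p x} where
  toFun g := (g : Equiv.Perm β).subtypePerm (h g g.2)
  map_one' := Equiv.ext fun _ => rfl
  map_mul' _ _ := Equiv.ext fun _ => rfl

theorem isSimpleGroup_congr {G H : Type*} [Group G] [Group H] (e : G ≃* H) [IsSimpleGroup G] :
    IsSimpleGroup H := by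
  have : Nontrivial H := e.toEquiv.nontrivial_congr.1 inferInstance
  exact IsSimpleGroup.isSimpleGroup_of_surjective e.toMonoidHom e.surjective

end Cfsg.Agent.SimpleCriteria
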