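import Cfsg.Agent.Lib.Golay.M24
import Cfsg.Agent.Lib.Golay.MathieuData
import Cfsg.Agent.Lib.Golay.SimpleCriteria
import Cfsg.Prelude.Def_Spor_Mathieu

/-!
The Mathieu groups inside the group of the Golay code: orders, transitivity and simplicity of
`M₂₃, M₂₂, M₁₂, M₁₁, M₂₄` and the order of the three-point stabiliser.
-/

namespace Cfsg.Agent.Golay

open Cfsg Cfsg.Agent.PermCert Cfsg.Agent.Golay.Cert
open Cfsg.Agent.SimpleCriteria
open scoped Pointwise

set_option linter.unusedSimpArgs false

/-! ### Stabilisers of lists of sets -/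

/-- The elements of the code's group fixing each of the listed sets. -/
def stabSets (L : List (Finset GolayPt)) : Subgroup (Equiv.Perm GolayPt) where
  carrier := {σ | σ ∈ M24 ∧ ∀ s ∈ L, σ • s = s}
  one_mem' := ⟨one_mem _, fun _ _ => one_smul _ _⟩
  mul_mem' := fun {a b} ha hb =>
    ⟨mul_mem ha.1 hb.1, fun o ho => by rw [mul_smul, hb.2 o ho, ha.2 o ho]⟩
  inv_mem' := fun {a} ha => ⟨inv_mem ha.1, fun o ho => by rw [inv_smul_eq_iff, ha.2 o ho]⟩

theorem mem_stabSets {L : List (Finset GolayPt)} {σ : Equiv.Perm GolayPt} :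
    σ ∈ stabSets L ↔ σ ∈ M24 ∧ ∀ s ∈ L, σ • s = s := Iff.rfl

theorem stabIn_eq_stabSets (inv : List ℕ) : stabIn inv = stabSets (inv.map maskSet) := by
  ext σ; simp [mem_stabIn, mem_stabSets]

theorem maskSet_single (i : Fin 24) : maskSet (1 <<< (i : ℕ)) = {pt i} := by
  ext p
  simp only [mem_maskSet, Finset.mem_singleton, Nat.one_shiftLeft, Nat.testBit_two_pow,
    decide_eq_true_eq]
  constructor
  · intro h; exact idx_injective (by rw [idx_pt, h])
  · rintro rfl; exact (idx_pt i).symm

theorem smul_singleton_eq_iff (σ : Equiv.Perm GolayPt) (p : GolayPt) :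
    σ • ({p} : Finset GolayPt) = {p} ↔ σ p = p := by
  rw [Finset.smul_finset_singleton, Finset.singleton_inj]; rfl

theorem stabSets_conj {g : Equiv.Perm GolayPt} (hg : g ∈ M24) (L : List (Finset GolayPt)) :
    stabSets (L.map fun s => g • s) = (stabSets L).map (MulAut.conj g).toMonoidHom := by
  ext σ
  rw [Subgroup.mem_map_equiv, MulAut.conj_symm_apply, mem_stabSets, mem_stabSets]
  refine and_congr ⟨fun h => mul_mem (mul_mem (inv_mem hg) h) hg, fun h => ?_⟩ ?_
  · have := mul_mem (mul_mem hg h) (inv_mem hg)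
    simpa [mul_assoc] using this
  · simp [mul_smul, inv_smul_eq_iff]

/-- Conjugation between stabilisers of corresponding lists. -/
noncomputable def stabSetsEquiv {g : Equiv.Perm GolayPt} (hg : g ∈ M24) {L L' : List (Finset GolayPt)}
    (h : L.map (fun s => g • s) = L') : ↥(stabSets L) ≃* ↥(stabSets L') :=
  ((MulAut.conj g).subgroupMap (stabSets L)).trans
    (MulEquiv.subgroupCongr (by rw [← h, stabSets_conj hg]; rfl))

/-- A subgroup of `M24` described by fixed sets is the corresponding stabiliser. -/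
noncomputable def equivStabSets (H : Subgroup M24) (L : List (Finset GolayPt))
    (h : ∀ g : M24, g ∈ H ↔ ∀ s ∈ L, (g : Equiv.Perm GolayPt) • s = s) :
    ↥H ≃* ↥(stabSets L) :=
  (Subgroup.equivMapOfInjective H M24.subtype Subtype.coe_injective).trans
    (MulEquiv.subgroupCongr (by
      ext σ
      simp only [Subgroup.mem_map, Subgroup.coe_subtype, mem_stabSets]
      constructor
      · rintro ⟨g, hg, rfl⟩; exact ⟨g.2, (h g).1 hg⟩
      · rintro ⟨h1, h2⟩; exact ⟨⟨σ, h1⟩, (h _).2 h2, rfl⟩))

theorem mem_stab_pt {g : M24} {p : GolayPt} :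
    g ∈ MulAction.stabilizer M24 p ↔ (g : Equiv.Perm GolayPt) • ({p} : Finset GolayPt) = {p} := by
  rw [smul_singleton_eq_iff]; rfl

theorem mem_stab_set {g : M24} {s : Finset GolayPt} :
    g ∈ MulAction.stabilizer M24 s ↔ (g : Equiv.Perm GolayPt) • s = s := Iff.rfl

/-! ### Certificates -/

theorem m23_ok : stabCertOK m23Inv m23Gens m23Derived m23Levels m23LevelSets m23Rigid = true := by
  decide +kernel

theorem m22_ok : stabCertOK m22Inv m22Gens m22Derived m22Levels m22LevelSets m22Rigid = true := by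
  decide +kernel

theorem m21_ok : stabCertOK m21Inv m21Gens m21Derived m21Levels m21LevelSets m21Rigid = true := by
  decide +kernel

theorem m12_ok : stabCertOK m12Inv m12Gens m12Derived m12Levels m12LevelSets m12Rigid = true := by
  decide +kernel

theorem m11_ok : stabCertOK m11Inv m11Gens m11Derived m11Levels m11LevelSets m11Rigid = true := by
  decide +kernel

theorem card_stabIn_m23 : Nat.card (stabIn m23Inv) = 10200960 :=
  (stabCert_spec m23_ok).2.trans (by decide +kernel)

theorem card_stabIn_m22 : Nat.card (stabIn m22Inv) = 443520 :=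
  (stabCert_spec m22_ok).2.trans (by decide +kernel)

theorem card_stabIn_m21 : Nat.card (stabIn m21Inv) = 20160 :=
  (stabCert_spec m21_ok).2.trans (by decide +kernel)

theorem card_stabIn_m12 : Nat.card (stabIn m12Inv) = 95040 :=
  (stabCert_spec m12_ok).2.trans (by decide +kernel)

theorem card_stabIn_m11 : Nat.card (stabIn m11Inv) = 7920 :=
  (stabCert_spec m11_ok).2.trans (by decide +kernel)

/-- The dodecad of squares as a mask. -/
abbrev sqMask : ℕ := 340831

theorem squareDodecad_eq : Spor.squareDodecad = maskSet sqMask := by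
  rw [Spor.squareDodecad, qrWord_eq 0, support_ofMask]; rfl

theorem squareDodecad_mem : Spor.squareDodecad ∈ dodecads := by
  rw [squareDodecad_eq]
  exact mem_dodecads.2 ⟨_, memB_spec (by decide +kernel), rfl⟩

theorem zero_mem_squareDodecad : (some 0 : GolayPt) ∈ Spor.squareDodecad := by
  rw [squareDodecad_eq, mem_maskSet]; decide

theorem stabIn_m23 : stabIn m23Inv = stabSets [{(none : GolayPt)}] := by
  rw [stabIn_eq_stabSets]; congr 1

theorem stabIn_m22 : stabIn m22Inv = stabSets [{(none : GolayPt)}, {some 0}] := by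
  rw [stabIn_eq_stabSets]; congr 1

theorem stabIn_m21 : stabIn m21Inv = stabSets [{(none : GolayPt)}, {some 0}, {some 1}] := by
  rw [stabIn_eq_stabSets]; congr 1

theorem stabIn_m12 : stabIn m12Inv = stabSets [Spor.squareDodecad] := by
  rw [stabIn_eq_stabSets, squareDodecad_eq]; rfl

theorem stabIn_m11 : stabIn m11Inv = stabSets [Spor.squareDodecad, {some 0}] := by
  rw [stabIn_eq_stabSets, squareDodecad_eq]; congr 1

theorem sporM23_eq : Spor.M23 = stabSets [{(none : GolayPt)}] := by
  ext σ; simp [Spor.M23, mem_stabSets, smul_singleton_eq_iff]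

theorem sporM22_eq : Spor.M22 = stabSets [{(none : GolayPt)}, {some 0}] := by
  ext σ; simp [Spor.M22, Spor.M23, mem_stabSets, smul_singleton_eq_iff, and_assoc]

theorem sporM12_eq : Spor.M12 = stabSets [Spor.squareDodecad] := by
  ext σ; simp [Spor.M12, mem_stabSets]

theorem sporM11_eq : Spor.M11 = stabSets [Spor.squareDodecad, {some 0}] := by
  ext σ; simp [Spor.M11, Spor.M12, mem_stabSets, smul_singleton_eq_iff, and_assoc]

theorem card_sporM23 : Nat.card Spor.M23 = 10200960 := by
  rw [sporM23_eq, ← stabIn_m23]; exact card_stabIn_m23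

theorem card_sporM22 : Nat.card Spor.M22 = 443520 := by
  rw [sporM22_eq, ← stabIn_m22]; exact card_stabIn_m22

theorem card_sporM12 : Nat.card Spor.M12 = 95040 := by
  rw [sporM12_eq, ← stabIn_m12]; exact card_stabIn_m12

theorem card_sporM11 : Nat.card Spor.M11 = 7920 := by
  rw [sporM11_eq, ← stabIn_m11]; exact card_stabIn_m11

/-! ### Transitivity -/

/-- The first five points of the dodecad of squares. -/
def base12 : Fin 5 → GolayPt := fun i => some ((i : ℕ) : ZMod 23)

theorem base12_injective : Function.Injective base12 := by decide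

theorem base12_mem : ∀ i, base12 i ∈ Spor.squareDodecad := by
  intro i
  rw [squareDodecad_eq, mem_maskSet]
  revert i; decide

theorem m12_rigid_ok : rigidOK m12Inv 31 m12Rigid = true := by decide +kernel

theorem eq_one_of_fix_base12 {σ : Equiv.Perm GolayPt} (hσ : σ ∈ stabSets [Spor.squareDodecad])
    (h : ∀ i, σ (base12 i) = base12 i) : σ = 1 := by
  refine rigidOK_spec _ _ m12_rigid_ok σ (by rw [stabIn_m12]; exact hσ) fun p hp => ?_
  have key : ∀ p : GolayPt, (31 : ℕ).testBit (idx p) = true → ∃ i, base12 i = p := by decide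
  obtain ⟨i, rfl⟩ := key p (mem_maskSet.1 hp)
  exact h i

theorem card_embedding_dodecad (d : Finset GolayPt) (hd : d.card = 12) :
    Nat.card (Fin 5 ↪ ↥d) = 95040 := by
  rw [Nat.card_eq_fintype_card, Fintype.card_embedding_eq, Fintype.card_coe, hd, Fintype.card_fin]
  rfl

/-- The dodecad stabiliser reaches every five distinct points of the dodecad exactly once. -/
theorem existsUnique_m12 (y : Fin 5 → GolayPt) (hy : Function.Injective y)
    (hyd : ∀ i, y i ∈ Spor.squareDodecad) :
    ∃! g : ↥(stabSets [Spor.squareDodecad]), ∀ i, (g : Equiv.Perm GolayPt) (base12 i) = y i := by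
  classical
  have hstab : ∀ g : ↥(stabSets [Spor.squareDodecad]), ∀ p ∈ Spor.squareDodecad,
      (g : Equiv.Perm GolayPt) p ∈ Spor.squareDodecad := by
    intro g p hp
    have h := Finset.smul_mem_smul_finset (a := (g : Equiv.Perm GolayPt)) hp
    rwa [g.2.2 _ List.mem_cons_self] at h
  let Φ : ↥(stabSets [Spor.squareDodecad]) → (Fin 5 ↪ ↥Spor.squareDodecad) := fun g =>
    ⟨fun i => ⟨(g : Equiv.Perm GolayPt) (base12 i), hstab g _ (base12_mem i)⟩,
      fun a b h => base12_injective ((g : Equiv.Perm GolayPt).injective (congrArg Subtype.val h))⟩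
  have hinj : Function.Injective Φ := by
    intro a b h
    have := eq_one_of_fix_base12 (mul_mem (inv_mem a.2) b.2) (fun i => by
      have hi : (a : Equiv.Perm GolayPt) (base12 i) = (b : Equiv.Perm GolayPt) (base12 i) :=
        congrArg (fun f : Fin 5 ↪ ↥Spor.squareDodecad => (f i : GolayPt)) h
      rw [Equiv.Perm.mul_apply, ← hi]
      exact Equiv.symm_apply_apply _ _)
    exact Subtype.ext (inv_mul_eq_one.1 this)
  have hbij : Function.Bijective Φ := by
    refine (Nat.bijective_iff_injective_and_card Φ).2 ⟨hinj, ?_⟩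
    rw [card_embedding_dodecad _ (card_dodecad squareDodecad_mem), ← sporM12_eq, card_sporM12]
  obtain ⟨g, hg⟩ := hbij.2 ⟨fun i => ⟨y i, hyd i⟩, fun a b h => hy (congrArg Subtype.val h)⟩
  refine ⟨g, fun i => congrArg (fun f : Fin 5 ↪ ↥Spor.squareDodecad => (f i : GolayPt)) hg,
    fun h hh => hinj ?_⟩
  rw [hg]
  exact Function.Embedding.ext fun i => Subtype.ext (hh i)

theorem exists_M12_map {x y : Fin 5 → GolayPt} (hx : Function.Injective x)
    (hy : Function.Injective y) (hxd : ∀ i, x i ∈ Spor.squareDodecad)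
    (hyd : ∀ i, y i ∈ Spor.squareDodecad) : ∃ g ∈ Spor.M12, ∀ i, g (x i) = y i := by
  obtain ⟨a, ha, -⟩ := existsUnique_m12 x hx hxd
  obtain ⟨b, hb, -⟩ := existsUnique_m12 y hy hyd
  refine ⟨b * a⁻¹, by rw [sporM12_eq]; exact mul_mem b.2 (inv_mem a.2), fun i => ?_⟩
  simp [Equiv.Perm.mul_apply, ← ha i, ← hb i]

theorem exists_injective_extension {α : Type*} [DecidableEq α] {d : Finset α} {k n : ℕ}
    (hkn : k ≤ n) (hn : n ≤ d.card) (x : Fin k → α) (hx : Function.Injective x)
    (hxd : ∀ i, x i ∈ d) : ∃ x' : Fin n → α, Function.Injective x' ∧ (∀ i, x' i ∈ d) ∧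
      ∀ i : Fin k, x' (Fin.castLE hkn i) = x i := by
  classical
  obtain ⟨f, hf⟩ := Finset.exists_subset_card_eq (s := d \ Finset.univ.image x) (n := n - k) (by
    rw [Finset.card_sdiff_of_subset (by intro a ha; simp at ha; obtain ⟨i, rfl⟩ := ha; exact hxd i),
      Finset.card_image_of_injective _ hx, Finset.card_univ, Fintype.card_fin]
    omega)
  let e : Fin (n - k) → α := fun i => (f.equivFin.symm (i.cast hf.2.symm) : α)
  have he : Function.Injective e := fun a b h => by simpa [e] using h
  have hem : ∀ i, e i ∈ d ∧ ∀ j, x j ≠ e i := fun i => by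
    have := hf.1 (Finset.coe_mem (f.equivFin.symm (i.cast hf.2.symm)))
    simp at this
    exact ⟨this.1, this.2⟩
  refine ⟨fun i => if h : (i : ℕ) < k then x ⟨i, h⟩ else e ⟨i - k, by omega⟩, ?_, ?_, ?_⟩
  · intro a b hab
    by_cases ha : (a : ℕ) < k <;> by_cases hb : (b : ℕ) < k <;> simp [ha, hb] at hab
    · exact Fin.ext (by simpa using congrArg Fin.val (hx hab))
    · exact absurd hab ((hem _).2 _)
    · exact absurd hab.symm ((hem _).2 _)
    · have := congrArg Fin.val (he hab); simp at this; exact Fin.ext (by omega)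
  · intro i
    by_cases h : (i : ℕ) < k
    · simp [h, hxd]
    · simp [h, (hem _).1]
  · intro i; simp

theorem exists_M24_map' {k : ℕ} (hk : k ≤ 5) {x y : Fin k → GolayPt} (hx : Function.Injective x)
    (hy : Function.Injective y) : ∃ g ∈ M24, ∀ i, g (x i) = y i := by
  obtain ⟨x', hx', -, hxe⟩ := exists_injective_extension (d := Finset.univ) hk (by decide) x hx
    (fun _ => Finset.mem_univ _)
  obtain ⟨y', hy', -, hye⟩ := exists_injective_extension (d := Finset.univ) hk (by decide) y hy
    (fun _ => Finset.mem_univ _)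
  obtain ⟨g, hg, h⟩ := exists_M24_map hx' hy'
  exact ⟨g, hg, fun i => by rw [← hxe, ← hye, h]⟩

theorem exists_M12_map' {k : ℕ} (hk : k ≤ 5) {x y : Fin k → GolayPt} (hx : Function.Injective x)
    (hy : Function.Injective y) (hxd : ∀ i, x i ∈ Spor.squareDodecad)
    (hyd : ∀ i, y i ∈ Spor.squareDodecad) : ∃ g ∈ Spor.M12, ∀ i, g (x i) = y i := by
  have h12 := card_dodecad squareDodecad_mem
  obtain ⟨x', hx', hxd', hxe⟩ := exists_injective_extension hk (by omega) x hx hxd
  obtain ⟨y', hy', hyd', hye⟩ := exists_injective_extension hk (by omega) y hy hyd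
  obtain ⟨g, hg, h⟩ := exists_M12_map hx' hy' hxd' hyd'
  exact ⟨g, hg, fun i => by rw [← hxe, ← hye, h]⟩

theorem stabSets_mono {L L' : List (Finset GolayPt)} (h : ∀ s ∈ L, s ∈ L') :
    stabSets L' ≤ stabSets L := fun _ hσ => ⟨hσ.1, fun s hs => hσ.2 s (h s hs)⟩

/-! ### Generators of prime order -/

/-- Every coded generator is killed by `p`. -/
def powOK (p : ℕ) (gens : List Elt) : Bool :=
  gens.all fun g => validElt 5 24 g &&
    Nat.beq (Nat.rec (idCode 5 24) (fun _ acc => comp 5 24 g.1 acc) p) (idCode 5 24)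

theorem powOK_spec {p : ℕ} {gens : List Elt} (h : powOK p gens = true) :
    ∀ s ∈ gens.map permOf, s ^ p = 1 := by
  intro s hs
  obtain ⟨g, hg, rfl⟩ := List.mem_map.1 hs
  have h' := List.all_eq_true.1 h g hg
  simp only [Bool.and_eq_true, Nat.beq_eq] at h'
  obtain ⟨hv, hpow⟩ := h'
  let f : ℕ → ℕ := fun k => Nat.rec (idCode 5 24) (fun _ acc => comp 5 24 g.1 acc) k
  have hr : ∀ k, ∀ i : Fin 24, get 5 (f k) i = (((toPerm 5 24 g) ^ k) i : ℕ) := by
    intro k
    induction k with
    | zero => intro i; simp [f, get_idCode 5 24 i (by norm_num) i.2]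
    | succ k ih =>
      intro i
      show get 5 (comp 5 24 g.1 (f k)) i = _
      rw [get_comp _ _ _ _ _ i.2, ih, (rep_toPerm hv _).1, pow_succ', Equiv.Perm.mul_apply]
  have hone : (toPerm 5 24 g) ^ p = 1 := by
    ext i
    rw [← hr p i, show f p = idCode 5 24 from hpow, get_idCode 5 24 i (by norm_num) i.2]
    simp
  rw [permOf, ← map_pow, hone, map_one]

theorem genPerm_eq (gens : List Elt) :
    genPerm gens = Subgroup.closure {σ | σ ∈ gens.map permOf} := by
  rw [genPerm, genGroup, MonoidHom.map_closure]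
  congr 1
  ext σ
  simp [permOf]

theorem closure_eq_stabIn {inv : List ℕ} {gens : List Elt} {derived : List (Elt × List ℕ)}
    {levels : List CLevel} {oss : List (List ℕ)} {rig : List (ℕ × List ℕ)}
    (h : stabCertOK inv gens derived levels oss rig = true) :
    Subgroup.closure {σ | σ ∈ gens.map permOf} = stabIn inv := by
  rw [← genPerm_eq]; exact (stabCert_spec h).1

/-- Simplicity of a subgroup acting faithfully on a set of points of size a multiple of `p`. -/
theorem isSimpleGroup_of_gens (K : Subgroup (Equiv.Perm GolayPt)) (P : GolayPt → Prop)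
    (hKP : ∀ g ∈ K, ∀ x, P (g x) ↔ P x) (hfaith : ∀ g ∈ K, (∀ x, P x → g x = x) → g = 1)
    (hprim : MulAction.IsPreprimitive (restrict K P hKP).range {x // P x})
    (p : ℕ) (hp : p.Prime) (hpd : p ∣ Nat.card {x // P x}) (hsq : ¬ p ^ 2 ∣ Nat.card K)
    (hK : 1 < Nat.card K) (S : Set (Equiv.Perm GolayPt)) (hS : Subgroup.closure S = K)
    (hpow : ∀ s ∈ S, s ^ p = 1) : IsSimpleGroup K := by
  have : Fact p.Prime := ⟨hp⟩
  have hinj : Function.Injective (restrict K P hKP) := by
    rw [← MonoidHom.ker_eq_bot_iff, Subgroup.eq_bot_iff_forall]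
    intro g hg
    refine Subtype.ext (hfaith g g.2 fun x hx => ?_)
    exact congrArg (fun e : Equiv.Perm {x // P x} => (e ⟨x, hx⟩ : GolayPt)) (MonoidHom.mem_ker.1 hg)
  let e : K ≃* (restrict K P hKP).range := MonoidHom.ofInjective hinj
  have : Nontrivial K := Finite.one_lt_card_iff_nontrivial.1 hK
  refine isSimpleGroup_of_prime_elements p hsq (fun N hN hne => ?_) {g : K | (g : Equiv.Perm GolayPt) ∈ S}
    ?_ (fun g hg => Subtype.ext (by simpa using hpow _ hg))
  · have hnormal : (N.map e.toMonoidHom).Normal := hN.map _ e.surjective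
    have h := card_dvd_card_normal (restrict K P hKP).range (N.map e.toMonoidHom) hnormal
      (by rw [Ne, Subgroup.map_eq_bot_iff_of_injective _ (f := e.toMonoidHom) e.injective]; exact hne)
    rw [Subgroup.card_map_of_injective (f := e.toMonoidHom) e.injective] at h
    exact hpd.trans h
  · apply Subgroup.map_injective K.subtype_injective
    rw [MonoidHom.map_closure]
    have : K.subtype '' {g : K | (g : Equiv.Perm GolayPt) ∈ S} = S := by
      ext x
      constructor
      · rintro ⟨g, hg, rfl⟩; exact hg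
      · intro hx; exact ⟨⟨x, hS ▸ Subgroup.subset_closure hx⟩, hx, rfl⟩
    rw [this, hS, ← MonoidHom.range_eq_map, Subgroup.range_subtype]

theorem restrict_pretransitive (K : Subgroup (Equiv.Perm GolayPt)) (P : GolayPt → Prop)
    (hKP : ∀ g ∈ K, ∀ x, P (g x) ↔ P x) (h : ∀ a b, P a → P b → ∃ g ∈ K, g a = b) :
    MulAction.IsPretransitive (restrict K P hKP).range {x // P x} := by
  constructor
  intro a b
  obtain ⟨g, hg, hab⟩ := h a b a.2 b.2
  exact ⟨⟨_, ⟨⟨g, hg⟩, rfl⟩⟩, Subtype.ext hab⟩

/-- **`M₂₃` is simple.** -/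
theorem isSimpleGroup_M23 : IsSimpleGroup (stabSets [{(none : GolayPt)}]) := by
  have hKP : ∀ g ∈ stabSets [{(none : GolayPt)}], ∀ x : GolayPt, (g x ≠ none) ↔ x ≠ none := by
    intro g hg x
    have := (smul_singleton_eq_iff g none).1 (hg.2 _ List.mem_cons_self)
    exact not_congr ⟨fun h => g.injective (h.trans this.symm), fun h => h ▸ this⟩
  have hcard : Nat.card {x : GolayPt // x ≠ none} = 23 := by
    rw [Nat.card_eq_fintype_card]; rfl
  have htr : MulAction.IsPretransitive (restrict _ (fun x => x ≠ none) hKP).range {x : GolayPt // x ≠ none} := by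
    refine restrict_pretransitive _ (fun x => x ≠ none) hKP fun a b ha hb => ?_
    obtain ⟨g, hg, h⟩ := exists_M24_map' (k := 2) (by norm_num) (x := ![none, a]) (y := ![none, b])
      (by intro i j; fin_cases i <;> fin_cases j <;> simp [ha, ha.symm])
      (by intro i j; fin_cases i <;> fin_cases j <;> simp [hb, hb.symm])
    have h0 : g none = none := h 0
    exact ⟨g, ⟨hg, by simp [smul_singleton_eq_iff, h0]⟩, h 1⟩
  have hprim : MulAction.IsPreprimitive (restrict _ (fun x => x ≠ none) hKP).range {x : GolayPt // x ≠ none} :=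
    MulAction.IsPreprimitive.of_prime_card (by rw [hcard]; norm_num)
  refine isSimpleGroup_of_gens _ (fun x => x ≠ none) hKP (fun g hg h => Equiv.ext fun x => ?_) hprim 23 (by norm_num)
    (by rw [hcard]) (by rw [← stabIn_m23, card_stabIn_m23]; norm_num)
    (by rw [← stabIn_m23, card_stabIn_m23]; norm_num) _
    ((closure_eq_stabIn m23_ok).trans stabIn_m23) (powOK_spec (by decide +kernel))
  rcases eq_or_ne x none with rfl | hx
  · exact (smul_singleton_eq_iff g none).1 (hg.2 _ List.mem_cons_self)
  · exact h x hx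

/-- **`M₁₁` is simple.** -/
theorem isSimpleGroup_M11 : IsSimpleGroup (stabSets [Spor.squareDodecad, {some 0}]) := by
  have hKP : ∀ g ∈ stabSets [Spor.squareDodecad, {(some 0 : GolayPt)}], ∀ x : GolayPt,
      (g x ∈ Spor.squareDodecad ∧ g x ≠ some 0) ↔ (x ∈ Spor.squareDodecad ∧ x ≠ some 0) := by
    intro g hg x
    have h0 := (smul_singleton_eq_iff g (some 0)).1 (hg.2 _ (by simp))
    refine and_congr ?_ (not_congr ⟨fun h => g.injective (h.trans h0.symm), fun h => h ▸ h0⟩)
    conv_lhs => rw [← hg.2 Spor.squareDodecad (by simp)]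
    exact Finset.smul_mem_smul_finset_iff g
  have hcard : Nat.card {x : GolayPt // x ∈ Spor.squareDodecad ∧ x ≠ some 0} = 11 := by
    rw [Nat.card_eq_fintype_card, Fintype.card_subtype]
    rw [show (Finset.univ.filter fun x => x ∈ Spor.squareDodecad ∧ x ≠ some 0)
        = Spor.squareDodecad.erase (some 0) by ext x; simp [and_comm]]
    rw [Finset.card_erase_of_mem zero_mem_squareDodecad, card_dodecad squareDodecad_mem]
  have htr : MulAction.IsPretransitive (restrict _ (fun x => x ∈ Spor.squareDodecad ∧ x ≠ some 0) hKP).range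
      {x : GolayPt // x ∈ Spor.squareDodecad ∧ x ≠ some 0} := by
    refine restrict_pretransitive _ (fun x => x ∈ Spor.squareDodecad ∧ x ≠ some 0) hKP fun a b ha hb => ?_
    obtain ⟨g, hg, h⟩ := exists_M12_map' (k := 2) (by norm_num) (x := ![some 0, a])
      (y := ![some 0, b])
      (by intro i j; fin_cases i <;> fin_cases j <;> simp [ha.2, ha.2.symm])
      (by intro i j; fin_cases i <;> fin_cases j <;> simp [hb.2, hb.2.symm])
      (by intro i; fin_cases i <;> simp [zero_mem_squareDodecad, ha.1])
      (by intro i; fin_cases i <;> simp [zero_mem_squareDodecad, hb.1])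
    rw [sporM12_eq] at hg
    have h0 : g (some 0) = some 0 := h 0
    exact ⟨g, ⟨hg.1, by simp [smul_singleton_eq_iff, h0, hg.2 _ List.mem_cons_self]⟩, h 1⟩
  have hprim : MulAction.IsPreprimitive (restrict _ (fun x => x ∈ Spor.squareDodecad ∧ x ≠ some 0) hKP).range
      {x : GolayPt // x ∈ Spor.squareDodecad ∧ x ≠ some 0} :=
    MulAction.IsPreprimitive.of_prime_card (by rw [hcard]; norm_num)
  refine isSimpleGroup_of_gens _ (fun x => x ∈ Spor.squareDodecad ∧ x ≠ some 0) hKP (fun g hg h => ?_) hprim 11 (by norm_num)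
    (by rw [hcard]) (by rw [← stabIn_m11, card_stabIn_m11]; norm_num)
    (by rw [← stabIn_m11, card_stabIn_m11]; norm_num) _
    ((closure_eq_stabIn m11_ok).trans stabIn_m11) (powOK_spec (by decide +kernel))
  refine eq_one_of_fix_base12 (stabSets_mono (by simp) hg) fun i => ?_
  rcases eq_or_ne (base12 i) (some 0) with h' | h'
  · rw [h']; exact (smul_singleton_eq_iff g _).1 (hg.2 _ (by simp))
  · exact h _ ⟨base12_mem i, h'⟩

/-- **`M₂₂` is simple.** -/
theorem isSimpleGroup_M22 : IsSimpleGroup (stabSets [{(none : GolayPt)}, {some 0}]) := by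
  have hKP : ∀ g ∈ stabSets [{(none : GolayPt)}, {(some 0 : GolayPt)}], ∀ x : GolayPt,
      (g x ≠ none ∧ g x ≠ some 0) ↔ (x ≠ none ∧ x ≠ some 0) := by
    intro g hg x
    have h1 := (smul_singleton_eq_iff g none).1 (hg.2 _ (by simp))
    have h0 := (smul_singleton_eq_iff g (some 0)).1 (hg.2 _ (by simp))
    exact and_congr (not_congr ⟨fun h => g.injective (h.trans h1.symm), fun h => h ▸ h1⟩)
      (not_congr ⟨fun h => g.injective (h.trans h0.symm), fun h => h ▸ h0⟩)
  have hcard : Nat.card {x : GolayPt // x ≠ none ∧ x ≠ some 0} = 22 := by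
    rw [Nat.card_eq_fintype_card]; rfl
  have h2 : MulAction.IsMultiplyPretransitive (restrict _ (fun x => x ≠ none ∧ x ≠ some 0) hKP).range
      {x : GolayPt // x ≠ none ∧ x ≠ some 0} 2 := by
    constructor
    intro x y
    have hinj : ∀ z : Fin 2 ↪ {x : GolayPt // x ≠ none ∧ x ≠ some 0},
        Function.Injective ![(none : GolayPt), some 0, (z 0 : GolayPt), (z 1 : GolayPt)] := by
      intro z i j hij
      have hz : (z 0 : GolayPt) ≠ (z 1 : GolayPt) := fun h =>
        absurd (z.injective (Subtype.ext h)) (by decide)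
      fin_cases i <;> fin_cases j <;>
        simp [(z 0).2.1, (z 0).2.2, (z 1).2.1, (z 1).2.2, (z 0).2.1.symm, (z 0).2.2.symm,
          (z 1).2.1.symm, (z 1).2.2.symm, hz, hz.symm] at hij ⊢
    obtain ⟨g, hg, h⟩ := exists_M24_map' (k := 4) (by norm_num) (hinj x) (hinj y)
    have h0 : g none = none := h 0
    have h1 : g (some 0) = some 0 := h 1
    have hgK : g ∈ stabSets [{(none : GolayPt)}, {(some 0 : GolayPt)}] :=
      ⟨hg, by simp [smul_singleton_eq_iff, h0, h1]⟩
    refine ⟨⟨_, ⟨⟨g, hgK⟩, rfl⟩⟩, Function.Embedding.ext fun i => Subtype.ext ?_⟩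
    fin_cases i
    · exact h 2
    · exact h 3
  have hprim := MulAction.isPreprimitive_of_is_two_pretransitive h2
  refine isSimpleGroup_of_gens _ (fun x => x ≠ none ∧ x ≠ some 0) hKP (fun g hg h => Equiv.ext fun x => ?_) hprim 11 (by norm_num)
    (by rw [hcard]; norm_num) (by rw [← stabIn_m22, card_stabIn_m22]; norm_num)
    (by rw [← stabIn_m22, card_stabIn_m22]; norm_num) _
    ((closure_eq_stabIn m22_ok).trans stabIn_m22) (powOK_spec (by decide +kernel))
  rcases eq_or_ne x none with rfl | hx
  · exact (smul_singleton_eq_iff g none).1 (hg.2 _ (by simp))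
  rcases eq_or_ne x (some 0) with rfl | hx'
  · exact (smul_singleton_eq_iff g _).1 (hg.2 _ (by simp))
  · exact h x ⟨hx, hx'⟩

/-- **`M₂₄` is simple.** -/
theorem isSimpleGroup_M24 : IsSimpleGroup M24 := by
  have e : ↥(MulAction.stabilizer M24 (none : GolayPt)) ≃* ↥(stabSets [{(none : GolayPt)}]) :=
    equivStabSets _ _ (fun g => by rw [mem_stab_pt]; simp)
  have := isSimpleGroup_M23
  have : IsSimpleGroup (MulAction.stabilizer M24 (none : GolayPt)) := isSimpleGroup_congr e.symm
  refine isSimpleGroup_of_stabilizer M24 (fun a b c d hab hcd => ?_) (none : GolayPt)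
    (p := 2) (q := 3) Nat.prime_two Nat.prime_three (by norm_num)
    (by rw [Nat.card_eq_fintype_card]; decide) (by rw [Nat.card_eq_fintype_card]; decide)
  obtain ⟨g, hg, h⟩ := exists_M24_map' (k := 2) (by norm_num) (x := ![a, b]) (y := ![c, d])
    (by intro i j; fin_cases i <;> fin_cases j <;> simp [hab, hab.symm])
    (by intro i j; fin_cases i <;> fin_cases j <;> simp [hcd, hcd.symm])
  exact ⟨g, hg, h 0, h 1⟩

/-- **`M₁₂` is simple.** -/
theorem isSimpleGroup_M12 : IsSimpleGroup (stabSets [Spor.squareDodecad]) := by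
  have hKP : ∀ g ∈ stabSets [Spor.squareDodecad], ∀ x : GolayPt,
      g x ∈ Spor.squareDodecad ↔ x ∈ Spor.squareDodecad := by
    intro g hg x
    conv_lhs => rw [← hg.2 Spor.squareDodecad List.mem_cons_self]
    exact Finset.smul_mem_smul_finset_iff g
  let φ := restrict (stabSets [Spor.squareDodecad]) (fun x => x ∈ Spor.squareDodecad) hKP
  have hinj : Function.Injective φ := by
    rw [← MonoidHom.ker_eq_bot_iff, Subgroup.eq_bot_iff_forall]
    intro g hg
    refine Subtype.ext (eq_one_of_fix_base12 g.2 fun i => ?_)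
    exact congrArg (fun e : Equiv.Perm {x // x ∈ Spor.squareDodecad} =>
      (e ⟨base12 i, base12_mem i⟩ : GolayPt)) (MonoidHom.mem_ker.1 hg)
  let e : ↥(stabSets [Spor.squareDodecad]) ≃* φ.range := MonoidHom.ofInjective hinj
  let a : {x : GolayPt // x ∈ Spor.squareDodecad} := ⟨some 0, zero_mem_squareDodecad⟩
  let ψ : ↥(stabSets [Spor.squareDodecad, {(some 0 : GolayPt)}]) →* MulAction.stabilizer φ.range a :=
    { toFun := fun g => ⟨e ⟨g, stabSets_mono (by simp) g.2⟩, by
        refine MulAction.mem_stabilizer_iff.2 (Subtype.ext ?_)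
        exact (smul_singleton_eq_iff (g : Equiv.Perm GolayPt) (some 0)).1 (g.2.2 _ (by simp))⟩
      map_one' := Subtype.ext (by exact map_one e)
      map_mul' := fun x y => Subtype.ext (by
        exact map_mul e ⟨(x : Equiv.Perm GolayPt), stabSets_mono (by simp) x.2⟩
          ⟨(y : Equiv.Perm GolayPt), stabSets_mono (by simp) y.2⟩) }
  have hψ : Function.Bijective ψ := by
    constructor
    · intro x y h
      have hh := congrArg (fun z : MulAction.stabilizer φ.range a => e.symm (z : φ.range)) h
      simp only [ψ, MonoidHom.coe_mk, OneHom.coe_mk, MulEquiv.symm_apply_apply] at hh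
      exact Subtype.ext (congrArg (fun z : ↥(stabSets [Spor.squareDodecad]) => (z : Equiv.Perm GolayPt)) hh)
    · intro z
      obtain ⟨g, hg⟩ := e.surjective (z : φ.range)
      have hfix : (g : Equiv.Perm GolayPt) (some 0) = some 0 := by
        have := MulAction.mem_stabilizer_iff.1 z.2
        rw [← hg] at this
        exact congrArg Subtype.val this
      refine ⟨⟨g, g.2.1, by simp [smul_singleton_eq_iff, hfix, g.2.2 _ List.mem_cons_self]⟩,
        Subtype.ext ?_⟩
      rw [← hg]; rfl
  have := isSimpleGroup_M11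
  have : IsSimpleGroup (MulAction.stabilizer φ.range a) :=
    isSimpleGroup_congr (MulEquiv.ofBijective ψ hψ)
  have hsimple : IsSimpleGroup φ.range := by
    refine isSimpleGroup_of_stabilizer φ.range (fun p q r s hpq hrs => ?_) a
      (p := 2) (q := 3) Nat.prime_two Nat.prime_three (by norm_num) ?_ ?_
    · obtain ⟨g, hg, h⟩ := exists_M12_map' (k := 2) (by norm_num)
        (x := ![(p : GolayPt), q]) (y := ![(r : GolayPt), s])
        (by intro i j; fin_cases i <;> fin_cases j <;>
          simp [Subtype.coe_injective.ne hpq, (Subtype.coe_injective.ne hpq).symm])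
        (by intro i j; fin_cases i <;> fin_cases j <;>
          simp [Subtype.coe_injective.ne hrs, (Subtype.coe_injective.ne hrs).symm])
        (by intro i; fin_cases i <;> simp [p.2, q.2]) (by intro i; fin_cases i <;> simp [r.2, s.2])
      rw [sporM12_eq] at hg
      exact ⟨φ ⟨g, hg⟩, ⟨_, rfl⟩, Subtype.ext (h 0), Subtype.ext (h 1)⟩
    all_goals
      rw [Nat.card_eq_fintype_card, Fintype.card_coe, card_dodecad squareDodecad_mem]
      norm_num
  exact isSimpleGroup_congr e.symm

/-! ### Arbitrary points and dodecads -/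

/-- The group is transitive on dodecads. -/
theorem exists_M24_dodecad {d : Finset GolayPt} (hd : d ∈ dodecads) :
    ∃ g ∈ M24, g • Spor.squareDodecad = d := by
  have hsub : MulAction.orbit M24 Spor.squareDodecad ⊆ dodecads := by
    rintro x ⟨g, rfl⟩; exact smul_mem_dodecads g.2 squareDodecad_mem
  have heq : MulAction.orbit M24 Spor.squareDodecad = dodecads := by
    refine Set.eq_of_subset_of_ncard_le hsub ?_ (Set.toFinite _)
    have h := Subgroup.card_mul_index (MulAction.stabilizer M24 Spor.squareDodecad)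
    rw [Nat.card_congr (equivStabSets _ [Spor.squareDodecad]
        (fun g => by rw [mem_stab_set]; simp)).toEquiv, ← sporM12_eq, card_sporM12, card_M24,
      MulAction.index_stabilizer] at h
    rw [ncard_dodecads]; omega
  obtain ⟨g, hg⟩ := heq.symm ▸ hd
  exact ⟨g, g.2, hg⟩

theorem exists_M24_dodecad_map {d : Finset GolayPt} (hd : d ∈ dodecads) {k : ℕ} (hk : k ≤ 5)
    {x : Fin k → GolayPt} {y : Fin k → GolayPt} (hx : Function.Injective x)
    (hy : Function.Injective y) (hxd : ∀ i, x i ∈ Spor.squareDodecad) (hyd : ∀ i, y i ∈ d) :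
    ∃ g ∈ M24, g • Spor.squareDodecad = d ∧ ∀ i, g (x i) = y i := by
  obtain ⟨g, hg, hgd⟩ := exists_M24_dodecad hd
  obtain ⟨h, hh, hxy⟩ := exists_M12_map' hk hx (g.symm.injective.comp hy) hxd (fun i => by
    have := hyd i
    rw [← hgd, ← Finset.inv_smul_mem_iff] at this
    exact this)
  rw [sporM12_eq] at hh
  refine ⟨g * h, mul_mem hg hh.1, by rw [mul_smul, hh.2 _ List.mem_cons_self, hgd], fun i => ?_⟩
  rw [Equiv.Perm.mul_apply, hxy, Function.comp_apply, Equiv.apply_symm_apply]

/-- `M₂₃` is the stabiliser of any point. -/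
theorem nonempty_stab1 (p : GolayPt) :
    Nonempty (↥(MulAction.stabilizer M24 p) ≃* ↥(stabSets [{(none : GolayPt)}])) := by
  obtain ⟨g, hg, h⟩ := exists_M24_map' (k := 1) (by norm_num) (x := ![p]) (y := ![none])
    (Function.injective_of_subsingleton _) (Function.injective_of_subsingleton _)
  exact ⟨(equivStabSets _ [{p}] (fun x => by rw [mem_stab_pt]; simp)).trans
    (stabSetsEquiv hg (by simp [Finset.smul_finset_singleton, show g p = none from h 0]))⟩

/-- `M₂₂` is the stabiliser of any two points. -/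
theorem nonempty_stab2 {p q : GolayPt} (hpq : p ≠ q) :
    Nonempty (↥(MulAction.stabilizer M24 p ⊓ MulAction.stabilizer M24 q) ≃*
      ↥(stabSets [{(none : GolayPt)}, {some 0}])) := by
  obtain ⟨g, hg, h⟩ := exists_M24_map' (k := 2) (by norm_num) (x := ![p, q])
    (y := ![none, some 0])
    (by intro i j; fin_cases i <;> fin_cases j <;> simp [hpq, hpq.symm])
    (by decide)
  exact ⟨(equivStabSets _ [{p}, {q}] (fun x => by simp [Subgroup.mem_inf, smul_singleton_eq_iff, Subgroup.smul_def])).trans
    (stabSetsEquiv hg (by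
      simp [Finset.smul_finset_singleton, show g p = none from h 0, show g q = some 0 from h 1]))⟩

/-- The stabiliser of any three points. -/
theorem nonempty_stab3 {p q r : GolayPt} (hpq : p ≠ q) (hpr : p ≠ r) (hqr : q ≠ r) :
    Nonempty (↥(MulAction.stabilizer M24 p ⊓ MulAction.stabilizer M24 q ⊓
      MulAction.stabilizer M24 r) ≃* ↥(stabSets [{(none : GolayPt)}, {some 0}, {some 1}])) := by
  obtain ⟨g, hg, h⟩ := exists_M24_map' (k := 3) (by norm_num) (x := ![p, q, r])
    (y := ![none, some 0, some 1])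
    (by intro i j; fin_cases i <;> fin_cases j <;>
      simp [hpq, hpq.symm, hpr, hpr.symm, hqr, hqr.symm])
    (by decide)
  exact ⟨(equivStabSets _ [{p}, {q}, {r}]
    (fun x => by simp [Subgroup.mem_inf, smul_singleton_eq_iff, Subgroup.smul_def, and_assoc])).trans
    (stabSetsEquiv hg (by
      simp [Finset.smul_finset_singleton, show g p = none from h 0, show g q = some 0 from h 1,
        show g r = some 1 from h 2]))⟩

/-- `M₁₂` is the stabiliser of any dodecad. -/
theorem nonempty_stabDodecad {d : Finset GolayPt} (hd : d ∈ dodecads) :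
    Nonempty (↥(MulAction.stabilizer M24 d) ≃* ↥(stabSets [Spor.squareDodecad])) := by
  obtain ⟨g, hg, h⟩ := exists_M24_dodecad hd
  exact ⟨(equivStabSets _ [d] (fun x => by rw [mem_stab_set]; simp)).trans
    (stabSetsEquiv (inv_mem hg) (by simp [← h, inv_smul_smul]))⟩

/-- `M₁₁` is the stabiliser of any dodecad and a point of it. -/
theorem nonempty_stabDodecadPoint {d : Finset GolayPt} (hd : d ∈ dodecads) {p : GolayPt}
    (hp : p ∈ d) : Nonempty (↥(MulAction.stabilizer M24 d ⊓ MulAction.stabilizer M24 p) ≃*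
      ↥(stabSets [Spor.squareDodecad, {some 0}])) := by
  obtain ⟨g, hg, hgd, h⟩ := exists_M24_dodecad_map hd (k := 1) (by norm_num) (x := ![some 0])
    (y := ![p]) (Function.injective_of_subsingleton _) (Function.injective_of_subsingleton _)
    (fun i => by fin_cases i; exact zero_mem_squareDodecad) (fun i => by fin_cases i; exact hp)
  have h0 : g (some 0) = p := h 0
  exact ⟨(equivStabSets _ [d, {p}] (fun x => by simp [Subgroup.mem_inf, smul_singleton_eq_iff, Subgroup.smul_def])).trans
    (stabSetsEquiv (inv_mem hg) (by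
      simp [← hgd, ← h0, inv_smul_smul, Finset.smul_finset_singleton]))⟩

/-! ### Order-level predicates -/

theorem isSimpleGroup_sporM23 : IsSimpleGroup Spor.M23 :=
  sporM23_eq.symm ▸ isSimpleGroup_M23

theorem isSimpleGroup_sporM22 : IsSimpleGroup Spor.M22 :=
  sporM22_eq.symm ▸ isSimpleGroup_M22

theorem isSimpleGroup_sporM12 : IsSimpleGroup Spor.M12 :=
  sporM12_eq.symm ▸ isSimpleGroup_M12

theorem isSimpleGroup_sporM11 : IsSimpleGroup Spor.M11 :=
  sporM11_eq.symm ▸ isSimpleGroup_M11

end Cfsg.Agent.Golay
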