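/-
Coded permutations: products, powers, forward images.
-/
import Cfsg.Agent.Lib.Golay.Mathieu

set_option linter.unusedSectionVars false

namespace Cfsg.Agent.Golay.SB

open Cfsg Cfsg.Agent.PermCert Cfsg.Agent.Golay
open scoped Pointwise

/-- The forward codes of two products agree. -/
theorem permOf_mul_eq_mul {a b c d : Elt} (ha : validElt 5 24 a = true)
    (hb : validElt 5 24 b = true) (hc : validElt 5 24 c = true) (hd : validElt 5 24 d = true)
    (h : (mul 5 24 a b).1 = (mul 5 24 c d).1) : permOf a * permOf b = permOf c * permOf d := by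
  simp only [permOf, ← map_mul]
  exact congrArg phi (rep_eq_code (rep_mul (rep_toPerm ha) (rep_toPerm hb))
    (rep_mul (rep_toPerm hc) (rep_toPerm hd)) h)

theorem permOf_mul_eq {a b c : Elt} (ha : validElt 5 24 a = true)
    (hb : validElt 5 24 b = true) (hc : validElt 5 24 c = true)
    (h : (mul 5 24 a b).1 = c.1) : permOf a * permOf b = permOf c := by
  simp only [permOf, ← map_mul]
  exact congrArg phi (rep_eq_code (rep_mul (rep_toPerm ha) (rep_toPerm hb)) (rep_toPerm hc) h)

theorem permOf_mul_eq_one {a b : Elt} (ha : validElt 5 24 a = true)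
    (hb : validElt 5 24 b = true) (h : (mul 5 24 a b).1 = idCode 5 24) :
    permOf a * permOf b = 1 := by
  simp only [permOf, ← map_mul]
  rw [rep_eq_code (rep_mul (rep_toPerm ha) (rep_toPerm hb)) (rep_one (w := 5) (by norm_num)) h,
    map_one]

theorem permOf_eq_one {a : Elt} (ha : validElt 5 24 a = true) (h : a.1 = idCode 5 24) :
    permOf a = 1 := by
  rw [permOf, rep_eq_code (rep_toPerm ha) (rep_one (w := 5) (by norm_num)) h, map_one]

theorem permOf_injective {a b : Elt} (ha : validElt 5 24 a = true) (hb : validElt 5 24 b = true)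
    (h : permOf a = permOf b) (i : ℕ) (hi : i < 24) : get 5 a.1 i = get 5 b.1 i := by
  have := congrArg (fun σ : Equiv.Perm GolayPt => idx (σ (pt ⟨i, hi⟩))) h
  simpa only [idx_permOf ha, idx_permOf hb, idx_pt] using this

/-- The two coded permutations commute. -/
def commB (a b : Elt) : Bool := Nat.beq (mul 5 24 a b).1 (mul 5 24 b a).1

theorem commB_spec {a b : Elt} (ha : validElt 5 24 a = true) (hb : validElt 5 24 b = true)
    (h : commB a b = true) : Commute (permOf a) (permOf b) :=
  permOf_mul_eq_mul ha hb hb ha (Nat.eq_of_beq_eq_true h)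

theorem pack_eq_of_get {a b : ℕ} (h : ∀ i < 24, get 5 a i = get 5 b i) :
    pack 5 (get 5 a) 24 = pack 5 (get 5 b) 24 := by
  suffices ∀ n ≤ 24, pack 5 (get 5 a) n = pack 5 (get 5 b) n from this 24 le_rfl
  intro n
  induction n with
  | zero => intro _; rfl
  | succ n ih => intro hn; rw [pack_succ, pack_succ, ih (by omega), h n (by omega)]

/-- The coded permutation is an involution. -/
def involB (a : Elt) : Bool :=
  Nat.beq (mul 5 24 a a).1 (idCode 5 24) && !(allBelow (fun i => Nat.beq (get 5 a.1 i) i) 24)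

theorem involB_spec {a : Elt} (ha : validElt 5 24 a = true) (h : involB a = true) :
    orderOf (permOf a) = 2 := by
  simp only [involB, Bool.and_eq_true, Bool.not_eq_true', Nat.beq_eq] at h
  haveI : Fact (Nat.Prime 2) := ⟨Nat.prime_two⟩
  refine orderOf_eq_prime (by rw [sq]; exact permOf_mul_eq_one ha ha h.1) fun h1 => ?_
  have hall : allBelow (fun i => Nat.beq (get 5 a.1 i) i) 24 = true := by
    have h2 : ∀ i, i < 24 → get 5 a.1 i = i := fun i hi => by
      have := congrArg (fun σ : Equiv.Perm GolayPt => idx (σ (pt ⟨i, hi⟩))) h1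
      simpa [idx_permOf ha, idx_pt] using this
    revert h2
    generalize get 5 a.1 = f
    intro h2
    suffices ∀ n ≤ 24, allBelow (fun i => Nat.beq (f i) i) n = true from this 24 le_rfl
    intro n
    induction n with
    | zero => intro _; rfl
    | succ n ih =>
      intro hn
      show (allBelow (fun i => Nat.beq (f i) i) n && Nat.beq (f n) n) = true
      rw [ih (by omega), Bool.true_and, h2 n (by omega)]
      simp
  rw [h.2] at hall
  exact Bool.false_ne_true hall

/-- Iterated image of a point index. -/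
def powPt (f : ℕ) (j q : ℕ) : ℕ := Nat.rec q (fun _ v => get 5 f v) j

theorem idx_pow_apply {a : Elt} (ha : validElt 5 24 a = true) (j : ℕ) (q : GolayPt) :
    idx ((permOf a ^ j) q) = powPt a.1 j (idx q) := by
  induction j with
  | zero => simp [powPt]
  | succ j ih =>
    rw [pow_succ', Equiv.Perm.mul_apply, idx_permOf ha, ih]
    rfl

/-- The forward image of a mask. -/
def fwdMask (f m : ℕ) : ℕ :=
  Nat.rec 0 (fun i acc => bif m.testBit i then acc ||| 1 <<< (get 5 f i) else acc) 24

theorem testBit_fwd (f m : ℕ) (n : ℕ) (j : ℕ) :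
    (Nat.rec 0 (fun i acc => bif m.testBit i then acc ||| 1 <<< (get 5 f i) else acc) n :
      ℕ).testBit j = true ↔ ∃ i < n, m.testBit i = true ∧ get 5 f i = j := by
  induction n with
  | zero => simp
  | succ n ih =>
    show (bif m.testBit n then _ else _ : ℕ).testBit j = true ↔ _
    constructor
    · intro h
      cases hb : m.testBit n
      · rw [hb, cond_false, ih] at h
        obtain ⟨i, hi, h⟩ := h
        exact ⟨i, by omega, h⟩
      · rw [hb, cond_true, Nat.testBit_or, Bool.or_eq_true, ih, Nat.one_shiftLeft,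
          Nat.testBit_two_pow, decide_eq_true_eq] at h
        rcases h with ⟨i, hi, h⟩ | h
        · exact ⟨i, by omega, h⟩
        · exact ⟨n, by omega, hb, h⟩
    · rintro ⟨i, hi, hm, hf⟩
      rcases Nat.lt_succ_iff_lt_or_eq.1 hi with hlt | rfl
      · have := ih.2 ⟨i, hlt, hm, hf⟩
        cases m.testBit n
        · exact this
        · rw [cond_true, Nat.testBit_or, this, Bool.true_or]
      · rw [hm, cond_true, Nat.testBit_or, Nat.one_shiftLeft, Nat.testBit_two_pow]
        simp [hf]

theorem maskSet_fwdMask {σ : Equiv.Perm GolayPt} {f : ℕ}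
    (hf : ∀ q : GolayPt, get 5 f (idx q) = idx (σ q)) (m : ℕ) :
    maskSet (fwdMask f m) = σ • maskSet m := by
  ext q
  rw [mem_maskSet, fwdMask, testBit_fwd, ← Finset.inv_smul_mem_iff, mem_maskSet]
  constructor
  · rintro ⟨i, hi, hm, hfi⟩
    have h := hf (pt ⟨i, hi⟩)
    rw [idx_pt, hfi] at h
    rw [idx_injective h]
    simpa [idx_pt] using hm
  · intro h
    refine ⟨idx (σ⁻¹ • q), idx_lt _, h, ?_⟩
    rw [hf]
    simp

theorem fwdMask_lt (f m : ℕ) (hf : ∀ i < 24, get 5 f i < 24) : fwdMask f m < 2 ^ 24 := by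
  refine Nat.lt_pow_two_of_testBit _ fun i hi => ?_
  by_contra h
  rw [Bool.not_eq_false, fwdMask, testBit_fwd] at h
  obtain ⟨j, hj, -, hji⟩ := h
  have := hf j hj
  omega

/-- The images of the basis are code words. -/
def codeImgB (f : ℕ) : Bool := gBasis.all fun v => inCode (fwdMask f v.2)

theorem codeImgB_of_mem {σ : Equiv.Perm GolayPt} (hσ : σ ∈ M24) {f : ℕ}
    (hf : ∀ q : GolayPt, get 5 f (idx q) = idx (σ q)) : codeImgB f = true := by
  have hlt : ∀ i < 24, get 5 f i < 24 := fun i hi => by
    have := hf (pt ⟨i, hi⟩)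
    rw [idx_pt] at this
    exact this ▸ idx_lt _
  refine List.all_eq_true.2 fun v hv => inCode_iff.2 ?_
  have hb : v.2 ∈ codeList := inCode_iff.1 (List.all_eq_true.1
    (by decide +kernel : gBasis.all (fun v => inCode v.2) = true) v hv)
  obtain ⟨m, hm, he⟩ := mem_supports.1
    (mem_M24_iff.1 hσ _ (mem_supports.2 ⟨v.2, hb, rfl⟩))
  rw [← maskSet_fwdMask hf] at he
  rw [← maskSet_inj (lt_of_mem_codeList hm) (fwdMask_lt f v.2 hlt) he]
  exact hm

end Cfsg.Agent.Golay.SB
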