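/-
Upper bounds for the normalisers of subgroups of prime order.
-/
import Cfsg.Agent.Lib.Golay.SingleBlockBase
import Mathlib.GroupTheory.GroupAction.Basic

set_option linter.unusedSectionVars false

namespace Cfsg.Agent.Golay.SB

open Cfsg Cfsg.Agent.PermCert Cfsg.Agent.Golay
open scoped Pointwise

/-- An element of prime order with its orbit table. -/
structure Orb where
  p : ℕ
  x : Elt
  fix : ℕ
  reps : List ℕ
  tbl : List (ℕ × ℕ)

namespace Orb

variable (O : Orb)

/-- Orbit number. -/
def orb (i : ℕ) : ℕ := (O.tbl.getD i (0, 0)).1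

/-- Exponent. -/
def ex (i : ℕ) : ℕ := (O.tbl.getD i (0, 0)).2

/-- The moved points. -/
def moving : List ℕ := (List.range 24).filter fun i => !(O.fix.testBit i)

/-- Candidate images of the first orbit representatives. -/
def cands : ℕ → List (List ℕ)
  | 0 => O.reps.map fun q => [q]
  | n + 1 => (cands n).flatMap fun l =>
      (O.moving.filter fun q => l.all fun a => !(Nat.beq (O.orb a) (O.orb q))).map fun q => l ++ [q]

/-- The code of the map sending the representatives to `l` and twisting by `k`. -/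
def mapCode (k : ℕ) (l : List ℕ) : ℕ :=
  pack 5 (fun i => bif O.fix.testBit i then i else
    powPt O.x.1 (k * O.ex i % O.p) (l.getD (O.orb i) 0)) 24

/-- The candidates lying in the group of the code. -/
def valid : List ℕ :=
  (List.range' 1 (O.p - 1)).flatMap fun k =>
    ((O.cands (O.reps.length - 1)).map fun l => O.mapCode k l).filter codeImgB

/-- The table is correct. -/
def ok : Bool :=
  validElt 5 24 O.x && Nat.blt 1 O.p && Nat.blt 0 O.reps.length &&
    allBelow (fun i => Nat.beq (powPt O.x.1 O.p i) i) 24 &&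
    allBelow (fun i => Nat.beq (get 5 O.x.1 i) i == O.fix.testBit i) 24 &&
    allBelow (fun i => O.fix.testBit i ||
      (Nat.blt (O.orb i) O.reps.length && Nat.blt (O.ex i) O.p &&
        Nat.beq (powPt O.x.1 (O.ex i) (O.reps.getD (O.orb i) 0)) i)) 24 &&
    allBelow (fun a => Nat.blt (O.reps.getD a 0) 24 && allBelow (fun j =>
      !(O.fix.testBit (powPt O.x.1 j (O.reps.getD a 0))) &&
        Nat.beq (O.orb (powPt O.x.1 j (O.reps.getD a 0))) a) O.p) O.reps.length &&
    !(allBelow (fun i => Nat.beq (get 5 O.x.1 i) i) 24)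

/-- The elements of the code's group fixing the fixed points and normalising the cyclic group. -/
def nF : Set (Equiv.Perm GolayPt) :=
  {c | c ∈ M24 ∧ (∀ q, O.fix.testBit (idx q) = true → c q = q) ∧
    ∃ k, 0 < k ∧ k < O.p ∧ c * permOf O.x * c⁻¹ = permOf O.x ^ k}

variable {O}

theorem ok_valid (h : O.ok = true) : validElt 5 24 O.x = true := by
  simp only [ok, Bool.and_eq_true] at h; tauto

theorem ok_one_lt (h : O.ok = true) : 1 < O.p := by
  simp only [ok, Bool.and_eq_true, Nat.blt_eq] at h; tauto

theorem ok_pow (h : O.ok = true) : permOf O.x ^ O.p = 1 := by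
  have hv := ok_valid h
  simp only [ok, Bool.and_eq_true] at h
  refine Equiv.ext fun q => idx_injective ?_
  rw [idx_pow_apply hv]
  exact Nat.eq_of_beq_eq_true (allBelow_spec _ _ h.1.1.1.1.2 (idx q) (idx_lt q))

theorem ok_ne (h : O.ok = true) : permOf O.x ≠ 1 := by
  have hv := ok_valid h
  simp only [ok, Bool.and_eq_true, Bool.not_eq_true'] at h
  intro h1
  have hall : ∀ i, i < 24 → Nat.beq (get 5 O.x.1 i) i = true := fun i hi => by
    have := idx_permOf hv (pt ⟨i, hi⟩)
    rw [h1, Equiv.Perm.one_apply, idx_pt] at this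
    rw [← this]; simp
  have : ∀ n ≤ 24, allBelow (fun i => Nat.beq (get 5 O.x.1 i) i) n = true := by
    intro n
    induction n with
    | zero => intro _; rfl
    | succ n ih =>
      intro hn
      show (allBelow _ n && _) = true
      rw [ih (by omega), Bool.true_and]
      exact hall n (by omega)
  rw [this 24 le_rfl] at h
  exact Bool.false_ne_true h.2.symm

theorem orderOf_permOf (h : O.ok = true) (hp : O.p.Prime) : orderOf (permOf O.x) = O.p := by
  haveI := Fact.mk hp
  exact orderOf_eq_prime (ok_pow h) (ok_ne h)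

theorem fix_iff (h : O.ok = true) (q : GolayPt) :
    O.fix.testBit (idx q) = true ↔ permOf O.x q = q := by
  have hv := ok_valid h
  simp only [ok, Bool.and_eq_true] at h
  have := allBelow_spec _ _ h.1.1.1.2 (idx q) (idx_lt q)
  simp only [beq_iff_eq] at this
  rw [← this, Nat.beq_eq, ← idx_permOf hv, idx_injective.eq_iff]

theorem orb_spec (h : O.ok = true) (i : ℕ) (hi : i < 24) (hm : O.fix.testBit i = false) :
    O.orb i < O.reps.length ∧ O.ex i < O.p ∧
      powPt O.x.1 (O.ex i) (O.reps.getD (O.orb i) 0) = i := by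
  simp only [ok, Bool.and_eq_true] at h
  have := allBelow_spec _ _ h.1.1.2 i hi
  simpa [hm, and_assoc] using this

theorem rep_spec (h : O.ok = true) (a : ℕ) (ha : a < O.reps.length) :
    O.reps.getD a 0 < 24 ∧ ∀ j < O.p,
      O.fix.testBit (powPt O.x.1 j (O.reps.getD a 0)) = false ∧
        O.orb (powPt O.x.1 j (O.reps.getD a 0)) = a := by
  simp only [ok, Bool.and_eq_true] at h
  have := allBelow_spec _ _ h.1.2 a ha
  simp only [Bool.and_eq_true, Nat.blt_eq] at this
  refine ⟨this.1, fun j hj => ?_⟩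
  simpa using allBelow_spec _ _ this.2 j hj

/-- The representatives as points. -/
noncomputable def repPt (O : Orb) (a : ℕ) : GolayPt := pt (Fin.ofNat 24 (O.reps.getD a 0))

theorem idx_repPt (h : O.ok = true) {a : ℕ} (ha : a < O.reps.length) :
    idx (O.repPt a) = O.reps.getD a 0 := by
  rw [repPt, idx_pt, Fin.val_ofNat, Nat.mod_eq_of_lt (rep_spec h a ha).1]

theorem eq_pow_rep (h : O.ok = true) (q : GolayPt) (hq : O.fix.testBit (idx q) = false) :
    O.orb (idx q) < O.reps.length ∧
      q = (permOf O.x ^ O.ex (idx q)) (O.repPt (O.orb (idx q))) := by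
  obtain ⟨h1, -, h3⟩ := orb_spec h _ (idx_lt q) hq
  refine ⟨h1, idx_injective ?_⟩
  rw [idx_pow_apply (ok_valid h), idx_repPt h h1, h3]

theorem orb_pow (h : O.ok = true) (q : GolayPt) (hq : O.fix.testBit (idx q) = false) (m : ℕ) :
    O.fix.testBit (idx ((permOf O.x ^ m) q)) = false ∧
      O.orb (idx ((permOf O.x ^ m) q)) = O.orb (idx q) := by
  obtain ⟨ha, he⟩ := eq_pow_rep h q hq
  have hp : 0 < O.p := Nat.lt_trans Nat.zero_lt_one (ok_one_lt h)
  have e : (permOf O.x ^ m) q =
      (permOf O.x ^ ((m + O.ex (idx q)) % O.p)) (O.repPt (O.orb (idx q))) := by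
    conv_lhs => arg 2; rw [he]
    rw [← Equiv.Perm.mul_apply, ← pow_add, pow_eq_pow_mod (m + O.ex (idx q)) (ok_pow h)]
  rw [e, idx_pow_apply (ok_valid h), idx_repPt h ha]
  exact (rep_spec h _ ha).2 _ (Nat.mod_lt _ hp)

/-- The code of a permutation. -/
noncomputable def codeOf (c : Equiv.Perm GolayPt) : ℕ :=
  pack 5 (fun i => idx (c (pt (Fin.ofNat 24 i)))) 24

theorem get_codeOf (c : Equiv.Perm GolayPt) (q : GolayPt) :
    get 5 (codeOf c) (idx q) = idx (c q) := by
  rw [codeOf, get_pack _ _ _ _ (idx_lt q)]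
  rw [show pt (Fin.ofNat 24 (idx q)) = q from by
    rw [show Fin.ofNat 24 (idx q) = ⟨idx q, idx_lt q⟩ from
      Fin.ext (by simp [Fin.val_ofNat, Nat.mod_eq_of_lt (idx_lt q)]), pt_idx]]
  exact Nat.mod_eq_of_lt (lt_of_lt_of_le (idx_lt _) (by norm_num))

theorem codeOf_injective : Function.Injective codeOf := fun c d h =>
  Equiv.ext fun q => idx_injective (by rw [← get_codeOf c, h, get_codeOf])

theorem pack_congr {f g : ℕ → ℕ} : ∀ n, (∀ i < n, f i = g i) → pack 5 f n = pack 5 g n := by
  intro n
  induction n with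
  | zero => intro _; rfl
  | succ n ih => intro h; rw [pack_succ, pack_succ, ih fun i hi => h i (by omega), h n (by omega)]

theorem code_mem_valid (h : O.ok = true) (hp : O.p.Prime) {c : Equiv.Perm GolayPt}
    (hc : c ∈ O.nF) (h0 : ∃ a < O.reps.length, c (O.repPt 0) = O.repPt a) :
    codeOf c ∈ O.valid := by
  obtain ⟨hcM, hfix, k, hk0, hkp, hk⟩ := hc
  have hv := ok_valid h
  have hp0 : 0 < O.p := hp.pos
  have hpow : ∀ (j : ℕ) (q : GolayPt), c ((permOf O.x ^ j) q) = (permOf O.x ^ (k * j)) (c q) := by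
    intro j q
    have : c * permOf O.x ^ j * c⁻¹ = permOf O.x ^ (k * j) := by rw [← conj_pow, hk, pow_mul]
    rw [← this]; simp [Equiv.Perm.mul_apply]
  have hmove : ∀ q, O.fix.testBit (idx q) = false → O.fix.testBit (idx (c q)) = false := by
    intro q hq
    rw [Bool.eq_false_iff]
    intro h'
    have := hfix _ h'
    rw [c.injective this, hq] at h'
    exact Bool.false_ne_true h'
  have hrep : ∀ a < O.reps.length, O.fix.testBit (idx (O.repPt a)) = false ∧
      O.orb (idx (O.repPt a)) = a := fun a ha => by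
    rw [idx_repPt h ha]
    exact (rep_spec h a ha).2 0 hp0
  set img := fun a : ℕ => idx (c (O.repPt a)) with himg
  have hcand : ∀ n < O.reps.length, (List.range (n + 1)).map img ∈ O.cands n := by
    intro n
    induction n with
    | zero =>
      intro hn
      obtain ⟨a, ha, he⟩ := h0
      rw [cands, List.mem_map]
      refine ⟨O.reps.getD a 0, ?_, ?_⟩
      · rw [List.getD_eq_getElem _ _ ha]; exact List.getElem_mem _
      · simp [himg, he, idx_repPt h ha, List.range_succ]
    | succ n ih =>
      intro hn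
      rw [cands, List.mem_flatMap]
      refine ⟨_, ih (by omega), List.mem_map.2 ⟨img (n + 1), List.mem_filter.2 ⟨?_, ?_⟩, ?_⟩⟩
      · refine List.mem_filter.2 ⟨List.mem_range.2 (idx_lt _), ?_⟩
        simp [himg, hmove _ (hrep _ hn).1]
      · refine List.all_eq_true.2 fun b hb => ?_
        obtain ⟨a, ha, rfl⟩ := List.mem_map.1 hb
        rw [List.mem_range] at ha
        simp only [Bool.not_eq_true', himg]
        rw [Bool.eq_false_iff]
        intro heq
        have heq' := Nat.eq_of_beq_eq_true heq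
        have hma := hmove _ (hrep a (by omega)).1
        have hmn := hmove _ (hrep _ hn).1
        obtain ⟨-, ea⟩ := eq_pow_rep h _ hma
        obtain ⟨-, en⟩ := eq_pow_rep h _ hmn
        rw [heq'] at ea
        obtain ⟨j, hj⟩ : ∃ j, c (O.repPt (n + 1)) = (permOf O.x ^ j) (c (O.repPt a)) := by
          refine ⟨O.ex (idx (c (O.repPt (n + 1)))) + (O.p - O.ex (idx (c (O.repPt a)))), ?_⟩
          conv_rhs => arg 2; rw [ea]
          rw [← Equiv.Perm.mul_apply, ← pow_add, Nat.add_assoc,
            Nat.sub_add_cancel (orb_spec h _ (idx_lt _) hma).2.1.le, pow_add, ok_pow h, mul_one]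
          exact en
        obtain ⟨m, -, hm⟩ := Nat.exists_mul_mod_eq_one_of_coprime
          ((hp.coprime_iff_not_dvd.2 (Nat.not_dvd_of_pos_of_lt hk0 hkp)).symm) hp.one_lt
        have hji : (k * (m * j)) % O.p = j % O.p := by
          rw [← mul_assoc, Nat.mul_mod, hm, one_mul, Nat.mod_mod]
        have h2 : O.repPt (n + 1) = (permOf O.x ^ (m * j)) (O.repPt a) := by
          refine c.injective ?_
          rw [hpow, pow_eq_pow_mod (k * (m * j)) (ok_pow h), hji, ← pow_eq_pow_mod j (ok_pow h), hj]
        have h3 := (hrep _ hn).2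
        rw [h2, (orb_pow h _ (hrep a (by omega)).1 _).2, (hrep a (by omega)).2] at h3
        omega
      · rw [List.range_succ (n := n + 1), List.map_append]
        rfl
  have hlen : 0 < O.reps.length := by
    simp only [ok, Bool.and_eq_true, Nat.blt_eq] at h; tauto
  refine List.mem_flatMap.2 ⟨k, List.mem_range'_1.2 ⟨hk0, by omega⟩,
    List.mem_filter.2 ⟨List.mem_map.2 ⟨_, hcand (O.reps.length - 1) (by omega), ?_⟩,
      codeImgB_of_mem hcM (get_codeOf c)⟩⟩
  rw [mapCode, codeOf, Nat.sub_add_cancel hlen]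
  refine pack_congr 24 fun i hi => ?_
  have hq : idx (pt (Fin.ofNat 24 i)) = i := by
    rw [idx_pt, Fin.val_ofNat, Nat.mod_eq_of_lt hi]
  cases hb : O.fix.testBit i
  · obtain ⟨hlt, he⟩ := eq_pow_rep h (pt (Fin.ofNat 24 i)) (by rw [hq]; exact hb)
    rw [hq] at hlt he
    rw [cond_false, List.getD_eq_getElem _ _ (by simpa using hlt)]
    simp only [List.getElem_map, List.getElem_range, himg]
    conv_rhs => rw [he, hpow, pow_eq_pow_mod _ (ok_pow h), idx_pow_apply hv]
  · rw [cond_true, hfix _ (by rw [hq]; exact hb), hq]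

/-- The order of the part of the normaliser fixing the fixed points. -/
theorem ncard_nF_le (h : O.ok = true) (hp : O.p.Prime) (hxM : permOf O.x ∈ M24) {b : ℕ} (hb : O.valid.length ≤ b) :
    O.nF.ncard ≤ O.p * b := by
  classical
  have hp0 : 0 < O.p := hp.pos
  have hlen : 0 < O.reps.length := by
    simp only [ok, Bool.and_eq_true, Nat.blt_eq] at h; tauto
  have hex : ∀ c ∈ O.nF, ∃ j < O.p, codeOf (permOf O.x ^ j * c) ∈ O.valid := by
    intro c hc
    have hv := ok_valid h
    have hq : O.fix.testBit (idx (O.repPt 0)) = false := by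
      rw [idx_repPt h hlen]; exact ((rep_spec h 0 hlen).2 0 hp0).1
    have hcq : O.fix.testBit (idx (c (O.repPt 0))) = false := by
      rw [Bool.eq_false_iff]
      intro h'
      have := hc.2.1 _ h'
      rw [c.injective this, hq] at h'
      exact Bool.false_ne_true h'
    obtain ⟨hlt, he⟩ := eq_pow_rep h _ hcq
    set e := O.ex (idx (c (O.repPt 0)))
    refine ⟨(O.p - e) % O.p, Nat.mod_lt _ hp0, code_mem_valid h hp ?_ ⟨_, hlt, ?_⟩⟩
    · obtain ⟨hM, hfix, k, hk0, hkp, hk⟩ := hc
      refine ⟨mul_mem (pow_mem ?_ _) hM, fun q hq => ?_, k, hk0, hkp, ?_⟩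
      · exact hxM
      · have hfx := (fix_iff h q).1 hq
        rw [Equiv.Perm.mul_apply, hfix q hq]
        exact Function.IsFixedPt.iterate (f := permOf O.x) hfx _ |> fun h => by
          rwa [← Equiv.Perm.coe_pow] at h
      · calc permOf O.x ^ ((O.p - e) % O.p) * c * permOf O.x *
              (permOf O.x ^ ((O.p - e) % O.p) * c)⁻¹
            = permOf O.x ^ ((O.p - e) % O.p) * (c * permOf O.x * c⁻¹) *
              (permOf O.x ^ ((O.p - e) % O.p))⁻¹ := by group
          _ = permOf O.x ^ k := by
            rw [hk, ← pow_add, add_comm, pow_add, mul_inv_cancel_right]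
    · rw [Equiv.Perm.mul_apply, ← pow_eq_pow_mod _ (ok_pow h)]
      conv_lhs => arg 2; rw [he]
      rw [← Equiv.Perm.mul_apply, ← pow_add, Nat.sub_add_cancel (orb_spec h _ (idx_lt _) hcq).2.1.le,
        ok_pow h, Equiv.Perm.one_apply]
  choose j hj hjv using hex
  let S : Finset (ℕ × ℕ) := Finset.range O.p ×ˢ O.valid.toFinset
  calc O.nF.ncard ≤ (S : Set (ℕ × ℕ)).ncard := by
        refine Set.ncard_le_ncard_of_injOn
          (fun c => if hc : c ∈ O.nF then (j c hc, codeOf (permOf O.x ^ j c hc * c)) else (0, 0))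
          (fun c hc => ?_) (fun c hc d hd he => ?_) (Finset.finite_toSet _)
        · simp only [dif_pos hc, S, Finset.coe_product, Set.mem_prod, Finset.coe_range,
            Set.mem_Iio, Finset.mem_coe, List.mem_toFinset]
          exact ⟨hj c hc, hjv c hc⟩
        · simp only [dif_pos hc, dif_pos hd, Prod.mk.injEq] at he
          obtain ⟨h1, h2⟩ := he
          rw [h1] at h2
          exact mul_left_cancel (codeOf_injective h2)
    _ ≤ O.p * b := by
        rw [Set.ncard_coe_finset, Finset.card_product, Finset.card_range]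
        exact Nat.mul_le_mul_left _ ((List.toFinset_card_le _).trans hb)

end Orb

end Cfsg.Agent.Golay.SB
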