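import Mathlib.GroupTheory.Sylow
import Mathlib.GroupTheory.Subgroup.Centralizer
import Mathlib.GroupTheory.Transfer
import Mathlib.Tactic

/-!
A simplicity criterion from a simple subgroup containing a self-centralising subgroup of prime
order, and a restriction on normal subgroups meeting the simple subgroup trivially.
-/

namespace Cfsg.Agent.SylowSimple

open Subgroup
open scoped Pointwise

variable {G : Type*} [Group G] [Finite G] {p : ℕ} [hp : Fact p.Prime] {x : G}

/-- `x` commutes only with its own powers. -/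
def SelfCentral (x : G) : Prop := ∀ g : G, g * x = x * g → g ∈ zpowers x

/-- The normaliser of a self-centralising subgroup of order `p` has order `p d` with `d ∣ p - 1`
and the congruence of Sylow's theorem. -/
theorem card_normalizer (hx : orderOf x = p) (hC : SelfCentral x) (hsq : ¬ p ^ 2 ∣ Nat.card G) :
    ∃ d, d ∣ p - 1 ∧ Nat.card (normalizer (zpowers x : Set G)) = p * d ∧
      p * d ∣ Nat.card G ∧ Nat.card G / (p * d) % p = 1 := by
  set N := normalizer (zpowers x : Set G) with hN
  have hcz : Nat.card (zpowers x) = p := by rw [Nat.card_zpowers, hx]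
  let f := (zpowers x).normalizerMonoidHom
  have hker : f.ker = (zpowers x).subgroupOf N := by
    rw [normalizerMonoidHom_ker]
    ext g
    simp only [mem_subgroupOf]
    refine ⟨fun h => hC _ (Subgroup.mem_centralizer_iff.1 h x (mem_zpowers x)).symm, fun h => ?_⟩
    refine Subgroup.mem_centralizer_iff.2 fun y hy => ?_
    obtain ⟨i, rfl⟩ := mem_zpowers_iff.1 hy
    obtain ⟨j, hj⟩ := mem_zpowers_iff.1 h
    rw [← hj, ← zpow_add, ← zpow_add, add_comm]
  have hle : zpowers x ≤ N := le_normalizer
  have hAut : Nat.card (MulAut (zpowers x)) = p - 1 := by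
    rw [IsCyclic.card_mulAut, hcz, Nat.totient_prime hp.out]
  have h1 : Nat.card f.range ∣ p - 1 := hAut ▸ f.range.card_subgroup_dvd_card
  have h2 : Nat.card N = p * Nat.card f.range := by
    rw [← f.ker.card_mul_index, index_ker, hker, Nat.card_congr (subgroupOfEquivOfLe hle).toEquiv, hcz]
  have h3 : p * Nat.card f.range ∣ Nat.card G := h2 ▸ N.card_subgroup_dvd_card
  refine ⟨_, h1, h2, h3, ?_⟩
  have hfac : (Nat.card G).factorization p = 1 := by
    have h := (hp.out.pow_dvd_iff_le_factorization (Nat.card_pos (α := G)).ne').not.1 hsq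
    have h' := (hp.out.dvd_iff_one_le_factorization (Nat.card_pos (α := G)).ne').1
      (hx ▸ orderOf_dvd_natCard x)
    omega
  let P : Sylow p G := Sylow.ofCard (zpowers x) (by rw [hcz, hfac, pow_one])
  have hidx : N.index = Nat.card G / (p * Nat.card f.range) := by
    rw [← h2, ← N.card_mul_index, Nat.mul_div_cancel_left _ Nat.card_pos]
  have hs : Nat.card (Sylow p G) = N.index := by
    rw [P.card_eq_index_normalizer, hN,
      show (P : Set G) = ((zpowers x : Subgroup G) : Set G) from rfl]
  have hm := card_sylow_modEq_one p G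
  rw [hs, hidx] at hm
  exact Eq.trans hm (Nat.one_mod_eq_one.2 hp.out.ne_one)

/-- Sylow subgroups of a normal subgroup on which `x` has no fixed points. -/
theorem sylow_card_mod (N : Subgroup G) [N.Normal] (hx : orderOf x = p)
    (hC : ∀ n ∈ N, n * x = x * n → n = 1) (q : ℕ) [Fact q.Prime] (hnd : ¬ p ∣ Nat.card N) :
    q ^ (Nat.card N).factorization q % p = 1 := by
  have hP : IsPGroup p (zpowers x) := IsPGroup.of_card (n := 1) (by rw [Nat.card_zpowers, hx, pow_one])
  let act : MulDistribMulAction (zpowers x) N :=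
    MulDistribMulAction.compHom N ((MulAut.conjNormal : G →* MulAut N).comp (zpowers x).subtype)
  have hact : ∀ (a : zpowers x) (n : N), ((a • n : N) : G) = (a : G) * n * (a : G)⁻¹ := fun a n =>
    MulAut.conjNormal_apply _ _
  have : Fintype (Sylow q N) := Fintype.ofFinite _
  obtain ⟨Q, hQ⟩ := hP.nonempty_fixed_point_of_prime_not_dvd_card (Sylow q N)
    (fun h => hnd (h.trans ((Sylow.card_dvd_index default).trans (index_dvd_card _))))
  have hstab : ∀ (a : zpowers x) (n : N), n ∈ Q → a • n ∈ Q := fun a n hn => by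
    have h : a • n ∈ a • (Q : Subgroup N) := Subgroup.smul_mem_pointwise_smul n a _ hn
    rwa [← Sylow.pointwise_smul_def, hQ a] at h
  let : MulAction (zpowers x) Q :=
    { smul := fun a n => ⟨a • (n : N), hstab a n n.2⟩
      one_smul := fun n => Subtype.ext (one_smul (zpowers x) (n : N))
      mul_smul := fun a b n => Subtype.ext (mul_smul a b (n : N)) }
  have hfix : Nat.card (MulAction.fixedPoints (zpowers x) Q) = 1 := by
    rw [Nat.card_eq_one_iff_unique]
    refine ⟨⟨fun a b => ?_⟩, ⟨⟨⟨1, one_mem _⟩, fun a => Subtype.ext (smul_one a)⟩⟩⟩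
    have key : ∀ c : MulAction.fixedPoints (zpowers x) Q, (((c : Q) : N) : G) = 1 := fun c => by
      have h := congrArg (fun n : Q => ((n : N) : G)) (c.2 ⟨x, mem_zpowers x⟩)
      have h' : x * ((c : Q) : N) * x⁻¹ = (((c : Q) : N) : G) := (hact _ _).symm.trans h
      exact hC _ ((c : Q) : N).2 (mul_inv_eq_iff_eq_mul.1 h').symm
    exact Subtype.ext (Subtype.ext (Subtype.ext ((key a).trans (key b).symm)))
  have hm := hP.card_modEq_card_fixedPoints Q
  rw [hfix, Sylow.card_eq_multiplicity] at hm
  exact Eq.trans hm (Nat.one_mod_eq_one.2 hp.out.ne_one)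

/-- Simplicity from a simple subgroup containing the normaliser of a Sylow subgroup of order `p`. -/
theorem isSimpleGroup_of_subgroup (M : Subgroup G) [IsSimpleGroup M] (hxM : x ∈ M)
    (hx : orderOf x = p) (hC : SelfCentral x) (hsq : ¬ p ^ 2 ∣ Nat.card G) (d₀ : ℕ)
    (hd : ∀ d, d ∣ p - 1 → p * d ∣ Nat.card G → Nat.card G / (p * d) % p = 1 → d = d₀)
    (hdM : ∀ d, d ∣ p - 1 → p * d ∣ Nat.card M → Nat.card M / (p * d) % p = 1 → d = d₀)
    (hN : ∀ N : Subgroup G, N.Normal → N ⊓ M = ⊥ → (∀ n ∈ N, n * x = x * n → n = 1) →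
      Nat.card N ∣ M.index → (∀ q, q.Prime → q ^ (Nat.card N).factorization q % p = 1) → N = ⊥) :
    IsSimpleGroup G := by
  have hcz : Nat.card (zpowers x) = p := by rw [Nat.card_zpowers, hx]
  have hfac : (Nat.card G).factorization p = 1 := by
    have h := (hp.out.pow_dvd_iff_le_factorization (Nat.card_pos (α := G)).ne').not.1 hsq
    have h' := (hp.out.dvd_iff_one_le_factorization (Nat.card_pos (α := G)).ne').1
      (hx ▸ orderOf_dvd_natCard x)
    omega
  -- the normaliser lies in `M`
  have hnorm : normalizer (zpowers x : Set G) ≤ M := by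
    obtain ⟨d, h1, h2, h3, h4⟩ := card_normalizer hx hC hsq
    obtain ⟨e, g1, g2, g3, g4⟩ := card_normalizer (G := M) (x := (⟨x, hxM⟩ : M))
      (by rw [← orderOf_coe]; exact hx)
      (fun g hg => by
        obtain ⟨i, hi⟩ := mem_zpowers_iff.1 (hC g (congrArg Subtype.val hg))
        exact mem_zpowers_iff.2 ⟨i, Subtype.ext (by rw [coe_zpow]; exact hi)⟩)
      (fun h => hsq (h.trans M.card_subgroup_dvd_card))
    rw [hd d h1 h3 h4] at h2
    rw [hdM e g1 g3 g4] at g2
    let ι : normalizer (zpowers (⟨x, hxM⟩ : M) : Set M) → normalizer (zpowers x : Set G) := fun g =>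
      ⟨((g : M) : G), mem_normalizer_iff.2 fun y => by
        constructor
        · intro hy
          have hyM : y ∈ M := (zpowers_le.2 hxM) hy
          obtain ⟨i, hi⟩ := mem_zpowers_iff.1 hy
          have := (mem_normalizer_iff.1 g.2 ⟨y, hyM⟩).1 ⟨i, Subtype.ext (by rw [coe_zpow]; exact hi)⟩
          obtain ⟨j, hj⟩ := this
          exact ⟨j, by simpa using congrArg Subtype.val hj⟩
        · intro hy
          have hyM : y ∈ M := by
            have h' : ((g : M) : G) * y * ((g : M) : G)⁻¹ ∈ M := (zpowers_le.2 hxM) hy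
            simpa [mul_assoc] using M.mul_mem (M.mul_mem (M.inv_mem (g : M).2) h') (g : M).2
          obtain ⟨i, hi⟩ := mem_zpowers_iff.1 hy
          obtain ⟨j, hj⟩ := (mem_normalizer_iff.1 g.2 ⟨y, hyM⟩).2
            ⟨i, Subtype.ext (by simpa using hi)⟩
          exact ⟨j, by simpa using congrArg Subtype.val hj⟩⟩
    have hinj : Function.Injective ι := fun a b h =>
      Subtype.ext (Subtype.ext (congrArg Subtype.val h :))
    intro g hg
    obtain ⟨a, ha⟩ := ((Nat.bijective_iff_injective_and_card ι).2 ⟨hinj, g2.trans h2.symm⟩).2 ⟨g, hg⟩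
    rw [show g = ((a : M) : G) from (congrArg Subtype.val ha).symm]
    exact (a : M).2
  have : Nontrivial G :=
    let ⟨a, b, h⟩ := exists_pair_ne M
    ⟨a, b, fun e => h (Subtype.ext e)⟩
  refine ⟨fun N hNn => ?_⟩
  have hS : (N.subgroupOf M).Normal := hNn.subgroupOf M
  rcases hS.eq_bot_or_eq_top with h | h
  · left
    have hinf : N ⊓ M = ⊥ := by rwa [subgroupOf_eq_bot, disjoint_iff] at h
    have hfree : ∀ n ∈ N, n * x = x * n → n = 1 := fun n hn hc => by
      have : n ∈ N ⊓ M := ⟨hn, (zpowers_le.2 hxM) (hC n hc)⟩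
      rwa [hinf, mem_bot] at this
    have hidx : Nat.card N ∣ M.index := by
      have h1 := card_subgroup_dvd_card (N ⊔ M)
      have h2 : Nat.card (N ⊔ M : Subgroup G) = Nat.card N * Nat.card M := by
        have : ((N ⊔ M : Subgroup G) : Set G) = (N : Set G) * (M : Set G) := normal_mul N M
        rw [← Nat.card_prod]
        refine (Nat.card_congr (Equiv.ofBijective (fun a : N × M => (⟨(a.1 : G) * a.2, by
          rw [← SetLike.mem_coe, this]; exact Set.mul_mem_mul a.1.2 a.2.2⟩ : ↥(N ⊔ M))) ⟨?_, ?_⟩)).symm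
        · exact fun a b e => mul_injective_of_disjoint (disjoint_iff.2 hinf) (congrArg Subtype.val e)
        · rintro ⟨g, hg⟩
          rw [← SetLike.mem_coe, this] at hg
          obtain ⟨n, hn, m, hm, rfl⟩ := Set.mem_mul.1 hg
          exact ⟨⟨⟨n, hn⟩, ⟨m, hm⟩⟩, rfl⟩
      rw [h2, ← M.card_mul_index, mul_comm (Nat.card N)] at h1
      exact Nat.dvd_of_mul_dvd_mul_left Nat.card_pos h1
    refine hN N hNn hinf hfree hidx fun q hq => ?_
    have : Fact q.Prime := ⟨hq⟩
    refine sylow_card_mod N hx hfree q fun hd' => hsq ?_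
    have h4 : p ∣ Nat.card M := hx ▸ by
      rw [← orderOf_mk x hxM]; exact orderOf_dvd_natCard _
    rw [pow_two, ← M.card_mul_index]
    exact mul_dvd_mul h4 (hd'.trans hidx)
  · right
    have hMN : M ≤ N := subgroupOf_eq_top.1 h
    have hP : ∀ P : Sylow p G, (P : Subgroup G) = zpowers x →
        normalizer (P : Set G) ≤ M ∧ (P : Subgroup G) ≤ N := fun P e =>
      ⟨by rw [show (P : Set G) = ((zpowers x : Subgroup G) : Set G) by rw [← e]; rfl]; exact hnorm,
        e ▸ zpowers_le.2 (hMN hxM)⟩
    obtain ⟨hP1, hP2⟩ := hP (Sylow.ofCard (zpowers x) (by rw [hcz, hfac, pow_one])) (Sylow.coe_ofCard _ _)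
    rw [eq_top_iff, ← Sylow.normalizer_sup_eq_top' _ hP2]
    exact sup_le (hP1.trans hMN) le_rfl

end Cfsg.Agent.SylowSimple
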