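import Mathlib.LinearAlgebra.Finsupp.LinearCombination
import Mathlib.Data.Nat.Choose.Basic
import Mathlib.Data.Finset.Powerset
import Mathlib.Tactic
import Cfsg.Prelude.Def_Sporadic_a

/-!
The length-24 binary code `Cfsg.golayCode` as a set of 4096 bitmasks (bit `x` for the residue
`x`, bit 23 for the extra point), so that its finite properties are decided by the kernel.
-/

namespace Cfsg.Agent.Golay

set_option linter.constructorNameAsVariable false
set_option linter.unusedSimpArgs false

open Cfsg

/-! ### Points and masks -/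

/-- Bit position of a point. -/
def idx : GolayPt → ℕ
  | none => 23
  | some x => x.val

theorem idx_lt (p : GolayPt) : idx p < 24 := by
  cases p with
  | none => simp [idx]
  | some x => exact lt_trans (ZMod.val_lt x) (by norm_num)

/-- The point at a bit position. -/
def pt (i : Fin 24) : GolayPt := if i.val < 23 then some (i.val : ZMod 23) else none

theorem pt_idx : ∀ p : GolayPt, pt ⟨idx p, idx_lt p⟩ = p := by decide

theorem idx_pt : ∀ i : Fin 24, idx (pt i) = i.val := by decide

/-- Points are bit positions. -/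
def ptEquiv : GolayPt ≃ Fin 24 where
  toFun p := ⟨idx p, idx_lt p⟩
  invFun := pt
  left_inv := pt_idx
  right_inv i := Fin.ext (idx_pt i)

theorem idx_injective : Function.Injective idx := fun a b h => by
  rw [← pt_idx a, ← pt_idx b]; simp [h]

/-- The mask with the bits `i < n` satisfying `f`. -/
def mkMask (f : ℕ → Bool) (n : ℕ) : ℕ :=
  Nat.rec 0 (fun i acc => bif f i then acc ||| (1 <<< i) else acc) n

theorem testBit_mkMask (f : ℕ → Bool) :
    ∀ n i, (mkMask f n).testBit i = (decide (i < n) && f i) := by
  intro n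
  induction n with
  | zero => intro i; simp [mkMask]
  | succ n ih =>
    intro i
    have hs : mkMask f (n + 1) = bif f n then mkMask f n ||| (1 <<< n) else mkMask f n := rfl
    rw [hs]
    rcases lt_trichotomy i n with h | h | h
    · have hne : i ≠ n := h.ne
      cases f n <;> simp [ih, h, Nat.lt_succ_of_lt h, Nat.one_shiftLeft, Nat.testBit_two_pow, hne.symm]
    · subst h
      cases hf : f i <;> simp [ih, Nat.one_shiftLeft, Nat.testBit_two_pow, hf]
    · have h1 : ¬ i < n := by omega
      have h2 : ¬ i < n + 1 := by omega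
      cases f n <;> simp [ih, h1, h2, Nat.one_shiftLeft, Nat.testBit_two_pow, h.ne]

theorem mkMask_lt (f : ℕ → Bool) (n : ℕ) : mkMask f n < 2 ^ n :=
  Nat.lt_pow_two_of_testBit _ fun i hi => by
    rw [testBit_mkMask]; simp [Nat.not_lt.2 hi]

/-- The number of set bits below `n`. -/
def popCount (m n : ℕ) : ℕ :=
  Nat.rec 0 (fun i acc => bif m.testBit i then acc + 1 else acc) n

theorem popCount_eq (m : ℕ) :
    ∀ n, popCount m n = ((Finset.range n).filter fun i => m.testBit i).card := by
  intro n
  induction n with
  | zero => rfl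
  | succ n ih =>
    have hs : popCount m (n + 1) = bif m.testBit n then popCount m n + 1 else popCount m n := rfl
    rw [hs, Finset.range_add_one, Finset.filter_insert, ih]
    cases hb : m.testBit n <;> simp

/-- The points of a mask. -/
def maskSet (m : ℕ) : Finset GolayPt := Finset.univ.filter fun p => m.testBit (idx p)

theorem mem_maskSet {m : ℕ} {p : GolayPt} : p ∈ maskSet m ↔ m.testBit (idx p) = true := by
  simp [maskSet]

theorem card_maskSet (m : ℕ) : (maskSet m).card = popCount m 24 := by
  rw [popCount_eq]
  refine Finset.card_nbij' idx (fun i => if h : i < 24 then pt ⟨i, h⟩ else none) ?_ ?_ ?_ ?_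
  · intro p hp
    simp [maskSet] at hp
    simp [hp, idx_lt]
  · intro i hi
    simp at hi
    simp [maskSet, hi.1, idx_pt, hi.2]
  · intro p _
    simp [idx_lt, pt_idx]
  · intro i hi
    simp at hi
    simp [hi.1, idx_pt]

theorem maskSet_inj {a b : ℕ} (ha : a < 2 ^ 24) (hb : b < 2 ^ 24) (h : maskSet a = maskSet b) :
    a = b := by
  refine Nat.eq_of_testBit_eq fun i => ?_
  rcases Nat.lt_or_ge i 24 with hi | hi
  · have := congrArg (fun s => decide (pt ⟨i, hi⟩ ∈ s)) h
    simpa [mem_maskSet, idx_pt] using this
  · rw [Nat.testBit_lt_two_pow (lt_of_lt_of_le ha (Nat.pow_le_pow_right (by norm_num) hi)),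
      Nat.testBit_lt_two_pow (lt_of_lt_of_le hb (Nat.pow_le_pow_right (by norm_num) hi))]

theorem maskSet_and (a b : ℕ) : maskSet (a &&& b) = maskSet a ∩ maskSet b := by
  ext p; simp [mem_maskSet]

theorem maskSet_or (a b : ℕ) : maskSet (a ||| b) = maskSet a ∪ maskSet b := by
  ext p; simp [mem_maskSet]

/-- The mask of a set of points. -/
def toMask (s : Finset GolayPt) : ℕ :=
  mkMask (fun i => if h : i < 24 then decide (pt ⟨i, h⟩ ∈ s) else false) 24

theorem maskSet_toMask (s : Finset GolayPt) : maskSet (toMask s) = s := by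
  ext p
  simp [mem_maskSet, toMask, testBit_mkMask, idx_lt, pt_idx]

theorem toMask_lt (s : Finset GolayPt) : toMask s < 2 ^ 24 := mkMask_lt _ _

theorem toMask_maskSet {m : ℕ} (hm : m < 2 ^ 24) : toMask (maskSet m) = m :=
  maskSet_inj (toMask_lt _) hm (maskSet_toMask _)

/-- The binary word of a mask. -/
def ofMask (m : ℕ) : GolayPt → ZMod 2 := fun p => if m.testBit (idx p) then 1 else 0

theorem ofMask_zero : ofMask 0 = 0 := by ext p; simp [ofMask]

theorem ofMask_xor (a b : ℕ) : ofMask (a ^^^ b) = ofMask a + ofMask b := by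
  ext p
  simp only [ofMask, Nat.testBit_xor, Pi.add_apply]
  cases a.testBit (idx p) <;> cases b.testBit (idx p) <;> decide

theorem support_ofMask (m : ℕ) : support₂ (ofMask m) = maskSet m := by
  ext p
  simp [support₂, maskSet, ofMask]

theorem ofMask_inj {a b : ℕ} (ha : a < 2 ^ 24) (hb : b < 2 ^ 24) (h : ofMask a = ofMask b) :
    a = b :=
  maskSet_inj ha hb (by rw [← support_ofMask, ← support_ofMask, h])

theorem zmod2_cases (x : ZMod 2) : x = 0 ∨ x = 1 := by revert x; decide

theorem ofMask_toMask (w : GolayPt → ZMod 2) : ofMask (toMask (support₂ w)) = w := by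
  ext p
  simp only [ofMask, toMask, testBit_mkMask, idx_lt, decide_true, Bool.true_and, dif_pos, pt_idx]
  rcases zmod2_cases (w p) with h | h <;> simp [support₂, h]

theorem hammingNorm_ofMask (m : ℕ) : hammingNorm (ofMask m) = popCount m 24 := by
  rw [← card_maskSet, ← support_ofMask]; rfl

/-! ### The code -/

/-- An echelon basis of the code: pivots at bits 23, 22, …, 12. -/
def gBasis : List (ℕ × ℕ) :=
  [(23, 8391797), (22, 4196943), (21, 2101096), (20, 1050548), (19, 525274), (18, 262637),
    (17, 133817), (16, 69395), (15, 36294), (14, 18147), (13, 10558), (12, 5279)]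

/-- The span of a list of masks. -/
def spanList : List ℕ → List ℕ
  | [] => [0]
  | b :: l => spanList l ++ (spanList l).map (fun x => b ^^^ x)

/-- The 4096 code words. -/
def codeList : List ℕ := spanList (gBasis.map fun v => v.2)

/-- Reduction by the echelon basis. -/
def inCode (m : ℕ) : Bool :=
  Nat.beq (gBasis.foldl (fun acc v => bif acc.testBit v.1 then acc ^^^ v.2 else acc) m) 0

theorem spanList_xor : ∀ l : List ℕ, ∀ a ∈ spanList l, ∀ b ∈ spanList l, a ^^^ b ∈ spanList l := by
  intro l
  induction l with
  | nil => simp [spanList]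
  | cons c l ih =>
    intro a ha b hb
    simp only [spanList, List.mem_append, List.mem_map] at ha hb ⊢
    rcases ha with ha | ⟨x, hx, rfl⟩ <;> rcases hb with hb | ⟨y, hy, rfl⟩
    · exact Or.inl (ih a ha b hb)
    · exact Or.inr ⟨a ^^^ y, ih a ha y hy, by rw [← Nat.xor_assoc, Nat.xor_comm c a, Nat.xor_assoc]⟩
    · exact Or.inr ⟨x ^^^ b, ih x hx b hb, by rw [Nat.xor_assoc]⟩
    · refine Or.inl ?_
      have : (c ^^^ x) ^^^ (c ^^^ y) = x ^^^ y := by
        rw [Nat.xor_comm c x, Nat.xor_assoc, ← Nat.xor_assoc c c y, Nat.xor_self, Nat.zero_xor]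
      rw [this]; exact ih x hx y hy

theorem zero_mem_spanList : ∀ l : List ℕ, 0 ∈ spanList l := by
  intro l; induction l <;> simp [spanList, *]

theorem spanList_mem_submodule {M : Submodule (ZMod 2) (GolayPt → ZMod 2)} :
    ∀ l : List ℕ, (∀ b ∈ l, ofMask b ∈ M) → ∀ m ∈ spanList l, ofMask m ∈ M := by
  intro l
  induction l with
  | nil => intro _ m hm; simp [spanList] at hm; simp [hm, ofMask_zero]
  | cons c l ih =>
    intro h m hm
    simp only [spanList, List.mem_append, List.mem_map] at hm
    have ih := ih (fun b hb => h b (List.mem_cons_of_mem _ hb))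
    rcases hm with hm | ⟨x, hx, rfl⟩
    · exact ih m hm
    · rw [ofMask_xor]; exact M.add_mem (h c List.mem_cons_self) (ih x hx)

/-- Masks of the translated square words. -/
def qrMasks : List ℕ :=
  [340831, 681662, 1363324, 2726648, 5453296, 2517985, 5035970, 1683333, 3366666, 6733332,
    5078057, 1767507, 3535014, 7070028, 5751449, 3114291, 6228582, 4068557, 8137114, 7885621,
    7382635, 6376663, 4364719]

theorem qrWord_eq : ∀ t : ZMod 23, qrWord t = ofMask (qrMasks.getD t.val 0) := by
  decide +kernel

theorem one_eq : (1 : GolayPt → ZMod 2) = ofMask 16777215 := by decide +kernel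

/-- Membership of a mask in a list. -/
def memB (a : ℕ) (l : List ℕ) : Bool := l.any fun x => Nat.beq x a

theorem memB_spec {a : ℕ} {l : List ℕ} (h : memB a l = true) : a ∈ l := by
  simp [memB, List.any_eq_true] at h; exact h

theorem qrMasks_mem : qrMasks.all (fun m => memB m codeList) = true := by decide +kernel

theorem all_mem_codeList : 16777215 ∈ codeList := memB_spec (by decide +kernel)

theorem codeList_lt : codeList.all (fun m => Nat.blt m 16777216) = true := by decide +kernel

theorem lt_of_mem_codeList {m : ℕ} (h : m ∈ codeList) : m < 2 ^ 24 := by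
  have := List.all_eq_true.1 codeList_lt m h
  simpa using this

theorem gBasis_in_span : (gBasis.map fun v => v.2).all
    (fun b => memB b (spanList qrMasks.reverse.tail.tail.tail.tail.tail.tail.tail.tail.tail.tail.tail ++
      (spanList qrMasks.reverse.tail.tail.tail.tail.tail.tail.tail.tail.tail.tail.tail).map
        (fun x => 16777215 ^^^ x))) = true := by decide +kernel

theorem mem_golayCode {w : GolayPt → ZMod 2} :
    w ∈ golayCode ↔ ∃ m ∈ codeList, ofMask m = w := by
  constructor
  · intro hw
    unfold golayCode at hw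
    induction hw using Submodule.span_induction with
    | mem x hx =>
      rcases hx with ⟨t, rfl⟩ | hx
      · refine ⟨_, ?_, (qrWord_eq t).symm⟩
        have hlt : t.val < qrMasks.length := ZMod.val_lt t
        rw [List.getD_eq_getElem _ _ hlt]
        exact memB_spec (List.all_eq_true.1 qrMasks_mem _ (List.getElem_mem hlt))
      · rw [Set.mem_singleton_iff.1 hx]
        exact ⟨_, all_mem_codeList, one_eq.symm⟩
    | zero => exact ⟨0, zero_mem_spanList _, ofMask_zero⟩
    | add x y _ _ hx hy =>
      obtain ⟨a, ha, rfl⟩ := hx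
      obtain ⟨b, hb, rfl⟩ := hy
      exact ⟨a ^^^ b, spanList_xor _ a ha b hb, ofMask_xor a b⟩
    | smul c x _ hx =>
      rcases zmod2_cases c with rfl | rfl
      · exact ⟨0, zero_mem_spanList _, by simp [ofMask_zero]⟩
      · simpa using hx
  · rintro ⟨m, hm, rfl⟩
    refine spanList_mem_submodule _ (fun b hb => ?_) m hm
    have hb' := memB_spec (List.all_eq_true.1 gBasis_in_span b hb)
    refine spanList_mem_submodule (16777215 :: qrMasks.reverse.tail.tail.tail.tail.tail.tail.tail.tail.tail.tail.tail)
      (fun c hc => ?_) b (by simpa [spanList] using hb')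
    rcases List.mem_cons.1 hc with rfl | hc
    · rw [← one_eq]; exact Submodule.subset_span (Or.inr rfl)
    · have hc' : c ∈ qrMasks := List.mem_reverse.1
        (List.mem_of_mem_tail (List.mem_of_mem_tail (List.mem_of_mem_tail (List.mem_of_mem_tail
          (List.mem_of_mem_tail (List.mem_of_mem_tail (List.mem_of_mem_tail (List.mem_of_mem_tail
            (List.mem_of_mem_tail (List.mem_of_mem_tail (List.mem_of_mem_tail hc)))))))))))
      obtain ⟨i, hi, rfl⟩ := List.getElem_of_mem hc'
      have h23 : qrMasks.length = 23 := rfl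
      have := qrWord_eq (i : ZMod 23)
      rw [ZMod.val_natCast, Nat.mod_eq_of_lt (by omega), List.getD_eq_getElem _ _ hi] at this
      rw [← this]
      exact Submodule.subset_span (Or.inl ⟨_, rfl⟩)

theorem codeList_inCode : codeList.all inCode = true := by decide +kernel

theorem mem_codeList_of_inCode {m : ℕ} (h : inCode m = true) : m ∈ codeList := by
  have hb : ∀ v ∈ gBasis, v.2 ∈ codeList := by
    intro v hv
    exact memB_spec (List.all_eq_true.1
      (show gBasis.all (fun v => memB v.2 codeList) = true by decide +kernel) v hv)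
  have key : ∀ l : List (ℕ × ℕ), (∀ v ∈ l, v.2 ∈ codeList) → ∀ a : ℕ,
      l.foldl (fun acc v => bif acc.testBit v.1 then acc ^^^ v.2 else acc) a ∈ codeList →
      a ∈ codeList := by
    intro l
    induction l with
    | nil => intro _ a ha; simpa using ha
    | cons v l ih =>
      intro hl a ha
      have := ih (fun u hu => hl u (List.mem_cons_of_mem _ hu)) _ ha
      cases hbit : a.testBit v.1 <;> simp only [hbit, cond_true, cond_false] at this
      · exact this
      · have h2 := spanList_xor _ _ this _ (hl v List.mem_cons_self)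
        rwa [Nat.xor_assoc, Nat.xor_self, Nat.xor_zero] at h2
  refine key gBasis hb m ?_
  simp only [inCode, Nat.beq_eq] at h
  rw [h]; exact zero_mem_spanList _

theorem inCode_iff {m : ℕ} : inCode m = true ↔ m ∈ codeList :=
  ⟨mem_codeList_of_inCode, fun h => List.all_eq_true.1 codeList_inCode m h⟩

theorem ofMask_mem_golayCode {m : ℕ} (h : inCode m = true) : ofMask m ∈ golayCode :=
  mem_golayCode.2 ⟨m, inCode_iff.1 h, rfl⟩

theorem ofMask_mem_iff {m : ℕ} (hm : m < 2 ^ 24) : ofMask m ∈ golayCode ↔ inCode m = true := by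
  refine ⟨fun h => ?_, ofMask_mem_golayCode⟩
  obtain ⟨a, ha, he⟩ := mem_golayCode.1 h
  rw [← ofMask_inj (lt_of_mem_codeList ha) hm he]
  exact inCode_iff.2 ha

theorem mem_supports {s : Finset GolayPt} :
    s ∈ supports (golayCode : Set (GolayPt → ZMod 2)) ↔ ∃ m ∈ codeList, maskSet m = s := by
  constructor
  · rintro ⟨w, hw, rfl⟩
    obtain ⟨m, hm, rfl⟩ := mem_golayCode.1 hw
    exact ⟨m, hm, (support_ofMask m).symm⟩
  · rintro ⟨m, hm, rfl⟩
    exact ⟨_, mem_golayCode.2 ⟨m, hm, rfl⟩, support_ofMask m⟩

theorem mem_supports_iff {s : Finset GolayPt} :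
    s ∈ supports (golayCode : Set (GolayPt → ZMod 2)) ↔ inCode (toMask s) = true := by
  rw [mem_supports]
  constructor
  · rintro ⟨m, hm, rfl⟩
    rw [toMask_maskSet (lt_of_mem_codeList hm)]; exact inCode_iff.2 hm
  · intro h; exact ⟨_, inCode_iff.1 h, maskSet_toMask s⟩

/-! ### Weights -/

theorem weights_ok : codeList.all (fun m => memB (popCount m 24) [0, 8, 12, 16, 24]) = true := by
  decide +kernel

theorem weight_cases {m : ℕ} (h : m ∈ codeList) : popCount m 24 = 0 ∨ popCount m 24 = 8 ∨
    popCount m 24 = 12 ∨ popCount m 24 = 16 ∨ popCount m 24 = 24 := by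
  simpa using memB_spec (List.all_eq_true.1 weights_ok m h)

/-- The 759 octad masks. -/
def octadList : List ℕ := codeList.filter fun m => Nat.beq (popCount m 24) 8

/-- The 2576 dodecad masks. -/
def dodecadList : List ℕ := codeList.filter fun m => Nat.beq (popCount m 24) 12

theorem mem_octadList {m : ℕ} : m ∈ octadList ↔ m ∈ codeList ∧ popCount m 24 = 8 := by
  simp [octadList, List.mem_filter]

theorem mem_dodecadList {m : ℕ} : m ∈ dodecadList ↔ m ∈ codeList ∧ popCount m 24 = 12 := by
  simp [dodecadList, List.mem_filter]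

theorem mem_wordsOfWeight {k : ℕ} {s : Finset GolayPt} :
    s ∈ wordsOfWeight (golayCode : Set (GolayPt → ZMod 2)) k ↔
      ∃ m ∈ codeList, popCount m 24 = k ∧ maskSet m = s := by
  constructor
  · rintro ⟨hs, hc⟩
    obtain ⟨m, hm, rfl⟩ := mem_supports.1 hs
    exact ⟨m, hm, by rwa [← card_maskSet], rfl⟩
  · rintro ⟨m, hm, hk, rfl⟩
    exact ⟨mem_supports.2 ⟨m, hm, rfl⟩, by rwa [card_maskSet]⟩

theorem mem_octads {s : Finset GolayPt} : s ∈ octads ↔ ∃ m ∈ octadList, maskSet m = s := by
  simp [octads, mem_wordsOfWeight, mem_octadList, and_assoc]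

theorem mem_dodecads {s : Finset GolayPt} : s ∈ dodecads ↔ ∃ m ∈ dodecadList, maskSet m = s := by
  simp [dodecads, mem_wordsOfWeight, mem_dodecadList, and_assoc]

theorem lt_of_mem_octadList {m : ℕ} (h : m ∈ octadList) : m < 2 ^ 24 :=
  lt_of_mem_codeList (mem_octadList.1 h).1

theorem lt_of_mem_dodecadList {m : ℕ} (h : m ∈ dodecadList) : m < 2 ^ 24 :=
  lt_of_mem_codeList (mem_dodecadList.1 h).1

/-- Equality of lists of numbers. -/
def beqList : List ℕ → List ℕ → Bool
  | [], [] => true
  | a :: l, b :: m => Nat.beq a b && beqList l m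
  | _, _ => false

theorem beqList_spec : ∀ l m : List ℕ, beqList l m = true → l = m := by
  intro l
  induction l with
  | nil => intro m h; cases m <;> simp_all [beqList]
  | cons a l ih =>
    intro m h
    cases m with
    | nil => simp [beqList] at h
    | cons b m =>
      simp only [beqList, Bool.and_eq_true, Nat.beq_eq] at h
      rw [h.1, ih m h.2]

theorem codeList_top : codeList.map (fun x => x >>> 12) = List.range 4096 :=
  beqList_spec _ _ (by decide +kernel)

theorem codeList_nodup : codeList.Nodup :=
  List.Nodup.of_map (fun x => x >>> 12) (codeList_top ▸ List.nodup_range)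

theorem ncard_image_maskSet {l : List ℕ} (hl : l.Nodup) (hlt : ∀ m ∈ l, m < 2 ^ 24) :
    {s : Finset GolayPt | ∃ m ∈ l, maskSet m = s}.ncard = l.length := by
  classical
  have : {s : Finset GolayPt | ∃ m ∈ l, maskSet m = s} = ((l.toFinset.image maskSet : Finset _) : Set _) := by
    ext s; simp
  rw [this, Set.ncard_coe_finset, Finset.card_image_of_injOn, List.toFinset_card_of_nodup hl]
  intro a ha b hb hab
  simp at ha hb
  exact maskSet_inj (hlt a ha) (hlt b hb) hab

theorem octadList_nodup : octadList.Nodup := codeList_nodup.filter _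

theorem dodecadList_nodup : dodecadList.Nodup := codeList_nodup.filter _

theorem octadList_length : octadList.length = 759 := by decide +kernel

theorem dodecadList_length : dodecadList.length = 2576 := by decide +kernel

theorem ncard_octads : octads.ncard = 759 := by
  rw [show octads = {s : Finset GolayPt | ∃ m ∈ octadList, maskSet m = s} from
    Set.ext fun s => mem_octads, ncard_image_maskSet octadList_nodup (fun m => lt_of_mem_octadList),
    octadList_length]

theorem ncard_dodecads : dodecads.ncard = 2576 := by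
  rw [show dodecads = {s : Finset GolayPt | ∃ m ∈ dodecadList, maskSet m = s} from
    Set.ext fun s => mem_dodecads,
    ncard_image_maskSet dodecadList_nodup (fun m => lt_of_mem_dodecadList), dodecadList_length]

/-! ### Minimum distance, orthogonality and the Steiner system -/

theorem card_octad {s : Finset GolayPt} (h : s ∈ octads) : s.card = 8 := h.2

theorem card_dodecad {s : Finset GolayPt} (h : s ∈ dodecads) : s.card = 12 := h.2

theorem octad_unique {a b : Finset GolayPt} (ha : a ∈ octads) (hb : b ∈ octads)
    (h : 5 ≤ (a ∩ b).card) : a = b := by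
  obtain ⟨m, hm, rfl⟩ := mem_octads.1 ha
  obtain ⟨k, hk, rfl⟩ := mem_octads.1 hb
  have hx := spanList_xor _ m (mem_octadList.1 hm).1 k (mem_octadList.1 hk).1
  have hset : maskSet (m ^^^ k) = (maskSet m \ maskSet k) ∪ (maskSet k \ maskSet m) := by
    ext p; simp [mem_maskSet]; cases m.testBit (idx p) <;> cases k.testBit (idx p) <;> simp
  have hw := weight_cases hx
  rw [← card_maskSet] at hw
  have h1 := card_octad ha
  have h2 := card_octad hb
  have h3 := Finset.card_sdiff_add_card_inter (maskSet m) (maskSet k)
  have h4 := Finset.card_sdiff_add_card_inter (maskSet k) (maskSet m)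
  rw [Finset.inter_comm] at h4
  have h5 : (maskSet (m ^^^ k)).card ≤ (maskSet m \ maskSet k).card + (maskSet k \ maskSet m).card := by
    rw [hset]; exact Finset.card_union_le _ _
  have h0 : (maskSet (m ^^^ k)).card = 0 := by omega
  have hemp : maskSet (m ^^^ k) = maskSet 0 := by
    rw [Finset.card_eq_zero.1 h0]; ext p; simp [mem_maskSet]
  have hmk : m ^^^ k = 0 := maskSet_inj (lt_of_mem_codeList hx) (by norm_num) hemp
  have hmk' : m = k := by
    calc m = (m ^^^ k) ^^^ k := by rw [Nat.xor_assoc, Nat.xor_self, Nat.xor_zero]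
      _ = k := by rw [hmk, Nat.zero_xor]
  rw [hmk']

theorem isSteinerSystem_octads : IsSteinerSystem 5 8 octads := by
  classical
  refine ⟨fun b hb => card_octad hb, fun s hs => ?_⟩
  have huniq : ∀ a ∈ octads, ∀ b ∈ octads, s ⊆ a → s ⊆ b → a = b := fun a ha b hb h₁ h₂ =>
    octad_unique ha hb (hs ▸ Finset.card_le_card (Finset.subset_inter h₁ h₂))
  let O : Finset (Finset GolayPt) := octadList.toFinset.image maskSet
  have hO : ∀ x, x ∈ O ↔ x ∈ octads := fun x => by simp [O, mem_octads]
  have hOcard : O.card = 759 := by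
    rw [← ncard_octads, ← Set.ncard_coe_finset]; congr 1; ext x; simpa using hO x
  let five : Finset (Finset GolayPt) := Finset.powersetCard 5 Finset.univ
  have hU : O.biUnion (fun b => Finset.powersetCard 5 b) = five := by
    refine Finset.eq_of_subset_of_card_le (fun x hx => ?_) ?_
    · simp only [Finset.mem_biUnion, Finset.mem_powersetCard] at hx
      obtain ⟨b, -, -, hx⟩ := hx
      exact Finset.mem_powersetCard.2 ⟨Finset.subset_univ _, hx⟩
    · rw [Finset.card_biUnion]
      · rw [Finset.sum_congr rfl (g := fun _ => 56) (fun b hb => by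
          rw [Finset.card_powersetCard, card_octad ((hO b).1 hb)]; rfl)]
        rw [Finset.sum_const, hOcard, Finset.card_powersetCard, Finset.card_univ]
        decide
      · intro a ha b hb hab
        refine Finset.disjoint_left.2 fun x hxa hxb => hab ?_
        rw [Finset.mem_powersetCard] at hxa hxb
        exact octad_unique ((hO a).1 ha) ((hO b).1 hb)
          (hxa.2 ▸ Finset.card_le_card (Finset.subset_inter hxa.1 hxb.1))
  have hsf : s ∈ five := Finset.mem_powersetCard.2 ⟨Finset.subset_univ _, hs⟩
  rw [← hU, Finset.mem_biUnion] at hsf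
  obtain ⟨b, hb, hsb⟩ := hsf
  exact ⟨b, ⟨(hO b).1 hb, (Finset.mem_powersetCard.1 hsb).1⟩,
    fun c hc => huniq c hc.1 b ((hO b).1 hb) hc.2 (Finset.mem_powersetCard.1 hsb).1⟩

/-- Parity of the common part of two masks. -/
def dotB (a b : ℕ) : ℕ := popCount (a &&& b) 24 % 2

theorem sum_ofMask_mul (a b : ℕ) : ∑ p, ofMask a p * ofMask b p = (dotB a b : ZMod 2) := by
  rw [dotB, ZMod.natCast_mod, ← card_maskSet]
  rw [maskSet, Finset.card_filter, Nat.cast_sum]
  refine Finset.sum_congr rfl fun p _ => ?_
  simp only [ofMask, Nat.testBit_and]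
  cases a.testBit (idx p) <;> cases b.testBit (idx p) <;> simp

theorem basis_orth : (gBasis.map fun v => v.2).all
    (fun a => (gBasis.map fun v => v.2).all (fun b => Nat.beq (dotB a b) 0)) = true := by
  decide +kernel

theorem self_orthogonal {v w : GolayPt → ZMod 2} (hv : v ∈ golayCode) (hw : w ∈ golayCode) :
    ∑ i, v i * w i = 0 := by
  let pair : (GolayPt → ZMod 2) → ((GolayPt → ZMod 2) →ₗ[ZMod 2] ZMod 2) := fun u =>
    { toFun := fun x => ∑ i, u i * x i
      map_add' := fun x y => by simp [mul_add, Finset.sum_add_distrib]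
      map_smul' := fun c x => by
        simp only [Pi.smul_apply, smul_eq_mul, RingHom.id_apply, Finset.mul_sum, mul_left_comm] }
  have hsym : ∀ u x, pair u x = pair x u := fun u x => by simp [pair, mul_comm]
  have hker : ∀ u, (∀ b ∈ gBasis.map (fun v => v.2), pair u (ofMask b) = 0) →
      ∀ x ∈ golayCode, pair u x = 0 := by
    intro u hu x hx
    obtain ⟨m, hm, rfl⟩ := mem_golayCode.1 hx
    exact spanList_mem_submodule (M := LinearMap.ker (pair u)) _ hu m hm
  refine hker v (fun b hb => ?_) w hw
  rw [hsym]
  refine hker _ (fun a ha => ?_) v hv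
  show ∑ i, ofMask b i * ofMask a i = 0
  rw [sum_ofMask_mul]
  have := List.all_eq_true.1 (List.all_eq_true.1 basis_orth b hb) a ha
  rw [Nat.beq_eq] at this
  simp [this]

end Cfsg.Agent.Golay
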