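import Mathlib.Algebra.Group.End
import Cfsg.Agent.Lib.Golay.Basic
import Cfsg.Agent.Lib.Compute.PermCert
import Cfsg.Prelude.Def_Spor_Mathieu

/-!
Coded permutations of the 24 points, membership in the group of the code, and the checker for
subgroups cut out of it by invariant sets (`stabIn`).
-/

namespace Cfsg.Agent.Golay

open Cfsg Cfsg.Agent.PermCert
open scoped Pointwise

set_option linter.unusedSimpArgs false

/-! ### Coded permutations of the 24 points -/

/-- Transport of permutations of `Fin 24` to the 24 points. -/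
def phi : Equiv.Perm (Fin 24) ≃* Equiv.Perm GolayPt := ptEquiv.symm.permCongrHom

theorem phi_apply (σ : Equiv.Perm (Fin 24)) (p : GolayPt) :
    phi σ p = pt (σ ⟨idx p, idx_lt p⟩) := rfl

theorem idx_phi (σ : Equiv.Perm (Fin 24)) (p : GolayPt) :
    idx (phi σ p) = (σ ⟨idx p, idx_lt p⟩ : ℕ) := by
  rw [phi_apply, idx_pt]

/-- The permutation of the 24 points given by a code. -/
def permOf (e : Elt) : Equiv.Perm GolayPt := phi (toPerm 5 24 e)

theorem idx_permOf {e : Elt} (h : validElt 5 24 e = true) (p : GolayPt) :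
    idx (permOf e p) = get 5 e.1 (idx p) := by
  rw [permOf, idx_phi]; exact ((rep_toPerm h) ⟨idx p, idx_lt p⟩).1.symm

theorem idx_permOf_symm {e : Elt} (h : validElt 5 24 e = true) (p : GolayPt) :
    idx ((permOf e).symm p) = get 5 e.2 (idx p) := by
  have h2 := ((rep_toPerm h) ⟨idx p, idx_lt p⟩).2
  have : (permOf e).symm = phi (toPerm 5 24 e)⁻¹ := by rw [map_inv]; rfl
  rw [this, idx_phi]; exact h2.symm

theorem eq_permOf {σ : Equiv.Perm GolayPt} {e : Elt} (h : validElt 5 24 e = true)
    (he : ∀ p, idx (σ p) = get 5 e.1 (idx p)) : σ = permOf e :=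
  Equiv.ext fun p => idx_injective (by rw [he, idx_permOf h])

/-- Image of a mask under a coded permutation. -/
def imgMask (e : Elt) (m : ℕ) : ℕ := mkMask (fun i => m.testBit (get 5 e.2 i)) 24

theorem maskSet_imgMask {e : Elt} (h : validElt 5 24 e = true) (m : ℕ) :
    permOf e • maskSet m = maskSet (imgMask e m) := by
  ext p
  rw [← Finset.inv_smul_mem_iff]
  simp [mem_maskSet, imgMask, testBit_mkMask, idx_lt, ← idx_permOf_symm h, Equiv.Perm.inv_def]

theorem imgMask_zero (e : Elt) : imgMask e 0 = 0 :=
  Nat.eq_of_testBit_eq fun i => by simp [imgMask, testBit_mkMask]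

theorem imgMask_xor (e : Elt) (a b : ℕ) : imgMask e (a ^^^ b) = imgMask e a ^^^ imgMask e b :=
  Nat.eq_of_testBit_eq fun i => by
    simp only [imgMask, testBit_mkMask, Nat.testBit_xor]
    cases decide (i < 24) <;> simp

/-- A coded permutation maps the echelon basis into the code. -/
def isAutB (e : Elt) : Bool := gBasis.all fun v => inCode (imgMask e v.2)

theorem imgMask_spanList (e : Elt) : ∀ l : List ℕ, (∀ b ∈ l, inCode (imgMask e b) = true) →
    ∀ m ∈ spanList l, imgMask e m ∈ codeList := by
  intro l
  induction l with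
  | nil => intro _ m hm; simp [spanList] at hm; rw [hm, imgMask_zero]; exact zero_mem_spanList _
  | cons c l ih =>
    intro h m hm
    have ih := ih fun b hb => h b (List.mem_cons_of_mem _ hb)
    simp only [spanList, List.mem_append, List.mem_map] at hm
    rcases hm with hm | ⟨x, hx, rfl⟩
    · exact ih m hm
    · rw [imgMask_xor]
      exact spanList_xor _ _ (inCode_iff.1 (h c List.mem_cons_self)) _ (ih x hx)

theorem mem_M24_iff {σ : Equiv.Perm GolayPt} :
    σ ∈ M24 ↔ ∀ s ∈ supports (golayCode : Set (GolayPt → ZMod 2)),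
      σ • s ∈ supports (golayCode : Set (GolayPt → ZMod 2)) := by
  constructor
  · intro h s hs
    have h' : σ • supports (golayCode : Set (GolayPt → ZMod 2)) = supports _ :=
      MulAction.mem_stabilizer_iff.1 h
    exact h' ▸ Set.smul_mem_smul_set hs
  · intro h
    refine MulAction.mem_stabilizer_iff.2 (Set.eq_of_subset_of_ncard_le ?_ ?_ (Set.toFinite _))
    · rintro x ⟨s, hs, rfl⟩; exact h s hs
    · exact (Set.ncard_image_of_injective _ (MulAction.injective σ)).ge

theorem permOf_mem_M24 {e : Elt} (hv : validElt 5 24 e = true) (h : isAutB e = true) :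
    permOf e ∈ M24 := by
  rw [mem_M24_iff]
  intro s hs
  obtain ⟨m, hm, rfl⟩ := mem_supports.1 hs
  rw [maskSet_imgMask hv]
  refine mem_supports.2 ⟨_, imgMask_spanList e _ (fun b hb => ?_) m hm, rfl⟩
  obtain ⟨v, hv', rfl⟩ := List.mem_map.1 hb
  exact List.all_eq_true.1 h v hv'

theorem smul_mem_octads {σ : Equiv.Perm GolayPt} (hσ : σ ∈ M24) {o : Finset GolayPt}
    (ho : o ∈ octads) : σ • o ∈ octads :=
  ⟨mem_M24_iff.1 hσ o ho.1, by rw [Finset.card_smul_finset]; exact ho.2⟩

theorem smul_mem_dodecads {σ : Equiv.Perm GolayPt} (hσ : σ ∈ M24) {o : Finset GolayPt}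
    (ho : o ∈ dodecads) : σ • o ∈ dodecads :=
  ⟨mem_M24_iff.1 hσ o ho.1, by rw [Finset.card_smul_finset]; exact ho.2⟩

/-! ### Subgroups cut out by invariant sets -/

/-- The elements of the code's group preserving each of the listed sets. -/
def stabIn (inv : List ℕ) : Subgroup (Equiv.Perm GolayPt) where
  carrier := {σ | σ ∈ M24 ∧ ∀ o ∈ inv, σ • maskSet o = maskSet o}
  one_mem' := ⟨one_mem _, fun _ _ => one_smul _ _⟩
  mul_mem' := fun {a b} ha hb =>
    ⟨mul_mem ha.1 hb.1, fun o ho => by rw [mul_smul, hb.2 o ho, ha.2 o ho]⟩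
  inv_mem' := fun {a} ha => ⟨inv_mem ha.1, fun o ho => by rw [inv_smul_eq_iff, ha.2 o ho]⟩

theorem mem_stabIn {inv : List ℕ} {σ : Equiv.Perm GolayPt} :
    σ ∈ stabIn inv ↔ σ ∈ M24 ∧ ∀ o ∈ inv, σ • maskSet o = maskSet o := Iff.rfl

theorem stabIn_nil : stabIn [] = M24 := by ext σ; simp [mem_stabIn]

/-- A coded permutation lies in `stabIn inv`. -/
def inStabB (inv : List ℕ) (e : Elt) : Bool :=
  isAutB e && inv.all fun o => Nat.blt o 16777216 && Nat.beq (imgMask e o) o

theorem permOf_mem_stabIn {inv : List ℕ} {e : Elt} (hv : validElt 5 24 e = true)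
    (h : inStabB inv e = true) : permOf e ∈ stabIn inv := by
  simp only [inStabB, Bool.and_eq_true, List.all_eq_true, Nat.beq_eq] at h
  exact ⟨permOf_mem_M24 hv h.1, fun o ho => by rw [maskSet_imgMask hv, (h.2 o ho).2]⟩

/-- `o` and `o'` meet `F` in the same set and each set of `inv` in equally many points. -/
def sameProfile (F : ℕ) (inv : List ℕ) (o o' : ℕ) : Bool :=
  Nat.beq (o' &&& F) (o &&& F) &&
    inv.all fun s => Nat.beq (popCount (o' &&& s) 24) (popCount (o &&& s) 24)

/-- No other octad has the profile of `o`. -/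
def profileUnique (F : ℕ) (inv : List ℕ) (o : ℕ) : Bool :=
  octadList.all fun o' => Nat.beq o' o || !(sameProfile F inv o o')

/-- Each listed set is one of `inv`, or an octad determined by `F` and `inv`: it has at least five
points in `F`, or no other octad has its profile. -/
def octadsOK (F : ℕ) (inv : List ℕ) (os : List ℕ) : Bool :=
  os.all fun o =>
    memB o inv || (inCode o && Nat.beq (popCount o 24) 8 &&
      (Nat.ble 5 (popCount (o &&& F) 24) || profileUnique F inv o))

/-- Points outside `F` on the same side as `q` of each listed octad. -/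
def region (F q : ℕ) (os : List ℕ) : ℕ :=
  os.foldl (fun r o => r &&& (bif o.testBit q then o else 16777215 ^^^ o)) (16777215 ^^^ F)

/-- The image of `q` under an element fixing `F` must lie in `target`. -/
def stepOK (inv : List ℕ) (F q : ℕ) (os : List ℕ) (target : ℕ) : Bool :=
  Nat.blt q 24 && octadsOK F inv os && Nat.beq (region F q os &&& (16777215 ^^^ target)) 0

theorem testBit_full {i : ℕ} (hi : i < 24) : (16777215 : ℕ).testBit i = true := by
  revert i; decide

theorem octad_fixed {inv : List ℕ} {σ : Equiv.Perm GolayPt} (hσ' : σ ∈ stabIn inv) {F o : ℕ}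
    {os : List ℕ} (hfix : ∀ p ∈ maskSet F, σ p = p) (h : octadsOK F inv os = true) (ho : o ∈ os) :
    σ • maskSet o = maskSet o := by
  have h' := List.all_eq_true.1 h o ho
  simp only [Bool.or_eq_true, Bool.and_eq_true, Nat.beq_eq, Nat.ble_eq] at h'
  rcases h' with h' | h'
  · exact hσ'.2 o (memB_spec h')
  have hσ := hσ'.1
  obtain ⟨⟨hc, h8⟩, h5⟩ := h'
  have hoct : maskSet o ∈ octads := mem_octads.2 ⟨o, mem_octadList.2 ⟨inCode_iff.1 hc, h8⟩, rfl⟩
  rcases h5 with h5 | h5
  swap
  · obtain ⟨o', ho', he⟩ := mem_octads.1 (smul_mem_octads hσ hoct)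
    have hsame : sameProfile F inv o o' = true := by
      simp only [sameProfile, Bool.and_eq_true, List.all_eq_true, Nat.beq_eq]
      constructor
      · refine Nat.eq_of_testBit_eq fun i => ?_
        simp only [Nat.testBit_and]
        rcases Nat.lt_or_ge i 24 with hi | hi
        · cases hF : F.testBit i
          · simp
          · have hp := hfix (pt ⟨i, hi⟩) (mem_maskSet.2 (by rw [idx_pt]; exact hF))
            have : pt ⟨i, hi⟩ ∈ maskSet o' ↔ pt ⟨i, hi⟩ ∈ maskSet o := by
              rw [he]; conv_lhs => rw [← hp]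
              exact Finset.smul_mem_smul_finset_iff σ
            simp only [mem_maskSet, idx_pt] at this
            simp [Bool.eq_iff_iff.2 this]
        · have hbig : (2 : ℕ) ^ 24 ≤ 2 ^ i := Nat.pow_le_pow_right (by norm_num) hi
          rw [Nat.testBit_lt_two_pow (lt_of_lt_of_le (lt_of_mem_codeList (inCode_iff.1 hc)) hbig),
            Nat.testBit_lt_two_pow (lt_of_lt_of_le (lt_of_mem_octadList ho') hbig)]
      · intro s hs
        rw [← card_maskSet, ← card_maskSet, maskSet_and, maskSet_and, he]
        conv_lhs => rw [← hσ'.2 s hs, ← Finset.smul_finset_inter]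
        exact Finset.card_smul_finset σ _
    have := List.all_eq_true.1 h5 o' ho'
    simp only [hsame, Bool.not_true, Bool.or_false, Nat.beq_eq] at this
    rw [← he, this]
  refine octad_unique (smul_mem_octads hσ hoct) hoct ?_
  rw [← card_maskSet, maskSet_and] at h5
  refine h5.trans (Finset.card_le_card fun p hp => ?_)
  rw [Finset.mem_inter] at hp ⊢
  refine ⟨?_, hp.1⟩
  rw [← hfix p hp.2]
  exact Finset.smul_mem_smul_finset hp.1

theorem stepOK_spec {inv : List ℕ} {σ : Equiv.Perm GolayPt} (hσ : σ ∈ stabIn inv) {F q : ℕ}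
    {os : List ℕ} {target : ℕ}
    (hfix : ∀ p ∈ maskSet F, σ p = p) (h : stepOK inv F q os target = true) (hq : q < 24)
    (hqF : F.testBit q = false) : target.testBit (idx (σ (pt ⟨q, hq⟩))) = true := by
  simp only [stepOK, Bool.and_eq_true, Nat.beq_eq] at h
  obtain ⟨⟨-, hos⟩, hreg⟩ := h
  set p := pt ⟨q, hq⟩ with hp
  have hidx : idx p = q := idx_pt _
  have h24 := idx_lt (σ p)
  have hnot : F.testBit (idx (σ p)) = false := by
    by_contra hc
    have hc' : F.testBit (idx (σ p)) = true := by simpa using hc
    have := hfix (σ p) (mem_maskSet.2 hc')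
    have hσp : σ p = p := σ.injective this
    rw [hσp, hidx, hqF] at hc'
    exact absurd hc' (by simp)
  have hr : (region F q os).testBit (idx (σ p)) = true := by
    have key : ∀ l : List ℕ, (∀ o ∈ l, o ∈ os) → ∀ r : ℕ, r.testBit (idx (σ p)) = true →
        (l.foldl (fun r o => r &&& (bif o.testBit q then o else 16777215 ^^^ o)) r).testBit
          (idx (σ p)) = true := by
      intro l
      induction l with
      | nil => intro _ r hr; simpa using hr
      | cons o l ih =>
        intro hl r hr
        refine ih (fun x hx => hl x (List.mem_cons_of_mem _ hx)) _ ?_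
        have hinv := octad_fixed hσ hfix hos (hl o List.mem_cons_self)
        have hiff : o.testBit (idx (σ p)) = o.testBit q := by
          rw [← hidx, Bool.eq_iff_iff, ← mem_maskSet, ← mem_maskSet]
          conv_lhs => rw [← hinv]
          exact Finset.smul_mem_smul_finset_iff σ
        cases hb : o.testBit q <;> simp [Nat.testBit_and, hr, hiff, hb, testBit_full h24]
    exact key os (fun o ho => ho) _ (by simp [Nat.testBit_xor, hnot, testBit_full h24])
  have := congrArg (fun m => Nat.testBit m (idx (σ p))) hreg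
  simp [Nat.testBit_and, Nat.testBit_xor, hr, testBit_full h24] at this
  exact this

/-- Successive fixing of the remaining points. -/
def rigidOK (inv : List ℕ) : ℕ → List (ℕ × List ℕ) → Bool
  | F, [] => Nat.beq F 16777215
  | F, (q, os) :: rest =>
    stepOK inv F q os (1 <<< q) && !(F.testBit q) && rigidOK inv (F ||| (1 <<< q)) rest

theorem maskSet_insert {F q : ℕ} (hq : q < 24) :
    (maskSet (F ||| (1 <<< q)) : Finset GolayPt) = insert (pt ⟨q, hq⟩) (maskSet F) := by
  ext p
  simp only [mem_maskSet, Nat.testBit_or, Bool.or_eq_true, Finset.mem_insert, Nat.one_shiftLeft,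
    Nat.testBit_two_pow, decide_eq_true_eq]
  constructor
  · rintro (h | h)
    · exact Or.inr h
    · left; apply idx_injective; rw [idx_pt]; exact h.symm
  · rintro (rfl | h)
    · exact Or.inr (idx_pt ⟨q, hq⟩).symm
    · exact Or.inl h

theorem rigidOK_spec {inv : List ℕ} : ∀ (l : List (ℕ × List ℕ)) (F : ℕ), rigidOK inv F l = true →
    ∀ σ ∈ stabIn inv, (∀ p ∈ maskSet F, σ p = p) → σ = 1 := by
  intro l
  induction l with
  | nil =>
    intro F h σ _ hfix
    simp only [rigidOK, Nat.beq_eq] at h
    exact Equiv.ext fun p => hfix p (mem_maskSet.2 (by rw [h]; exact testBit_full (idx_lt p)))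
  | cons st l ih =>
    obtain ⟨q, os⟩ := st
    intro F h σ hσ hfix
    simp only [rigidOK, Bool.and_eq_true, Bool.not_eq_true'] at h
    obtain ⟨⟨hstep, hqF⟩, hrest⟩ := h
    have hq : q < 24 := by
      have h' := hstep
      simp [stepOK, Bool.and_eq_true] at h'
      exact h'.1.1
    refine ih _ hrest σ hσ fun p hp => ?_
    rw [maskSet_insert hq, Finset.mem_insert] at hp
    rcases hp with rfl | hp
    · apply idx_injective
      have := stepOK_spec hσ hfix hstep hq hqF
      simpa [Nat.one_shiftLeft, Nat.testBit_two_pow, idx_pt, eq_comm] using this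
    · exact hfix p hp

/-- The mask of an orbit in a certificate level. -/
def keysMask (T : List (ℕ × Elt × ℕ × ℕ)) : ℕ :=
  mkMask (fun i => T.any fun t => Nat.beq t.1 i) 24

/-- Upper-bound check along a chain, then the rigid tail. -/
def upperOK (inv : List ℕ) : ℕ → List CLevel → List (List ℕ) → List (ℕ × List ℕ) → Bool
  | F, [], _, rig => rigidOK inv F rig
  | _, _ :: _, [], _ => false
  | F, (b, _, T) :: L, os :: oss, rig =>
    stepOK inv F b os (keysMask T) && !(F.testBit b) && upperOK inv (F ||| (1 <<< b)) L oss rig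

/-- Full-orbit check for the first `k` levels. -/
def fullOK : ℕ → List CLevel → ℕ → Bool
  | _, _, 0 => true
  | _, [], _ + 1 => false
  | F, (b, _, T) :: L, k + 1 =>
    allBelow (fun i => F.testBit i || T.any fun t => Nat.beq t.1 i) 24 && Nat.blt b 24 &&
      fullOK (F ||| (1 <<< b)) L k

theorem interp_mask {F : ℕ} {σ : Equiv.Perm (Fin 24)}
    (hfix : ∀ x ∈ {x : Fin 24 | F.testBit x = true}, σ • x = x) :
    ∀ p ∈ maskSet F, phi σ p = p := by
  intro p hp
  apply idx_injective
  rw [idx_phi]
  have := hfix ⟨idx p, idx_lt p⟩ (mem_maskSet.1 hp)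
  exact congrArg Fin.val this

theorem set_insert_mask {F b : ℕ} (hb : b < 24) :
    insert (Fin.ofNat 24 b) {x : Fin 24 | F.testBit x = true}
      = {x : Fin 24 | (F ||| (1 <<< b)).testBit x = true} := by
  ext x
  simp only [Set.mem_insert_iff, Set.mem_ofPred_eq, Nat.testBit_or, Bool.or_eq_true,
    Nat.one_shiftLeft, Nat.testBit_two_pow, decide_eq_true_eq, Fin.ext_iff, Fin.val_ofNat,
    Nat.mod_eq_of_lt hb]
  tauto

theorem upper_interp {inv : List ℕ} : ∀ (L : List CLevel) (F : ℕ) (oss : List (List ℕ)) (rig : List (ℕ × List ℕ)),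
    AllRep 5 24 L → (∀ l ∈ L, ∀ t ∈ l.2.2, get 5 t.2.1.1 l.1 = t.1) →
    upperOK inv F L oss rig = true →
    Upper ((stabIn inv).comap phi.toMonoidHom) {x : Fin 24 | F.testBit x = true} (interp 5 24 L) := by
  intro L
  induction L with
  | nil =>
    intro F oss rig _ _ h σ hσ hfix
    have := rigidOK_spec rig F h (phi σ) hσ (interp_mask hfix)
    exact phi.injective (by rw [this, map_one])
  | cons l L ih =>
    obtain ⟨b, S, T⟩ := l
    intro F oss rig hall hkeys h
    cases oss with
    | nil => simp [upperOK] at h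
    | cons os oss =>
      simp only [upperOK, Bool.and_eq_true, Bool.not_eq_true'] at h
      obtain ⟨⟨hstep, hbF⟩, hrest⟩ := h
      have hb : b < 24 := by
        have h' := hstep
        simp [stepOK, Bool.and_eq_true] at h'
        exact h'.1.1
      refine ⟨fun σ hσ hfix => ?_, ?_⟩
      · have := stepOK_spec (σ := phi σ) hσ (interp_mask hfix) hstep hb hbF
        simp only [keysMask, testBit_mkMask, idx_lt, decide_true, Bool.true_and, List.any_eq_true, Fin.is_lt,
          Nat.beq_eq, idx_phi, idx_pt] at this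
        obtain ⟨t, ht, hte⟩ := this
        obtain ⟨τ, hτ⟩ := hall.2.1 t ht
        refine ⟨τ, List.mem_map.2 ⟨t, ht, epsilon_rep hτ⟩, ?_⟩
        apply Fin.ext
        have hb' : Fin.ofNat 24 b = ⟨b, hb⟩ := Fin.ext (by simp [Nat.mod_eq_of_lt hb])
        rw [hb']
        simp only [Equiv.Perm.smul_def]
        rw [← (hτ ⟨b, hb⟩).1, hkeys (b, S, T) List.mem_cons_self t ht, hte]
      · rw [set_insert_mask hb]
        exact ih _ oss rig hall.2.2 (fun l hl => hkeys l (List.mem_cons_of_mem _ hl)) hrest

theorem full_interp : ∀ (L : List CLevel) (F k : ℕ),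
    AllRep 5 24 L → (∀ l ∈ L, ∀ t ∈ l.2.2, get 5 t.2.1.1 l.1 = t.1) →
    fullOK F L k = true → Full {x : Fin 24 | F.testBit x = true} (interp 5 24 L) k := by
  intro L
  induction L with
  | nil => intro F k _ _ h; cases k <;> simp_all [fullOK, Full, interp]
  | cons l L ih =>
    obtain ⟨b, S, T⟩ := l
    intro F k hall hkeys h
    cases k with
    | zero => trivial
    | succ k =>
      simp only [fullOK, Bool.and_eq_true, Nat.blt_eq] at h
      obtain ⟨⟨horb, hb⟩, hrest⟩ := h
      refine ⟨fun x hx => ?_, ?_⟩
      · have := allBelow_spec _ _ horb x x.2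
        simp only [Set.mem_ofPred_eq] at hx
        simp only [hx, Bool.false_or, List.any_eq_true, Nat.beq_eq] at this
        obtain ⟨t, ht, hte⟩ := this
        obtain ⟨τ, hτ⟩ := hall.2.1 t ht
        refine ⟨τ, List.mem_map.2 ⟨t, ht, epsilon_rep hτ⟩, ?_⟩
        apply Fin.ext
        simp only [Equiv.Perm.smul_def]
        rw [← (hτ _).1, Fin.val_ofNat, Nat.mod_eq_of_lt hb, hkeys (b, S, T) List.mem_cons_self t ht,
          hte]
      · rw [set_insert_mask hb]
        exact ih _ k hall.2.2 (fun l hl => hkeys l (List.mem_cons_of_mem _ hl)) hrest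

theorem empty_mask : {x : Fin 24 | (0 : ℕ).testBit x = true} = ∅ := by ext x; simp

/-- The subgroup of permutations of the 24 points given by coded generators. -/
def genPerm (gens : List Elt) : Subgroup (Equiv.Perm GolayPt) :=
  (genGroup 5 24 gens).map phi.toMonoidHom

/-- Every base image in each level is as recorded. -/
def keysOK (levels : List CLevel) : Bool :=
  levels.all fun l => l.2.2.all fun t => Nat.beq (get 5 t.2.1.1 l.1) t.1

/-- Full check of a certificate for `stabIn inv`. -/
def stabCertOK (inv : List ℕ) (gens : List Elt) (derived : List (Elt × List ℕ))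
    (levels : List CLevel) (oss : List (List ℕ)) (rig : List (ℕ × List ℕ)) : Bool :=
  checkCert 5 24 gens derived levels && gens.all (fun e => validElt 5 24 e && inStabB inv e) &&
    keysOK levels && upperOK inv 0 levels oss rig

theorem allRep_of_cert {gens : List Elt} {derived : List (Elt × List ℕ)} {levels : List CLevel}
    (h : checkCert 5 24 gens derived levels = true) : AllRep 5 24 levels := by
  simp only [checkCert, Bool.and_eq_true, List.all_eq_true, Nat.ble_eq] at h
  obtain ⟨⟨⟨⟨⟨hn, hval⟩, hder⟩, htop⟩, hlev⟩, -⟩ := h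
  have hpool := derived_spec hn derived gens
    (M := (⊤ : Submonoid (Equiv.Perm (Fin 24))))
    (fun g hg => ⟨toPerm 5 24 g, trivial, rep_toPerm (hval g hg)⟩) hder
  exact (levels_spec hn levels hlev
    (fun s hs => let ⟨σ, _, h⟩ := hpool s (memCode_spec (htop s hs)); ⟨σ, h⟩)).1

theorem keys_of_ok {levels : List CLevel} (h : keysOK levels = true) :
    ∀ l ∈ levels, ∀ t ∈ l.2.2, get 5 t.2.1.1 l.1 = t.1 := fun l hl t ht => by
  simpa using List.all_eq_true.1 (List.all_eq_true.1 h l hl) t ht

theorem stabCert_spec {inv : List ℕ} {gens : List Elt} {derived : List (Elt × List ℕ)}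
    {levels : List CLevel} {oss : List (List ℕ)} {rig : List (ℕ × List ℕ)}
    (h : stabCertOK inv gens derived levels oss rig = true) :
    genPerm gens = stabIn inv ∧ Nat.card (stabIn inv) = certOrder levels := by
  simp only [stabCertOK, Bool.and_eq_true] at h
  obtain ⟨⟨⟨hc, hgens⟩, hkeys⟩, hupper⟩ := h
  have hle : genPerm gens ≤ stabIn inv := by
    rw [genPerm, Subgroup.map_le_iff_le_comap, genGroup, Subgroup.closure_le]
    intro σ hσ
    obtain ⟨g, hg, rfl⟩ := List.mem_map.1 hσ
    have := List.all_eq_true.1 hgens g hg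
    simp only [Bool.and_eq_true] at this
    exact permOf_mem_stabIn this.1 this.2
  have heq : genPerm gens = stabIn inv := by
    refine le_antisymm hle fun σ hσ => ?_
    obtain ⟨hg, he⟩ := cert_good (n := 24) hc
    obtain ⟨τ, rfl⟩ := phi.surjective σ
    refine ⟨τ, ?_, rfl⟩
    have hup := upper_interp (inv := inv) levels 0 oss rig (allRep_of_cert hc) (keys_of_ok hkeys)
      hupper
    rw [empty_mask] at hup
    have hτ := mem_prodSet_of_upper (interp 5 24 levels) ∅ hg hup (fun s hs => ⟨?_, by simp⟩) τ hσ
      (by simp)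
    · rw [← he]
      rw [prodSet_eq _ hg, ← closure_carrier] at hτ
      exact hτ
    · have : s ∈ genGroup 5 24 gens := he ▸ Subgroup.subset_closure hs
      exact hle ⟨s, this, rfl⟩
  exact ⟨heq, by rw [← heq, genPerm, Subgroup.card_map_of_injective phi.injective, cert_card hc]⟩

/-- The stabiliser reaches every point list avoiding nothing, as far as the full levels go. -/
theorem stabCert_reach {gens : List Elt} {derived : List (Elt × List ℕ)} {levels : List CLevel}
    (hc : checkCert 5 24 gens derived levels = true) (hkeys : keysOK levels = true) {k : ℕ}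
    (hfull : fullOK 0 levels k = true) (xs : List GolayPt) (hl : xs.length = k) (hnd : xs.Nodup) :
    ∃ g ∈ genPerm gens, ((levels.map fun l => pt (Fin.ofNat 24 l.1)).take k).map g = xs := by
  obtain ⟨hg, he⟩ := cert_good (n := 24) hc
  have hf := full_interp levels 0 k (allRep_of_cert hc) (keys_of_ok hkeys) hfull
  rw [empty_mask] at hf
  obtain ⟨g, hgm, hg'⟩ := reach k (interp 5 24 levels) ∅ hg hf (by simp)
    (xs.map ptEquiv) (by simpa using hl) (hnd.map ptEquiv.injective) (by simp)
  refine ⟨phi g, ⟨g, ?_, rfl⟩, ?_⟩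
  · rw [prodSet_eq _ hg, ← closure_carrier, he] at hgm
    exact hgm
  · have hb : ∀ L : List CLevel,
        (interp 5 24 L).map (fun l => l.1) = L.map fun l => Fin.ofNat 24 l.1 := by
      intro L; induction L with
      | nil => rfl
      | cons l L ih => simp [interp, ih]
    rw [hb] at hg'
    have h2 := congrArg (List.map pt) hg'
    rw [List.map_map, List.map_map] at h2
    rw [show (levels.map fun l => pt (Fin.ofNat 24 l.1))
      = (levels.map fun l => Fin.ofNat 24 l.1).map pt from by rw [List.map_map]; rfl,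
      ← List.map_take, List.map_map]
    refine Eq.trans ?_ (h2.trans ?_)
    · apply List.map_congr_left
      intro x _
      simp [phi_apply, idx_pt]
    · conv_rhs => rw [← List.map_id xs]
      apply List.map_congr_left
      intro x _
      exact pt_idx x

end Cfsg.Agent.Golay
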