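import Mathlib.GroupTheory.GroupAction.MultipleTransitivity
import Cfsg.Agent.Lib.Golay.Aut
import Cfsg.Agent.Lib.Golay.M24Data

/-!
The group of the Golay code: order 244823040, 5-transitivity, generation by the three explicit
permutations, transitivity on octads.
-/

namespace Cfsg.Agent.Golay

open Cfsg Cfsg.Agent.PermCert Cfsg.Agent.Golay.Cert
open scoped Pointwise

theorem gens_valid : m24Gens.all (fun e => validElt 5 24 e) = true := by decide +kernel

theorem gens_aut : m24Gens.all isAutB = true := by decide +kernel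

theorem m24_ok : stabCertOK [] m24Gens m24Derived m24Levels m24LevelOctads m24Rigid = true := by
  decide +kernel

theorem m24_cert : checkCert 5 24 m24Gens m24Derived m24Levels = true := by
  have := m24_ok
  simp only [stabCertOK, Bool.and_eq_true] at this
  exact this.1.1.1

theorem m24_keys : keysOK m24Levels = true := by
  have := m24_ok
  simp only [stabCertOK, Bool.and_eq_true] at this
  exact this.1.2

theorem m24_full : fullOK 0 m24Levels 5 = true := by decide +kernel

theorem m24_order : certOrder m24Levels = 244823040 := by decide +kernel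

theorem genPerm_M24 : genPerm m24Gens = M24 := by rw [(stabCert_spec m24_ok).1, stabIn_nil]

/-- **The group of the Golay code has order 244823040.** -/
theorem card_M24 : Nat.card M24 = 244823040 := by
  rw [← stabIn_nil, (stabCert_spec m24_ok).2, m24_order]

theorem exists_M24_map {x y : Fin 5 → GolayPt} (hx : Function.Injective x)
    (hy : Function.Injective y) : ∃ g ∈ M24, ∀ i, g (x i) = y i := by
  obtain ⟨a, ha, ha'⟩ := stabCert_reach m24_cert m24_keys m24_full (List.ofFn x) (by simp)
    (List.nodup_ofFn.2 hx)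
  obtain ⟨b, hb, hb'⟩ := stabCert_reach m24_cert m24_keys m24_full (List.ofFn y) (by simp)
    (List.nodup_ofFn.2 hy)
  rw [genPerm_M24] at ha hb
  refine ⟨b * a⁻¹, mul_mem hb (inv_mem ha), fun i => ?_⟩
  simp [List.ofFn_succ, m24Levels] at ha' hb'
  obtain ⟨a0, a1, a2, a3, a4⟩ := ha'
  obtain ⟨b0, b1, b2, b3, b4⟩ := hb'
  fin_cases i <;> simp [← a0, ← a1, ← a2, ← a3, ← a4, ← b0, ← b1, ← b2, ← b3, ← b4]

theorem isMultiplyPretransitive_M24 : MulAction.IsMultiplyPretransitive M24 GolayPt 5 := by
  constructor
  intro x y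
  obtain ⟨g, hg, h⟩ := exists_M24_map x.injective y.injective
  exact ⟨⟨g, hg⟩, Function.Embedding.ext h⟩

/-- The group is transitive on octads. -/
theorem exists_M24_octad {o o' : Finset GolayPt} (ho : o ∈ octads) (ho' : o' ∈ octads) :
    ∃ g ∈ M24, g • o = o' := by
  obtain ⟨s, hs, hs5⟩ := Finset.exists_subset_card_eq (by rw [card_octad ho]; norm_num : 5 ≤ o.card)
  obtain ⟨t, ht, ht5⟩ := Finset.exists_subset_card_eq (by rw [card_octad ho']; norm_num : 5 ≤ o'.card)
  let x : Fin 5 → GolayPt := fun i => (s.equivFin.symm (i.cast hs5.symm) : GolayPt)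
  let y : Fin 5 → GolayPt := fun i => (t.equivFin.symm (i.cast ht5.symm) : GolayPt)
  have hxinj : Function.Injective x := fun a b h => by simpa [x] using h
  have hyinj : Function.Injective y := fun a b h => by simpa [y] using h
  obtain ⟨g, hg, h⟩ := exists_M24_map hxinj hyinj
  refine ⟨g, hg, octad_unique (smul_mem_octads hg ho) ho' ?_⟩
  rw [← ht5]
  refine Finset.card_le_card fun p hp => ?_
  obtain ⟨i, hi⟩ : ∃ i, y i = p :=
    ⟨(t.equivFin ⟨p, hp⟩).cast ht5, by simp [y]⟩
  refine Finset.mem_inter.2 ⟨?_, ht hp⟩
  rw [← hi, ← h i]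
  exact Finset.smul_mem_smul_finset (hs (Finset.coe_mem _))

theorem translation_eq : Equiv.optionCongr (Equiv.addRight (1 : ZMod 23)) = permOf m24Gens[0] := by
  apply eq_permOf (List.all_eq_true.1 gens_valid _ (List.getElem_mem _))
  decide +kernel

theorem projInv_eq : projInv = permOf m24Gens[1] := by
  apply eq_permOf (List.all_eq_true.1 gens_valid _ (List.getElem_mem _))
  decide +kernel

theorem cubeTwist_eq : cubeTwist = permOf m24Gens[2] := by
  apply eq_permOf (List.all_eq_true.1 gens_valid _ (List.getElem_mem _))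
  show ∀ p, idx (cubeTwistFun p) = _
  decide +kernel

theorem closure_gens : Subgroup.closure
    {Equiv.optionCongr (Equiv.addRight (1 : ZMod 23)), projInv, cubeTwist} = M24 := by
  rw [← genPerm_M24, genPerm, genGroup, MonoidHom.map_closure, translation_eq, projInv_eq,
    cubeTwist_eq]
  congr 1
  ext σ
  simp [m24Gens, permOf, eq_comm]

end Cfsg.Agent.Golay
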