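import Cfsg.Agent.Lib.Golay.Basic
import Cfsg.Agent.S0358

/-!
Self-duality of the length-24 code and extension of patterns on a set of points to code words.
-/

namespace Cfsg.Agent.Golay

open Cfsg

variable {ι : Type*} [Fintype ι] [DecidableEq ι]

/-- The words orthogonal to `C`. -/
noncomputable def perp (C : Submodule (ZMod 2) (ι → ZMod 2)) : Submodule (ZMod 2) (ι → ZMod 2) :=
  C.dualAnnihilator.comap (dotProductEquiv (ZMod 2) ι).toLinearMap

theorem mem_perp {C : Submodule (ZMod 2) (ι → ZMod 2)} {w : ι → ZMod 2} :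
    w ∈ perp C ↔ ∀ v ∈ C, ∑ i, w i * v i = 0 := by
  simp only [perp, Submodule.mem_comap, Submodule.mem_dualAnnihilator]
  rfl

theorem finrank_perp (C : Submodule (ZMod 2) (ι → ZMod 2)) :
    Module.finrank (ZMod 2) C + Module.finrank (ZMod 2) (perp C) = Fintype.card ι := by
  have heq : Module.finrank (ZMod 2) (perp C) = Module.finrank (ZMod 2) C.dualAnnihilator :=
    LinearEquiv.finrank_eq ((LinearEquiv.ofSubmodules (dotProductEquiv (ZMod 2) ι) _ _
      (Submodule.map_comap_eq_of_surjective (LinearEquiv.surjective _) _)))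
  rw [heq, Subspace.finrank_add_finrank_dualAnnihilator_eq, Module.finrank_fintype_fun_eq_card]

/-- A self-orthogonal code has at most half the dimension. -/
theorem two_mul_finrank_le {C : Submodule (ZMod 2) (ι → ZMod 2)}
    (h : ∀ v ∈ C, ∀ w ∈ C, ∑ i, v i * w i = 0) :
    2 * Module.finrank (ZMod 2) C ≤ Fintype.card ι := by
  have hle : C ≤ perp C := fun w hw => mem_perp.2 fun v hv => h w hw v hv
  have := Submodule.finrank_mono hle
  have := finrank_perp C
  omega

theorem perp_golayCode : perp golayCode = golayCode := by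
  have hle : golayCode ≤ perp golayCode := fun w hw => mem_perp.2 fun v hv => self_orthogonal hw hv
  refine (Submodule.eq_of_le_of_finrank_eq hle ?_).symm
  have := finrank_perp golayCode
  have := Cfsg.Agent.S0358.result
  have : Fintype.card GolayPt = 24 := rfl
  omega

theorem mem_code_of_orth {w : GolayPt → ZMod 2} (h : ∀ v ∈ golayCode, ∑ i, w i * v i = 0) :
    w ∈ golayCode :=
  perp_golayCode.le (mem_perp.2 h)

/-- A pattern on `S` orthogonal to all code words inside `S` extends to a code word. -/
theorem exists_code_eq_on (S : Finset GolayPt) (f : GolayPt → ZMod 2)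
    (hf : ∀ u ∈ golayCode, (∀ i ∉ S, u i = 0) → ∑ i, u i * f i = 0) :
    ∃ c ∈ golayCode, ∀ i ∈ S, c i = f i := by
  classical
  let K : Submodule (ZMod 2) (GolayPt → ZMod 2) :=
    { carrier := {u | ∀ i ∈ S, u i = 0}
      add_mem' := fun {a b} ha hb i hi => by simp [ha i hi, hb i hi]
      zero_mem' := fun _ _ => rfl
      smul_mem' := fun r a ha i hi => by simp [ha i hi] }
  have hmem : f ∈ golayCode ⊔ K := by
    rw [← Subspace.forall_mem_dualAnnihilator_apply_eq_zero_iff]
    intro φ hφ
    obtain ⟨u, rfl⟩ := (dotProductEquiv (ZMod 2) GolayPt).surjective φ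
    rw [Submodule.dualAnnihilator_sup_eq, Submodule.mem_inf] at hφ
    have hu : u ∈ golayCode := perp_golayCode.le hφ.1
    refine hf u hu fun i hi => ?_
    have h := (Submodule.mem_dualAnnihilator _).1 hφ.2 (Pi.single i 1)
      (fun j hj => Pi.single_eq_of_ne (ne_of_mem_of_not_mem hj hi) _)
    simpa [dotProductEquiv, dotProduct, Pi.single_apply] using h
  obtain ⟨c, hc, k, hk, rfl⟩ := Submodule.mem_sup.1 hmem
  exact ⟨c, hc, fun i hi => by simp [hk i hi]⟩

theorem exists_code_eq_on_small (S : Finset GolayPt) (hS : S.card ≤ 7) (f : GolayPt → ZMod 2) :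
    ∃ c ∈ golayCode, ∀ i ∈ S, c i = f i := by
  refine exists_code_eq_on S f fun u hu h => ?_
  have hu0 : u = 0 := by
    by_contra h0
    obtain ⟨m, hm, rfl⟩ := mem_golayCode.1 hu
    have hsub : maskSet m ⊆ S := fun i hi => by
      by_contra hiS
      have := h i hiS
      rw [ofMask, if_pos (mem_maskSet.1 hi)] at this
      exact one_ne_zero this
    have hle := Finset.card_le_card hsub
    rw [card_maskSet] at hle
    rcases weight_cases hm with e | e | e | e | e <;> try omega
    refine h0 (funext fun p => ?_)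
    have hemp : maskSet m = ∅ := Finset.card_eq_zero.1 (by rw [card_maskSet, e])
    have : p ∉ maskSet m := by rw [hemp]; simp
    rw [ofMask, if_neg (fun hp => this (mem_maskSet.2 hp))]; rfl
  simp [hu0]

end Cfsg.Agent.Golay
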