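import Cfsg.Agent.Lib.Golay.Local.PermModule
import Cfsg.Agent.Lib.Golay.Dual

/-!
The code modulo the constant words as an abstract group of order `2^11` with its 759 octad
elements: the automorphisms preserving the octad elements come from unique elements of the group
of the code, since the functionals given by duads are the ones which are odd on exactly 352
octads.
-/

set_option autoImplicit false
set_option linter.style.haveILetI false
set_option maxRecDepth 20000

namespace Cfsg.Agent.Golay.OctadSpace

open Cfsg Cfsg.Agent.Golay Cfsg.Agent.Golay.Cert Cfsg.Agent.Golay.Local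
open scoped Pointwise

local notation "W24" => GolayPt → ZMod 2

/-- The parity of a word on a set of points. -/
def par (t : Finset GolayPt) (c : W24) : ZMod 2 := ∑ p ∈ t, c p

theorem par_add (t : Finset GolayPt) (c d : W24) : par t (c + d) = par t c + par t d := by
  simp [par, Finset.sum_add_distrib]

theorem par_const (t : Finset GolayPt) : par t (fun _ => 1) = (t.card : ZMod 2) := by
  simp [par]

theorem par_pair {p q : GolayPt} (h : p ≠ q) (c : W24) : par {p, q} c = c p + c q :=
  Finset.sum_pair h

theorem par_ind (t o : Finset GolayPt) : par t (ind o) = ((o ∩ t).card : ZMod 2) := by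
  simp [par, ind, Finset.inter_comm o t]

theorem par_eq_dot (t : Finset GolayPt) (c : W24) : par t c = ∑ p, ind t p * c p := by
  simp [par, ind]

/-- The octads as a finite set. -/
noncomputable def octFin : Finset (Finset GolayPt) := octads.toFinite.toFinset

theorem mem_octFin {o : Finset GolayPt} : o ∈ octFin ↔ o ∈ octads := by simp [octFin]

/-- The number of octads meeting a set oddly. -/
noncomputable def oddCount (t : Finset GolayPt) : ℕ := (octFin.filter fun o => par t (ind o) = 1).card

theorem oddCount_mask (k : ℕ) :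
    oddCount (maskSet k) = (octadList.filter fun m => Nat.beq (Nat.mod (pcF (Nat.land m k)) 2) 1).length := by
  classical
  have hset : (octFin.filter fun o => par (maskSet k) (ind o) = 1) =
      (octadList.filter fun m => Nat.beq (Nat.mod (pcF (Nat.land m k)) 2) 1).toFinset.image maskSet := by
    have key : ∀ m, par (maskSet k) (ind (maskSet m)) = 1 ↔
        Nat.beq (Nat.mod (pcF (Nat.land m k)) 2) 1 = true := by
      intro m
      rw [par_ind, ← maskSet_and, card_maskSet, ← pcF_eq, Nat.beq_eq, ← ZMod.natCast_mod]
      show _ ↔ pcF (m &&& k) % 2 = 1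
      rcases Nat.mod_two_eq_zero_or_one (pcF (m &&& k)) with e | e <;> simp [e]
    ext o
    simp only [Finset.mem_filter, mem_octFin, Finset.mem_image, List.mem_toFinset, List.mem_filter]
    constructor
    · rintro ⟨ho, h⟩
      obtain ⟨m, hm, rfl⟩ := mem_octads.1 ho
      exact ⟨m, ⟨hm, (key m).1 h⟩, rfl⟩
    · rintro ⟨m, ⟨hm, h⟩, rfl⟩
      exact ⟨mem_octads.2 ⟨m, hm, rfl⟩, (key m).2 h⟩
  rw [oddCount, hset, Finset.card_image_of_injOn, List.toFinset_card_of_nodup (octadList_nodup.filter _)]
  intro a ha b hb h
  simp only [Finset.mem_coe, List.mem_toFinset, List.mem_filter] at ha hb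
  exact maskSet_inj (lt_of_mem_octadList ha.1) (lt_of_mem_octadList hb.1) h

theorem count_checks :
    (octadList.filter fun m => Nat.beq (Nat.mod (pcF (Nat.land m 3)) 2) 1).length = 352 ∧
      (octadList.filter fun m => Nat.beq (Nat.mod (pcF (Nat.land m 15)) 2) 1).length = 384 := by
  decide +kernel

theorem smul_octad {σ : Equiv.Perm GolayPt} (hσ : σ ∈ M24) {o : Finset GolayPt} (ho : o ∈ octads) :
    σ • o ∈ octads :=
  ⟨mem_M24_iff.1 hσ o ho.1, by rw [Finset.card_smul_finset]; exact ho.2⟩

theorem oddCount_smul {σ : Equiv.Perm GolayPt} (hσ : σ ∈ M24) (t : Finset GolayPt) :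
    oddCount (σ • t) = oddCount t := by
  classical
  symm
  refine Finset.card_nbij' (fun o => σ • o) (fun o => σ⁻¹ • o) ?_ ?_ ?_ ?_
  · intro o ho
    simp only [Finset.coe_filter, Set.mem_ofPred_eq, mem_octFin, par_ind] at ho ⊢
    exact ⟨smul_octad hσ ho.1, by rw [← Finset.smul_finset_inter, Finset.card_smul_finset]; exact ho.2⟩
  · intro o ho
    simp only [Finset.coe_filter, Set.mem_ofPred_eq, mem_octFin, par_ind] at ho ⊢
    refine ⟨smul_octad (inv_mem hσ) ho.1, ?_⟩
    rw [← Finset.card_smul_finset σ, Finset.smul_finset_inter, smul_inv_smul]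
    exact ho.2
  · intro o _; exact inv_smul_smul σ o
  · intro o _; exact smul_inv_smul σ o

theorem oddCount_duad {t : Finset GolayPt} (h : t.card = 2) : oddCount t = 352 := by
  have h3 : (maskSet 3).card = 2 := by decide +kernel
  obtain ⟨σ, hσ, rfl⟩ := exists_smul_small (s := maskSet 3) (t := t) (h3.trans h.symm) (by omega)
  rw [oddCount_smul hσ, oddCount_mask, count_checks.1]

theorem oddCount_four {t : Finset GolayPt} (h : t.card = 4) : oddCount t = 384 := by
  have h15 : (maskSet 15).card = 4 := by decide +kernel
  obtain ⟨σ, hσ, rfl⟩ := exists_smul_small (s := maskSet 15) (t := t) (h15.trans h.symm) (by omega)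
  rw [oddCount_smul hσ, oddCount_mask, count_checks.2]

theorem support_ind (s : Finset GolayPt) : support₂ (ind s) = s := by
  ext p; simp [support₂, ind]

theorem card_dodecad' {o : Finset GolayPt} (h : o ∈ dodecads) : o.card = 12 := h.2

/-- The code has no nonzero word of weight less than 8. -/
theorem eq_zero_of_weight {c : W24} (hc : c ∈ golayCode) (h : (support₂ c).card < 8) : c = 0 := by
  rcases code_cases hc with e | e | e | e | e
  · exact e
  · exfalso
    rw [e, show support₂ (fun _ : GolayPt => (1 : ZMod 2)) = Finset.univ by ext; simp [support₂],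
      Finset.card_univ, show Fintype.card GolayPt = 24 from rfl] at h
    omega
  · have := card_octad e; omega
  · have := card_dodecad' e; omega
  · have h1 := card_octad e
    rw [Finset.card_sdiff_of_subset (Finset.subset_univ _), Finset.card_univ,
      show Fintype.card GolayPt = 24 from rfl] at h1
    omega

/-- Small sets with equal parities on the code are equal. -/
theorem eq_of_par {s t : Finset GolayPt} (h : s.card + t.card < 8)
    (e : ∀ c ∈ golayCode, par s c = par t c) : s = t := by
  have hmem : ind s + ind t ∈ golayCode := mem_code_of_orth fun v hv => by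
    simp only [Pi.add_apply, add_mul, Finset.sum_add_distrib, ← par_eq_dot, e v hv, CharTwo.add_self_eq_zero]
  have h0 : ind s + ind t = 0 := by
    refine eq_zero_of_weight hmem (lt_of_le_of_lt ?_ h)
    rw [ind_add, support_ind]
    exact (Finset.card_union_le _ _).trans (add_le_add (Finset.card_le_card Finset.sdiff_subset)
      (Finset.card_le_card Finset.sdiff_subset))
  rw [← support_ind s, ← support_ind t]
  congr 1
  funext p
  exact CharTwo.add_eq_zero.1 (congrFun h0 p)

/-- A functional on the code killing the constants and odd on 352 octads is a duad. -/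
theorem exists_duad (L : W24 → ZMod 2) (hadd : ∀ x ∈ golayCode, ∀ y ∈ golayCode, L (x + y) = L x + L y)
    (h1 : L (fun _ => 1) = 0) (hn : (octFin.filter fun o => L (ind o) = 1).card = 352) :
    ∃ t : Finset GolayPt, t.card = 2 ∧ ∀ c ∈ golayCode, L c = par t c := by
  classical
  let l : ↥golayCode →ₗ[ZMod 2] ZMod 2 :=
    { toFun := fun c => L c.1
      map_add' := fun x y => hadd _ x.2 _ y.2
      map_smul' := fun r x => by
        have h0 : L 0 = 0 := by simpa using hadd 0 (zero_mem _) 0 (zero_mem _)
        rcases (show r = 0 ∨ r = 1 by revert r; decide) with rfl | rfl <;> simp [h0] }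
  obtain ⟨l', hl'⟩ := l.exists_extend
  have hL : ∀ c (hc : c ∈ golayCode), L c = ∑ p, l' (Pi.single p 1) * c p := by
    intro c hc
    have e : l' c = L c := LinearMap.congr_fun hl' ⟨c, hc⟩
    rw [← e]
    conv_lhs => rw [pi_eq_sum_univ c]
    rw [map_sum]
    refine Finset.sum_congr rfl fun p _ => ?_
    rw [map_smul, smul_eq_mul, mul_comm]
    congr 2
    ext q
    simp [Pi.single_apply, eq_comm]
  obtain ⟨t, ht, hmem⟩ := exists_small_rep fun p => l' (Pi.single p 1)
  have hpar : ∀ c ∈ golayCode, L c = par t c := by
    intro c hc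
    have h := self_orthogonal hmem hc
    simp only [Pi.sub_apply, sub_mul, Finset.sum_sub_distrib, sub_eq_zero] at h
    rw [hL c hc, h, par_eq_dot]
  refine ⟨t, ?_, hpar⟩
  have hcnt : oddCount t = 352 := by
    rw [← hn, oddCount]
    congr 1
    refine Finset.filter_congr fun o ho => ?_
    rw [hpar _ (ind_octad (mem_octFin.1 ho))]
  have he : (t.card : ZMod 2) = 0 := by rw [← par_const, ← hpar _ one_mem_code, h1]
  rw [ZMod.natCast_eq_zero_iff_even] at he
  obtain ⟨k, hk⟩ := he
  rcases (show t.card = 0 ∨ t.card = 2 ∨ t.card = 4 by omega) with e | e | e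
  · rw [Finset.card_eq_zero] at e
    rw [e, oddCount] at hcnt
    simp [par] at hcnt
  · exact e
  · rw [oddCount_four e] at hcnt; omega

/-- A word moved by a permutation. -/
def moved (τ : Equiv.Perm GolayPt) (c : W24) : W24 := fun p => c (τ.symm p)

theorem moved_mem {τ : Equiv.Perm GolayPt} (hτ : τ ∈ M24) {c : W24} (hc : c ∈ golayCode) :
    moved τ c ∈ golayCode := inv24_golayCode τ hτ c hc

theorem moved_ind (τ : Equiv.Perm GolayPt) (s : Finset GolayPt) : moved τ (ind s) = ind (τ • s) :=
  ind_comp τ s

theorem moved_mul (σ τ : Equiv.Perm GolayPt) (c : W24) : moved (σ * τ) c = moved σ (moved τ c) := rfl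

theorem mem_M24_of_moved {τ : Equiv.Perm GolayPt} (h : ∀ c ∈ golayCode, moved τ c ∈ golayCode) :
    τ ∈ M24 := by
  refine mem_M24_iff.2 ?_
  rintro _ ⟨c, hc, rfl⟩
  refine ⟨moved τ c, h c hc, ?_⟩
  conv_lhs => rw [← ind_support c, moved_ind, support_ind]

/-- A surjection of the code whose kernel is the constants. -/
structure Model {H : Type*} [Group H] (κ : W24 → H) : Prop where
  mul : ∀ x ∈ golayCode, ∀ y ∈ golayCode, κ (x + y) = κ x * κ y
  surj : ∀ h : H, ∃ x ∈ golayCode, κ x = h
  ker : ∀ x ∈ golayCode, κ x = 1 ↔ x = 0 ∨ x = fun _ => 1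

/-- The automorphisms mapping octad elements to octad elements. -/
def Preserves {H : Type*} [Group H] (κ : W24 → H) (f : H ≃* H) : Prop :=
  ∀ o ∈ octads, ∃ o' ∈ octads, f (κ (ind o)) = κ (ind o')

namespace Model

variable {H : Type*} [Group H] {κ : W24 → H} (M : Model κ)
include M

theorem eq_iff {x y : W24} (hx : x ∈ golayCode) (hy : y ∈ golayCode) :
    κ x = κ y ↔ x = y ∨ x = y + fun _ => 1 := by
  have hself : κ y * κ y = 1 := by
    rw [← M.mul y hy y hy, (M.ker _ (add_mem hy hy)).2 (Or.inl (funext fun p => CharTwo.add_self_eq_zero (y p)))]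
  have e : κ x = κ y ↔ κ (x + y) = 1 := by
    rw [M.mul x hx y hy]
    exact ⟨fun h => h ▸ hself, fun h => mul_right_cancel (h.trans hself.symm)⟩
  rw [e, M.ker _ (add_mem hx hy)]
  constructor
  · rintro (h | h)
    · exact Or.inl (funext fun p => CharTwo.add_eq_zero.1 (congrFun h p))
    · refine Or.inr (funext fun p => ?_)
      rw [Pi.add_apply, ← congrFun h p, Pi.add_apply, ← add_assoc, add_comm (y p), add_assoc,
        CharTwo.add_self_eq_zero, add_zero]
  · rintro (rfl | rfl)
    · exact Or.inl (funext fun p => CharTwo.add_self_eq_zero (x p))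
    · refine Or.inr (funext fun p => ?_)
      rw [Pi.add_apply, Pi.add_apply, add_comm (y p), add_assoc, CharTwo.add_self_eq_zero, add_zero]

theorem octad_inj {o o' : Finset GolayPt} (ho : o ∈ octads) (ho' : o' ∈ octads)
    (e : κ (ind o) = κ (ind o')) : o = o' := by
  rcases (M.eq_iff (ind_octad ho) (ind_octad ho')).1 e with h | h
  · rw [← support_ind o, h, support_ind]
  · exfalso
    have h8 := card_octad ho
    have hc : o = Finset.univ \ o' := by
      ext p
      have hp' := congrFun h p
      simp only [ind, Pi.add_apply] at hp'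
      by_cases hp : p ∈ o <;> by_cases hq : p ∈ o' <;> simp [hp, hq] at hp' ⊢
    rw [hc, Finset.card_sdiff_of_subset (Finset.subset_univ _), card_octad ho', Finset.card_univ,
      show Fintype.card GolayPt = 24 from rfl] at h8
    omega

/-- Equal actions come from equal permutations. -/
theorem moved_inj {σ τ : Equiv.Perm GolayPt} (hσ : σ ∈ M24) (hτ : τ ∈ M24)
    (h : ∀ c ∈ golayCode, κ (moved σ c) = κ (moved τ c)) : σ = τ := by
  classical
  refine inv_mul_eq_one.1 ?_
  set π := σ⁻¹ * τ with hπ
  have hc : ∀ c ∈ golayCode, (∀ p, c p = c (π p)) ∨ ∀ p, c p = c (π p) + 1 := by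
    intro c hc
    rcases (M.eq_iff (moved_mem hσ hc) (moved_mem hτ hc)).1 (h c hc) with e | e
    · refine Or.inl fun p => ?_
      have := congrFun e (τ p)
      simpa [moved, hπ, eq_comm] using this
    · refine Or.inr fun p => ?_
      have := congrFun e (τ p)
      simp [moved] at this
      simp only [hπ, Equiv.Perm.mul_apply, Equiv.Perm.inv_def, this]
      rw [add_assoc, CharTwo.add_self_eq_zero, add_zero]
  ext x : 1
  by_contra hx
  change π x ≠ x at hx
  obtain ⟨y, hy⟩ : ∃ y, y ∉ ({x, π x, π⁻¹ x} : Finset GolayPt) := by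
    by_contra! hall
    have := Finset.card_le_card (fun y _ => hall y : (Finset.univ : Finset GolayPt) ⊆ {x, π x, π⁻¹ x})
    rw [Finset.card_univ, show Fintype.card GolayPt = 24 from rfl] at this
    have h3 := Finset.card_le_three (a := x) (b := π x) (c := π⁻¹ x)
    omega
  simp only [Finset.mem_insert, Finset.mem_singleton, not_or] at hy
  have hyx : π y ≠ x := fun e => hy.2.2 (by rw [← e, Equiv.Perm.inv_def, Equiv.symm_apply_apply])
  have hyπ : π y ≠ π x := fun e => hy.1 (π.injective e)
  obtain ⟨c, hcm, hcs⟩ := exists_code_eq_on_small {x, π x, y, π y}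
    (le_trans Finset.card_le_four (by norm_num)) (fun p => if p = x then 1 else 0)
  have e1 : c x = 1 := by rw [hcs x (by simp)]; simp
  have e2 : c (π x) = 0 := by rw [hcs _ (by simp)]; simp [hx]
  have e3 : c y = 0 := by rw [hcs y (by simp)]; simp [hy.1]
  have e4 : c (π y) = 0 := by rw [hcs _ (by simp)]; simp [hyx]
  rcases hc c hcm with e | e
  · have := e x; rw [e1, e2] at this; exact one_ne_zero this
  · have := e y; rw [e3, e4] at this; exact absurd this (by decide)

/-- An automorphism preserving the octad elements comes from the group of the code. -/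
theorem exists_perm {f : H ≃* H} (hf : Preserves κ f) :
    ∃ τ ∈ M24, ∀ c ∈ golayCode, f (κ c) = κ (moved τ c) := by
  classical
  choose g hg hgκ using fun c => M.surj (f (κ c))
  choose F hF hFκ using hf
  -- parities of images are parities of duads
  have key : ∀ p q : GolayPt, p ≠ q → ∃ t : Finset GolayPt, t.card = 2 ∧
      ∀ c ∈ golayCode, g c p + g c q = par t c := by
    intro p q hpq
    have h11 : ∀ a b : W24, a ∈ golayCode → b ∈ golayCode → κ a = κ b → par {p, q} a = par {p, q} b := by
      intro a b ha hb e
      rcases (M.eq_iff ha hb).1 e with rfl | rfl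
      · rfl
      · rw [par_add, par_const, Finset.card_pair hpq]
        exact add_zero _
    have hone : κ (fun _ => 1) = 1 := (M.ker _ one_mem_code).2 (Or.inr rfl)
    obtain ⟨t, ht, hL⟩ := exists_duad (fun c => par {p, q} (g c)) (fun x hx y hy => by
      show par _ (g (x + y)) = par _ (g x) + par _ (g y)
      rw [← par_add]
      refine h11 _ _ (hg _) (add_mem (hg x) (hg y)) ?_
      rw [M.mul _ (hg x) _ (hg y), hgκ, hgκ, hgκ, M.mul x hx y hy, map_mul]) (by
      show par _ (g fun _ => 1) = 0
      rw [h11 _ 0 (hg _) (zero_mem _) (by rw [hgκ, hone, map_one, (M.ker 0 (zero_mem _)).2 (Or.inl rfl)])]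
      simp [par]) (by
      rw [← oddCount_duad (Finset.card_pair hpq), oddCount]
      have hinj : ∀ o (ho : o ∈ octFin) o' (ho' : o' ∈ octFin),
          F o (mem_octFin.1 ho) = F o' (mem_octFin.1 ho') → o = o' := fun o ho o' ho' e => by
        refine M.octad_inj (mem_octFin.1 ho) (mem_octFin.1 ho') (f.injective ?_)
        rw [hFκ o (mem_octFin.1 ho), hFκ o' (mem_octFin.1 ho')]
        simp only [e]
      have hval : ∀ o (ho : o ∈ octFin),
          par {p, q} (g (ind o)) = par {p, q} (ind (F o (mem_octFin.1 ho))) := fun o ho =>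
        h11 _ _ (hg _) (ind_octad (hF _ _)) (by rw [hgκ, hFκ])
      refine Finset.card_bij (fun o ho => F o (mem_octFin.1 (Finset.mem_filter.1 ho).1)) ?_ ?_ ?_
      · intro o ho
        rw [Finset.mem_filter] at ho ⊢
        exact ⟨mem_octFin.2 (hF _ _), by rw [← hval o ho.1]; exact ho.2⟩
      · intro o ho o' ho' e
        exact hinj o (Finset.mem_filter.1 ho).1 o' (Finset.mem_filter.1 ho').1 e
      · intro b hb
        rw [Finset.mem_filter] at hb
        obtain ⟨o, ho, rfl⟩ := Finset.surj_on_of_inj_on_of_card_le
          (fun o ho => F o (mem_octFin.1 ho)) (fun o ho => mem_octFin.2 (hF _ _))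
          (fun o o' ho ho' e => hinj o ho o' ho' e) le_rfl b hb.1
        exact ⟨o, Finset.mem_filter.2 ⟨ho, by rw [hval o ho]; exact hb.2⟩, rfl⟩)
    exact ⟨t, ht, fun c hc => (par_pair hpq _).symm.trans (hL c hc)⟩
  choose! D hD hDg using key
  have hmeet : ∀ x y : GolayPt, x ≠ none → y ≠ none → x ≠ y →
      ∃ a b c, a ≠ b ∧ a ≠ c ∧ b ≠ c ∧ D none x = {a, b} ∧ D none y = {a, c} := by
    intro x y hx hy hxy
    have e : D x y = (D none x \ D none y) ∪ (D none y \ D none x) := by
      refine eq_of_par ?_ fun c hc => ?_
      · have := Finset.card_union_le (D none x \ D none y) (D none y \ D none x)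
        have := Finset.card_le_card (Finset.sdiff_subset (s := D none x) (t := D none y))
        have := Finset.card_le_card (Finset.sdiff_subset (s := D none y) (t := D none x))
        have := hD x y hxy; have := hD none x (Ne.symm hx); have := hD none y (Ne.symm hy)
        omega
      · have h1 := hDg none x (Ne.symm hx) c hc
        have h2 := hDg none y (Ne.symm hy) c hc
        rw [← hDg x y hxy c hc, par_eq_dot, ← ind_add]
        simp only [Pi.add_apply, add_mul, Finset.sum_add_distrib, ← par_eq_dot]
        rw [← h1, ← h2]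
        generalize g c none = u; generalize g c x = v; generalize g c y = v'
        revert u v v'; decide
    have h2 := hD x y hxy
    rw [e, Finset.card_union_of_disjoint disjoint_sdiff_sdiff] at h2
    have h3 := Finset.card_sdiff_add_card_inter (D none x) (D none y)
    have h4 := Finset.card_sdiff_add_card_inter (D none y) (D none x)
    rw [hD none x (Ne.symm hx)] at h3
    rw [hD none y (Ne.symm hy), Finset.inter_comm] at h4
    obtain ⟨a, ha⟩ := Finset.card_eq_one.1 (show (D none x ∩ D none y).card = 1 by omega)
    obtain ⟨b, hb⟩ := Finset.card_eq_one.1 (show (D none x \ D none y).card = 1 by omega)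
    obtain ⟨c, hc⟩ := Finset.card_eq_one.1 (show (D none y \ D none x).card = 1 by omega)
    have ma := Finset.mem_inter.1 (ha ▸ Finset.mem_singleton_self a)
    have mb := Finset.mem_sdiff.1 (hb ▸ Finset.mem_singleton_self b)
    have mc := Finset.mem_sdiff.1 (hc ▸ Finset.mem_singleton_self c)
    refine ⟨a, b, c, fun e => mb.2 (e ▸ ma.2), fun e => mc.2 (e ▸ ma.1), fun e => mb.2 (e ▸ mc.1), ?_, ?_⟩
    · exact (Finset.eq_of_subset_of_card_le (by simp [Finset.insert_subset_iff, ma.1, mb.1])
        (by rw [hD none x (Ne.symm hx), Finset.card_pair (fun e : a = b => mb.2 (e ▸ ma.2))])).symm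
    · exact (Finset.eq_of_subset_of_card_le (by simp [Finset.insert_subset_iff, ma.2, mc.1])
        (by rw [hD none y (Ne.symm hy), Finset.card_pair (fun e : a = c => mc.2 (e ▸ ma.1))])).symm
  have hDinj : ∀ x y : GolayPt, x ≠ none → y ≠ none → D none x = D none y → x = y := by
    intro x y hx hy e
    by_contra hxy
    obtain ⟨a, b, c, hab, hac, hbc, e1, e2⟩ := hmeet x y hx hy hxy
    rw [e, e2] at e1
    have : b ∈ ({a, c} : Finset GolayPt) := by rw [e1]; simp
    simp only [Finset.mem_insert, Finset.mem_singleton] at this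
    rcases this with h | h
    · exact hab h.symm
    · exact hbc h
  obtain ⟨a, ha⟩ : ∃ a, ∀ x, x ≠ none → a ∈ D none x := by
    obtain ⟨a, b, c, hab, hac, hbc, e0, e1⟩ := hmeet (some 0) (some 1) (by simp) (by simp) (by decide)
    refine ⟨a, fun x hx => ?_⟩
    by_contra hax
    have hsub : ∀ y, y ≠ none → a ∉ D none y → D none y = {b, c} := by
      intro y hy hay
      have hy0 : y ≠ some 0 := fun e => hay (by rw [e, e0]; simp)
      have hy1 : y ≠ some 1 := fun e => hay (by rw [e, e1]; simp)
      obtain ⟨a', b', c', -, -, -, f0, f0'⟩ := hmeet y (some 0) hy (by simp) hy0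
      obtain ⟨a'', b'', c'', -, -, -, f1, f1'⟩ := hmeet y (some 1) hy (by simp) hy1
      have k0 : a' ∈ ({a, b} : Finset GolayPt) := by rw [← e0, f0']; simp
      have k1 : a'' ∈ ({a, c} : Finset GolayPt) := by rw [← e1, f1']; simp
      simp only [Finset.mem_insert, Finset.mem_singleton] at k0 k1
      have m0 : a' ∈ D none y := by rw [f0]; simp
      have m1 : a'' ∈ D none y := by rw [f1]; simp
      obtain rfl := k0.resolve_left fun e => hay (e ▸ m0)
      obtain rfl := k1.resolve_left fun e => hay (e ▸ m1)
      exact (Finset.eq_of_subset_of_card_le (by simp [Finset.insert_subset_iff, m0, m1])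
        (by rw [hD none y (Ne.symm hy), Finset.card_pair hbc])).symm
    have hxs := hsub x hx hax
    obtain ⟨y, hy⟩ : ∃ y, y ∉ ({none, some 0, some 1, x} : Finset GolayPt) := by
      by_contra! hall
      have := Finset.card_le_card (fun y _ => hall y : (Finset.univ : Finset GolayPt) ⊆ {none, some 0, some 1, x})
      rw [Finset.card_univ, show Fintype.card GolayPt = 24 from rfl] at this
      have h4 := Finset.card_le_four (a := (none : GolayPt)) (b := some 0) (c := some 1) (d := x)
      omega
    simp only [Finset.mem_insert, Finset.mem_singleton, not_or] at hy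
    have hay : a ∈ D none y := by
      by_contra hay
      exact hy.2.2.2 (hDinj y x hy.1 hx ((hsub y hy.1 hay).trans hxs.symm))
    obtain ⟨a', b', c', -, -, -, f, f'⟩ := hmeet y x hy.1 hx hy.2.2.2
    have k : a' ∈ ({b, c} : Finset GolayPt) := by rw [← hxs, f']; simp
    have m : a' ∈ D none y := by rw [f]; simp
    simp only [Finset.mem_insert, Finset.mem_singleton] at k
    have hy' : D none y = {a, a'} := (Finset.eq_of_subset_of_card_le
      (by simp [Finset.insert_subset_iff, hay, m])
      (by rw [hD none y (Ne.symm hy.1), Finset.card_pair (by rcases k with rfl | rfl <;> assumption)])).symm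
    rcases k with rfl | rfl
    · exact hy.2.1 (hDinj y (some 0) hy.1 (by simp) (hy'.trans e0.symm))
    · exact hy.2.2.1 (hDinj y (some 1) hy.1 (by simp) (hy'.trans e1.symm))
  have hs : ∀ x : GolayPt, x ≠ none → ∃ b, b ≠ a ∧ D none x = {a, b} := by
    intro x hx
    obtain ⟨b, hb⟩ := Finset.card_eq_one.1 (show (D none x \ {a}).card = 1 by
      rw [Finset.card_sdiff_of_subset (by simp [ha x hx]), hD none x (Ne.symm hx), Finset.card_singleton])
    have mb := Finset.mem_sdiff.1 (hb ▸ Finset.mem_singleton_self b)
    have hba : b ≠ a := by simpa using mb.2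
    exact ⟨b, hba, (Finset.eq_of_subset_of_card_le (by simp [Finset.insert_subset_iff, ha x hx, mb.1])
      (by rw [hD none x (Ne.symm hx), Finset.card_pair hba.symm])).symm⟩
  choose! s hsa hsD using hs
  let σf : GolayPt → GolayPt := fun x => if x = none then a else s x
  have hσ : Function.Injective σf := by
    intro x y e
    simp only [σf] at e
    split_ifs at e with hx hy hy
    · exact hx.trans hy.symm
    · exact absurd e.symm (hsa y hy)
    · exact absurd e (hsa x hx)
    · exact hDinj x y hx hy (by rw [hsD x hx, hsD y hy, e])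
  set σ : Equiv.Perm GolayPt := Equiv.ofBijective σf (Finite.injective_iff_bijective.1 hσ) with hσdef
  have hval : ∀ c ∈ golayCode, ∀ x, g c x = c (σ x) + (g c none + c a) := by
    intro c hc x
    show g c x = c (σf x) + _
    simp only [σf]
    split_ifs with hx
    · subst hx
      generalize g c none = u; generalize c a = v
      revert u v; decide
    · have := hDg none x (Ne.symm hx) c hc
      rw [hsD x hx, par_pair (hsa x hx).symm] at this
      revert this
      generalize g c none = u; generalize g c x = v; generalize c a = u'; generalize c (s x) = v'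
      revert u v u' v'; decide
  have hm : ∀ c ∈ golayCode, moved σ.symm c ∈ golayCode ∧ κ (moved σ.symm c) = f (κ c) := by
    intro c hc
    have e : moved σ.symm c = g c ∨ moved σ.symm c = g c + fun _ => 1 := by
      rcases (show g c none + c a = 0 ∨ g c none + c a = 1 by
        generalize g c none + c a = r; revert r; decide) with h | h
      · left; funext p
        rw [hval c hc p, h, add_zero]; rfl
      · right; funext p
        rw [Pi.add_apply, hval c hc p, h, add_assoc, CharTwo.add_self_eq_zero, add_zero]; rfl
    have hmem : moved σ.symm c ∈ golayCode := by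
      rcases e with e | e <;> rw [e]
      exacts [hg c, add_mem (hg c) one_mem_code]
    exact ⟨hmem, ((M.eq_iff hmem (hg c)).2 e).trans (hgκ c)⟩
  exact ⟨σ.symm, mem_M24_of_moved fun c hc => (hm c hc).1, fun c hc => (hm c hc).2.symm⟩

/-- A group of automorphisms preserving the octad elements maps to the group of the code. -/
theorem exists_hom {K : Type*} [Group K] (φ : K →* MulAut H) (hφ : ∀ k, Preserves κ (φ k)) :
    ∃ Φ : K →* ↥M24, Φ.ker = φ.ker ∧
      ∀ k, ∀ c ∈ golayCode, φ k (κ c) = κ (moved (Φ k : Equiv.Perm GolayPt) c) := by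
  choose τ hτ hτφ using fun k => M.exists_perm (hφ k)
  let Φ : K →* ↥M24 := MonoidHom.mk' (fun k => ⟨τ k, hτ k⟩) fun j k => Subtype.ext
    (M.moved_inj (hτ _) (mul_mem (hτ j) (hτ k)) fun c hc => by
      rw [← hτφ _ c hc, map_mul, MulAut.mul_apply, hτφ k c hc, hτφ j _ (moved_mem (hτ k) hc), ← moved_mul]
      rfl)
  refine ⟨Φ, ?_, fun k c hc => hτφ k c hc⟩
  ext k
  rw [MonoidHom.mem_ker, MonoidHom.mem_ker]
  constructor
  · intro hk
    refine MulEquiv.ext fun h => ?_
    obtain ⟨c, hc, rfl⟩ := M.surj h
    rw [hτφ k c hc, show τ k = 1 from congrArg Subtype.val hk]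
    rfl
  · intro hk
    refine Subtype.ext (M.moved_inj (hτ k) (one_mem _) fun c hc => ?_)
    show κ (moved (τ k) c) = _
    rw [← hτφ k c hc, hk]
    rfl

/-- A nontrivial element is the image of an octad or of a dodecad, not both. -/
theorem cases {h : H} (hh : h ≠ 1) :
    (∃ o ∈ octads, h = κ (ind o)) ∨ ∃ d ∈ dodecads, h = κ (ind d) := by
  obtain ⟨c, hc, rfl⟩ := M.surj h
  rcases code_cases hc with e | e | e | e | e
  · exact absurd ((M.ker c hc).2 (Or.inl e)) hh
  · exact absurd ((M.ker c hc).2 (Or.inr e)) hh
  · exact Or.inl ⟨_, e, by rw [ind_support]⟩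
  · exact Or.inr ⟨_, e, by rw [ind_support]⟩
  · refine Or.inl ⟨_, e, (M.eq_iff hc (ind_octad e)).2 (Or.inr ?_)⟩
    funext p
    have := congrFun (ind_support c) p
    simp only [ind] at this
    by_cases hp : p ∈ support₂ c <;> simp [ind, hp] at this ⊢ <;> simp [← this, CharTwo.add_self_eq_zero]

end Model

end Cfsg.Agent.Golay.OctadSpace
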