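import Cfsg.Agent.Lib.Golay.Orbit
import Cfsg.Agent.Lib.Golay.OrbitData

/-!
Orbits of octad, dodecad, point and set stabilisers in the group of the Golay code.
-/

namespace Cfsg.Agent.Golay

open Cfsg Cfsg.Agent.PermCert Cfsg.Agent.Golay.Cert
open scoped Pointwise

/-- Each key has one orbit tree containing all candidates with this key. -/
def classesOK (inv : List ℕ) (gens : List Elt) (cases : List (ℕ × ℕ × List (ℕ × ℕ × ℕ)))
    (cands : List ℕ) (key : ℕ → ℕ) : Bool :=
  gensOK inv gens &&
    cases.all (fun c => orbitGo imgMask gens [c.2.1] c.2.2 &&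
      cands.all fun m => !(Nat.beq (key m) c.1) || memB m (orbitMem c.2.1 c.2.2)) &&
    cands.all fun m => cases.any fun c => Nat.beq (key m) c.1

theorem classes_transitive {inv : List ℕ} {gens : List Elt}
    {cases : List (ℕ × ℕ × List (ℕ × ℕ × ℕ))} {cands : List ℕ} {key : ℕ → ℕ}
    (h : classesOK inv gens cases cands key = true) {m m' : ℕ}
    (hm : m ∈ cands) (hm' : m' ∈ cands) (hk : key m = key m') :
    ∃ g ∈ stabIn inv, g • maskSet m = maskSet m' := by
  simp only [classesOK, Bool.and_eq_true, List.all_eq_true, List.any_eq_true, Nat.beq_eq] at h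
  obtain ⟨⟨hg, hc⟩, hcov⟩ := h
  obtain ⟨c, hcm, hck⟩ := hcov m hm
  refine class_transitive (start := c.2.1) (tree := c.2.2) (cands := cands)
    (q := fun x => Nat.beq (key x) c.1) (gens := gens) ?_ hm (Nat.beq_eq.mpr hck) hm'
    (Nat.beq_eq.mpr (hk ▸ hck))
  simp only [classOK, Bool.and_eq_true, List.all_eq_true]
  exact ⟨⟨hg, (hc c hcm).1⟩, (hc c hcm).2⟩

/-- The reference points: two in the reference octad, one outside. -/
abbrev ptA : GolayPt := pt 0

/-- Second reference point. -/
abbrev ptB : GolayPt := pt 1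

/-- Reference point outside the octad. -/
abbrev ptC : GolayPt := pt 5

/-- The reference octad as a set. -/
abbrev refOct : Finset GolayPt := maskSet refOctad

theorem refOct_mem : refOct ∈ octads :=
  mem_octads.2 ⟨_, memB_spec (show memB refOctad octadList = true by decide +kernel), rfl⟩

theorem ptA_mem : ptA ∈ refOct := mem_maskSet.2 (by decide)
theorem ptB_mem : ptB ∈ refOct := mem_maskSet.2 (by decide)
theorem ptC_not_mem : ptC ∉ refOct := fun h => absurd (mem_maskSet.1 h) (by decide)

theorem oct_classes : classesOK [refOctad] octGens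
    [(0, octRoot0, octTree0), (2, octRoot2, octTree2), (4, octRoot4, octTree4), (8, octRoot8, octTree8)]
    octadList (fun m => popCount (refOctad &&& m) 24) = true := by
  decide +kernel

theorem octIn_classes : classesOK [refOctad, 1 <<< 0] octInGens
    [(2, octInRoot2, octInTree2), (4, octInRoot4, octInTree4), (8, octInRoot8, octInTree8)]
    (octadList.filter fun m => m.testBit 0) (fun m => popCount (refOctad &&& m) 24) = true := by
  decide +kernel

theorem octOut_classes : classesOK [refOctad, 1 <<< 5] octOutGens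
    [(0, octOutRoot0, octOutTree0), (2, octOutRoot2, octOutTree2), (4, octOutRoot4, octOutTree4),
      (8, octOutRoot8, octOutTree8)]
    (octadList.filter fun m => !(m.testBit 5)) (fun m => popCount (refOctad &&& m) 24) = true := by
  decide +kernel

theorem octTwo_classes : classesOK [refOctad, 1 <<< 0, 1 <<< 1] octTwoGens
    [(2, octTwoRoot2, octTwoTree2), (4, octTwoRoot4, octTwoTree4), (8, octTwoRoot8, octTwoTree8)]
    (octadList.filter fun m => m.testBit 0 && m.testBit 1) (fun m => popCount (refOctad &&& m) 24)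
      = true := by
  decide +kernel

theorem octOutIn_classes : classesOK [refOctad, 1 <<< 0, 1 <<< 5] octOutInGens
    [(2, octOutInRoot2, octOutInTree2), (4, octOutInRoot4, octOutInTree4),
      (8, octOutInRoot8, octOutInTree8)]
    (octadList.filter fun m => m.testBit 0 && !(m.testBit 5)) (fun m => popCount (refOctad &&& m) 24)
      = true := by
  decide +kernel

theorem dod_classes : classesOK [sqMask] dodGens
    [(0, dodRoot0, dodTree0), (4, dodRoot4, dodTree4), (6, dodRoot6, dodTree6),
      (8, dodRoot8, dodTree8), (12, dodRoot12, dodTree12)]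
    dodecadList (fun m => popCount (sqMask &&& m) 24) = true := by
  decide +kernel

theorem dodIn_classes : classesOK [sqMask, 1 <<< 0] dodInGens
    [(4, dodInRoot4, dodInTree4), (6, dodInRoot6, dodInTree6), (8, dodInRoot8, dodInTree8),
      (12, dodInRoot12, dodInTree12)]
    (dodecadList.filter fun m => m.testBit 0) (fun m => popCount (sqMask &&& m) 24) = true := by
  decide +kernel

/-- The masks of the points of the reference octad. -/
def refPts : List ℕ := [1 <<< 0, 1 <<< 1, 1 <<< 2, 1 <<< 3, 1 <<< 4, 1 <<< 7, 1 <<< 10, 1 <<< 12]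

theorem octFix_classes : classesOK refPts octFixGens [(0, octFixRoot, octFixTree)]
    ((masksOfWeight 24 1).filter fun m => Nat.beq (m &&& refOctad) 0) (fun _ => 0) = true := by
  decide +kernel

/-! ### Moving to the reference configurations -/

theorem octad_move {o : Finset GolayPt} (ho : o ∈ octads) {k : ℕ} (hk : k ≤ 5)
    {x y : Fin k → GolayPt} (hx : Function.Injective x) (hxo : ∀ i, x i ∈ o)
    (hy : Function.Injective y) (hyo : ∀ i, y i ∈ refOct) :
    ∃ g ∈ M24, g • o = refOct ∧ ∀ i, g (x i) = y i := by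
  obtain ⟨x', hx', hxo', hxe⟩ := exists_injective_extension hk (by rw [card_octad ho]; norm_num) x hx hxo
  obtain ⟨y', hy', hyo', hye⟩ :=
    exists_injective_extension hk (by rw [card_octad refOct_mem]; norm_num) y hy hyo
  obtain ⟨g, hg, h⟩ := exists_M24_map hx' hy'
  refine ⟨g, hg, octad_unique (smul_mem_octads hg ho) refOct_mem ?_,
    fun i => by rw [← hxe, ← hye, h]⟩
  refine le_trans (b := (Finset.univ.image y').card)
    (by rw [Finset.card_image_of_injective _ hy']; simp)
    (Finset.card_le_card fun p hp => ?_)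
  obtain ⟨i, -, rfl⟩ := Finset.mem_image.1 hp
  refine Finset.mem_inter.2 ⟨?_, hyo' i⟩
  rw [← h i]
  exact Finset.smul_mem_smul_finset (hxo' i)

theorem smul_singleton' (g : Equiv.Perm GolayPt) (p : GolayPt) :
    g • ({p} : Finset GolayPt) = {g p} := Finset.smul_finset_singleton p

theorem maskSet_pow (i : Fin 24) : maskSet (1 <<< (i : ℕ)) = {pt i} := maskSet_single i

theorem fix_of_mem_stabIn {inv : List ℕ} {g : Equiv.Perm GolayPt} (hg : g ∈ stabIn inv) {i : ℕ}
    (hi : i < 24) (h : 1 <<< i ∈ inv) : g (pt ⟨i, hi⟩) = pt ⟨i, hi⟩ := by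
  have := hg.2 _ h
  rwa [maskSet_pow ⟨i, hi⟩, smul_singleton_eq_iff] at this

theorem fix_refOct {g : Equiv.Perm GolayPt} (hg : g ∈ stabIn refPts) {p : GolayPt}
    (hp : p ∈ refOct) : g p = p := by
  have key : ∀ p : GolayPt, refOctad.testBit (idx p) = true → 1 <<< (idx p) ∈ refPts := by
    decide +kernel
  have := fix_of_mem_stabIn hg (idx_lt p) (key p (mem_maskSet.1 hp))
  rwa [pt_idx] at this

theorem smul_eq_self_of_fix {g : Equiv.Perm GolayPt} {s : Finset GolayPt}
    (h : ∀ p ∈ s, g p = p) : g • s = s := by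
  refine (Finset.eq_of_subset_of_card_le (fun p hp => ?_) (Finset.card_smul_finset g s).le).symm
  rw [← h p hp]
  exact Finset.smul_mem_smul_finset hp

theorem exists_fix_octad_map {a b : GolayPt} (ha : a ∉ refOct) (hb : b ∉ refOct) :
    ∃ g ∈ M24, (∀ p ∈ refOct, g p = p) ∧ g a = b := by
  have hm : ∀ a : GolayPt, a ∉ refOct →
      1 <<< idx a ∈ (masksOfWeight 24 1).filter fun m => Nat.beq (m &&& refOctad) 0 := by
    intro a ha
    have key : ∀ a : GolayPt, refOctad.testBit (idx a) = false →
        memB (1 <<< idx a) ((masksOfWeight 24 1).filter fun m => Nat.beq (m &&& refOctad) 0) = true := by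
      decide +kernel
    exact memB_spec (key a (by simpa using fun h => ha (mem_maskSet.2 h)))
  obtain ⟨g, hg, h⟩ := classes_transitive octFix_classes (hm a ha) (hm b hb) rfl
  refine ⟨g, hg.1, fun p hp => fix_refOct hg hp, ?_⟩
  have e1 : maskSet (1 <<< idx a) = {a} := by rw [maskSet_pow ⟨idx a, idx_lt a⟩, pt_idx]
  have e2 : maskSet (1 <<< idx b) = {b} := by rw [maskSet_pow ⟨idx b, idx_lt b⟩, pt_idx]
  rwa [e1, e2, smul_singleton', Finset.singleton_inj] at h

theorem octad_out_move {o : Finset GolayPt} (ho : o ∈ octads) {k : ℕ} (hk : k ≤ 5)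
    {x y : Fin k → GolayPt} (hx : Function.Injective x) (hxo : ∀ i, x i ∈ o)
    (hy : Function.Injective y) (hyo : ∀ i, y i ∈ refOct) {q : GolayPt} (hq : q ∉ o) :
    ∃ g ∈ M24, g • o = refOct ∧ (∀ i, g (x i) = y i) ∧ g q = ptC := by
  obtain ⟨g, hg, hgo, hgx⟩ := octad_move ho hk hx hxo hy hyo
  have hq' : g q ∉ refOct := by
    rw [← hgo]; exact fun h => hq ((apply_mem_smul_iff g q o).1 h)
  obtain ⟨h, hh, hfix, hhq⟩ := exists_fix_octad_map hq' ptC_not_mem
  exact ⟨h * g, mul_mem hh hg, by rw [mul_smul, hgo, smul_eq_self_of_fix hfix],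
    fun i => by rw [Equiv.Perm.mul_apply, hgx, hfix _ (hyo i)], hhq⟩

theorem octad_move0 {o : Finset GolayPt} (ho : o ∈ octads) : ∃ g ∈ M24, g • o = refOct := by
  exact exists_M24_octad ho refOct_mem

theorem dodecad_move {d : Finset GolayPt} (hd : d ∈ dodecads) :
    ∃ g ∈ M24, g • d = maskSet sqMask := by
  obtain ⟨g, hg, h⟩ := exists_M24_dodecad hd
  exact ⟨g⁻¹, inv_mem hg, by rw [inv_smul_eq_iff, ← squareDodecad_eq, h]⟩

theorem exists_smul_eq {s t : Finset GolayPt} (h5 : s.card ≤ 5) (h : s.card = t.card) :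
    ∃ g ∈ M24, g • s = t := by
  let x : Fin s.card → GolayPt := fun i => (s.equivFin.symm i : GolayPt)
  let y : Fin s.card → GolayPt := fun i => (t.equivFin.symm (i.cast h) : GolayPt)
  have hx : Function.Injective x := fun a b e => by simpa [x] using e
  have hy : Function.Injective y := fun a b e => by simpa [y] using e
  obtain ⟨g, hg, hgx⟩ := exists_M24_map' h5 hx hy
  refine ⟨g, hg, Finset.eq_of_subset_of_card_le (fun p hp => ?_) (by rw [Finset.card_smul_finset, h])⟩
  obtain ⟨a, ha, rfl⟩ := Finset.mem_smul_finset.1 hp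
  obtain ⟨i, rfl⟩ : ∃ i, x i = a := ⟨s.equivFin ⟨a, ha⟩, by simp [x]⟩
  rw [Equiv.Perm.smul_def, hgx]
  exact Finset.coe_mem _

end Cfsg.Agent.Golay
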