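import Mathlib.GroupTheory.SpecificGroups.Alternating
import Cfsg.Agent.Lib.Golay.OrbitChecks
import Cfsg.Agent.Lib.Golay.LocalCertData

/-!
The stabiliser of an octad: pointwise part of order 16, induced alternating group of degree 8.
-/

namespace Cfsg.Agent.Golay

open Cfsg Cfsg.Agent.PermCert Cfsg.Agent.Golay.Cert
open scoped Pointwise

theorem octFixed_ok :
    stabCertOK octFixedInv octFixedGens octFixedDerived octFixedLevels octFixedLevelSets octFixedRigid
      = true := by
  decide +kernel

theorem octFixedInv_eq : octFixedInv = refPts := by decide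

/-- The elements of the group fixing every point of the set. -/
abbrev fixOct (o : Finset GolayPt) : Subgroup (Equiv.Perm GolayPt) :=
  M24 ⊓ fixingSubgroup (Equiv.Perm GolayPt) (o : Set GolayPt)

theorem mem_fixOct {o : Finset GolayPt} {g : Equiv.Perm GolayPt} :
    g ∈ fixOct o ↔ g ∈ M24 ∧ ∀ p ∈ o, g p = p := by
  simp [fixOct, Subgroup.mem_inf, mem_fixingSubgroup_iff]

theorem fixOct_ref : fixOct refOct = stabIn refPts := by
  ext g
  rw [mem_fixOct]
  constructor
  · rintro ⟨hg, hfix⟩
    refine ⟨hg, fun m hm => smul_eq_self_of_fix fun p hp => hfix p ?_⟩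
    have key : ∀ m ∈ refPts, ∀ p : GolayPt, m.testBit (idx p) = true →
        refOctad.testBit (idx p) = true := by decide +kernel
    exact mem_maskSet.2 (key m hm p (mem_maskSet.1 hp))
  · exact fun hg => ⟨hg.1, fun p hp => fix_refOct hg hp⟩

theorem gens_commute : octFixedGens.all (fun a => octFixedGens.all fun b =>
    (List.range 24).all fun i =>
      Nat.beq (get 5 a.1 (get 5 b.1 i)) (get 5 b.1 (get 5 a.1 i)) &&
        Nat.beq (get 5 a.1 (get 5 a.1 i)) i) = true := by
  decide +kernel

theorem sq_fixOct_ref {g : Equiv.Perm GolayPt} (hg : g ∈ fixOct refOct) : g * g = 1 := by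
  rw [fixOct_ref, ← octFixedInv_eq, ← (stabCert_spec octFixed_ok).1, genPerm_eq] at hg
  have hv : ∀ e ∈ octFixedGens, validElt 5 24 e = true := fun e he =>
    List.all_eq_true.1 (show octFixedGens.all (fun e => validElt 5 24 e) = true by decide +kernel) e he
  set S := {σ : Equiv.Perm GolayPt | σ ∈ octFixedGens.map permOf} with hS
  have hgen : ∀ a ∈ S, ∀ b ∈ S, Commute a b ∧ a * a = 1 := by
    intro a' ha' b' hb'
    obtain ⟨a, ha, rfl⟩ := List.mem_map.1 ha'
    obtain ⟨b, hb, rfl⟩ := List.mem_map.1 hb'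
    have h := fun p : GolayPt => List.all_eq_true.1
      (List.all_eq_true.1 (List.all_eq_true.1 gens_commute a ha) b hb) (idx p)
      (List.mem_range.2 (idx_lt p))
    simp only [Bool.and_eq_true, Nat.beq_eq] at h
    constructor <;> refine Equiv.ext fun p => idx_injective ?_
    · simp only [Equiv.Perm.mul_apply, idx_permOf (hv a ha), idx_permOf (hv b hb), (h p).1]
    · simp only [Equiv.Perm.mul_apply, idx_permOf (hv a ha), (h p).2, Equiv.Perm.one_apply]
  have hcomm : ∀ x ∈ Subgroup.closure S, ∀ b ∈ S, Commute x b := by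
    intro x hx b hb
    induction hx using Subgroup.closure_induction with
    | mem a ha => exact (hgen a ha b hb).1
    | one => exact Commute.one_left b
    | mul a c _ _ h1 h2 => exact h1.mul_left h2
    | inv a _ h => exact h.inv_left
  have : g * g = 1 ∧ g ∈ Subgroup.closure S := by
    induction hg using Subgroup.closure_induction with
    | mem a ha => exact ⟨(hgen a ha a ha).2, Subgroup.subset_closure ha⟩
    | one => exact ⟨one_mul 1, one_mem _⟩
    | mul a c ha hc h1 h2 =>
      have hac : Commute a c := by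
        clear h1 h2
        induction hc using Subgroup.closure_induction with
        | mem b hb => exact hcomm a ha b hb
        | one => exact Commute.one_right a
        | mul u v _ _ k1 k2 => exact k1.mul_right k2
        | inv u _ k => exact k.inv_right
      exact ⟨by rw [mul_assoc, ← mul_assoc c, ← hac.eq, mul_assoc a c, h2.1, mul_one, h1.1],
        mul_mem ha hc⟩
    | inv a ha h => exact ⟨by rw [← mul_inv_rev, h.1, inv_one], inv_mem ha⟩
  exact this.1

theorem fixOct_map {g : Equiv.Perm GolayPt} (hg : g ∈ M24) {o o' : Finset GolayPt}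
    (h : g • o = o') : (fixOct o).map (MulAut.conj g).toMonoidHom = fixOct o' := by
  ext σ
  rw [Subgroup.mem_map_equiv, MulAut.conj_symm_apply, mem_fixOct, mem_fixOct, ← h]
  refine and_congr ⟨fun k => ?_, fun k => mul_mem (mul_mem (inv_mem hg) k) hg⟩ ?_
  · have := mul_mem (mul_mem hg k) (inv_mem hg)
    simpa [mul_assoc] using this
  · constructor
    · intro k p hp
      obtain ⟨q, hq, rfl⟩ := Finset.mem_smul_finset.1 hp
      exact g.symm.injective (by simpa [Equiv.Perm.inv_def] using k q hq)
    · intro k q hq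
      have := k (g q) ((apply_mem_smul_iff g q o).2 hq)
      simp only [Equiv.Perm.mul_apply, this]
      exact g.symm_apply_apply q

theorem card_fixOct {o : Finset GolayPt} (ho : o ∈ octads) : Nat.card (fixOct o) = 16 := by
  obtain ⟨g, hg, h⟩ := octad_move0 ho
  rw [← Subgroup.card_map_of_injective (K := fixOct o) (MulAut.conj g).injective
    (f := (MulAut.conj g).toMonoidHom), fixOct_map hg h, fixOct_ref, ← octFixedInv_eq,
    (stabCert_spec octFixed_ok).2]
  decide +kernel

theorem sq_fixOct {o : Finset GolayPt} (ho : o ∈ octads) {x : Equiv.Perm GolayPt}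
    (hx : x ∈ fixOct o) : x * x = 1 := by
  obtain ⟨g, hg, h⟩ := octad_move0 ho
  have h1 := sq_fixOct_ref (fixOct_map hg h ▸ Subgroup.mem_map_of_mem _ hx)
  rw [← map_mul] at h1
  exact (MulAut.conj g).injective (by simpa using h1)

theorem fixOct_transitive {o : Finset GolayPt} (ho : o ∈ octads) {a b : GolayPt} (ha : a ∉ o)
    (hb : b ∉ o) : ∃ n ∈ fixOct o, n a = b := by
  obtain ⟨g, hg, h⟩ := octad_move0 ho
  have h' : ∀ x, x ∉ o → g x ∉ refOct := fun x hx e => hx ((apply_mem_smul_iff g x o).1 (h ▸ e))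
  obtain ⟨n, hn, hfix, hab⟩ := exists_fix_octad_map (h' a ha) (h' b hb)
  refine ⟨g⁻¹ * n * g, mem_fixOct.2 ⟨mul_mem (mul_mem (inv_mem hg) hn) hg, fun p hp => ?_⟩, ?_⟩
  · rw [Equiv.Perm.mul_apply, Equiv.Perm.mul_apply,
      hfix _ (by rw [← h]; exact (apply_mem_smul_iff g p o).2 hp)]
    exact g.symm_apply_apply p
  · rw [Equiv.Perm.mul_apply, Equiv.Perm.mul_apply, hab]
    exact g.symm_apply_apply b

theorem fixOct_inj {o : Finset GolayPt} (ho : o ∈ octads) {a : GolayPt} (ha : a ∉ o)
    {n : Equiv.Perm GolayPt} (hn : n ∈ fixOct o) (hna : n a = a) : n = 1 := by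
  classical
  let Φ : fixOct o → {x // x ∉ o} := fun k => ⟨(k : Equiv.Perm GolayPt) a, fun h => ha (by
    have e := (mem_fixOct.1 k.2).2 _ h
    rw [(k : Equiv.Perm GolayPt).injective e] at h
    exact h)⟩
  have hsurj : Function.Surjective Φ := fun x => by
    obtain ⟨k, hk, e⟩ := fixOct_transitive ho ha x.2
    exact ⟨⟨k, hk⟩, Subtype.ext e⟩
  have hcard : Nat.card {x // x ∉ o} = 16 := by
    rw [Nat.card_eq_fintype_card, Fintype.card_subtype_compl, Fintype.card_coe, card_octad ho]
    simp [GolayPt]
  have hinj := ((Nat.bijective_iff_surjective_and_card Φ).2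
    ⟨hsurj, by rw [hcard, card_fixOct ho]⟩).1
  exact congrArg Subtype.val (hinj (a₁ := ⟨n, hn⟩) (a₂ := 1) (Subtype.ext (by simpa [Φ] using hna)))

/-- The setwise stabiliser in the group. -/
abbrev stOct (o : Finset GolayPt) : Subgroup (Equiv.Perm GolayPt) :=
  M24 ⊓ MulAction.stabilizer (Equiv.Perm GolayPt) o

theorem mem_stOct {o : Finset GolayPt} {g : Equiv.Perm GolayPt} :
    g ∈ stOct o ↔ g ∈ M24 ∧ g • o = o := Subgroup.mem_inf

theorem card_stOct {o : Finset GolayPt} (ho : o ∈ octads) : Nat.card (stOct o) = 322560 := by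
  have horb : MulAction.orbit M24 o = octads := by
    ext t
    constructor
    · rintro ⟨g, rfl⟩; exact smul_mem_octads g.2 ho
    · intro ht
      obtain ⟨g, hg, h⟩ := exists_M24_octad ho ht
      exact ⟨⟨g, hg⟩, h⟩
  have h := Subgroup.card_mul_index (MulAction.stabilizer M24 o)
  rw [MulAction.index_stabilizer, horb, ncard_octads, card_M24] at h
  have e : Nat.card (stOct o) = Nat.card (MulAction.stabilizer M24 o) :=
    Nat.card_congr
      { toFun := fun g => ⟨⟨g.1, (mem_stOct.1 g.2).1⟩, (mem_stOct.1 g.2).2⟩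
        invFun := fun g => ⟨g.1.1, mem_stOct.2 ⟨g.1.2, g.2⟩⟩
        left_inv := fun _ => rfl
        right_inv := fun _ => rfl }
  omega

theorem stOct_mem_iff {o : Finset GolayPt} (g : stOct o) (x : GolayPt) :
    (g : Equiv.Perm GolayPt) x ∈ o ↔ x ∈ o := by
  have h := apply_mem_smul_iff (g : Equiv.Perm GolayPt) x o
  rwa [(mem_stOct.1 g.2).2] at h

/-- Restriction of the stabiliser of `o` to `o`. -/
def restrictOct (o : Finset GolayPt) : stOct o →* Equiv.Perm ↥o where
  toFun g := (g : Equiv.Perm GolayPt).subtypePerm (stOct_mem_iff g)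
  map_one' := Equiv.ext fun _ => rfl
  map_mul' _ _ := Equiv.ext fun _ => rfl

theorem restrictOct_ker {o : Finset GolayPt} (g : stOct o) :
    g ∈ (restrictOct o).ker ↔ (g : Equiv.Perm GolayPt) ∈ fixOct o := by
  rw [MonoidHom.mem_ker, mem_fixOct]
  constructor
  · exact fun h => ⟨(mem_stOct.1 g.2).1, fun p hp =>
      congrArg Subtype.val (Equiv.congr_fun h ⟨p, hp⟩)⟩
  · exact fun h => Equiv.ext fun p => Subtype.ext (h.2 p p.2)

theorem card_range_restrict {o : Finset GolayPt} (ho : o ∈ octads) :
    Nat.card (restrictOct o).range = 20160 := by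
  have hk : Nat.card (restrictOct o).ker = 16 := by
    rw [← card_fixOct ho]
    exact Nat.card_congr
      { toFun := fun g => ⟨g.1.1, (restrictOct_ker g.1).1 g.2⟩
        invFun := fun g => ⟨⟨g.1, mem_stOct.2 ⟨(mem_fixOct.1 g.2).1,
          smul_eq_self_of_fix (mem_fixOct.1 g.2).2⟩⟩, (restrictOct_ker _).2 g.2⟩
        left_inv := fun _ => rfl
        right_inv := fun _ => rfl }
  have h := Subgroup.card_mul_index (restrictOct o).ker
  rw [Subgroup.index_ker, hk, card_stOct ho] at h
  omega

theorem range_restrict {o : Finset GolayPt} (ho : o ∈ octads) :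
    (restrictOct o).range = alternatingGroup ↥o := by
  refine Equiv.Perm.eq_alternatingGroup_of_index_eq_two ?_
  have h := Subgroup.card_mul_index (restrictOct o).range
  rw [card_range_restrict ho, Nat.card_eq_fintype_card (α := Equiv.Perm ↥o), Fintype.card_perm,
    Fintype.card_coe, card_octad ho] at h
  norm_num [Nat.factorial] at h
  omega

end Cfsg.Agent.Golay
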