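/-
Kernel checks on the involution data of the group of the Golay code.
-/
import Cfsg.Agent.Lib.Golay.SingleBlockBase
import Cfsg.Agent.Lib.Golay.SingleBlockData

set_option maxRecDepth 20000

namespace Cfsg.Agent.Golay.SB

open Cfsg Cfsg.Agent.PermCert Cfsg.Agent.Golay

/-- Checks on the witnesses of the octad core. -/
def okA : Bool :=
  witA.all (fun w => validElt 5 24 w && isAutB w &&
      allBelow (fun i => !(octA.testBit i) || Nat.beq (get 5 w.1 i) i) 24 &&
      Nat.beq (mul 5 24 w w).1 (idCode 5 24) && witA.all (fun v => commB w v) && commB w zA) &&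
    allBelow (fun i => octA.testBit i || witA.any fun w => Nat.beq (get 5 w.1 outA) i) 24 &&
    Nat.blt outA 24 && !(octA.testBit outA) && rigidOK [] (octA ||| 1 <<< outA) rigA &&
    rigidOK [] (16777215 ^^^ octA) rigC

theorem okA_true : okA = true := by decide +kernel

/-- Checks on the tetrads and witnesses. -/
def okB : Bool :=
  isAutB zB && allBelow (fun i => !(Nat.beq (get 5 zB.1 i) i)) 24 &&
    tets.all (fun m => Nat.beq (popCount m 24) 4 && octadList.all fun o =>
      !(Nat.beq (o &&& m) m) || Nat.beq (imgMask zB o) o) &&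
    allBelow (fun i => tets.any fun m => m.testBit i) 24 &&
    (zB :: witB).all (fun w => validElt 5 24 w && isAutB w && tets.all fun m =>
      allBelow (fun i => !(m.testBit i) || (m.testBit (get 5 w.1 i) &&
        Nat.beq (get 5 w.1 (get 5 w.1 i)) i &&
        (!(Nat.beq (get 5 w.1 i) i) || allBelow (fun j => !(m.testBit j) || Nat.beq (get 5 w.1 j) j) 24)))
        24) &&
    tets.all (fun m => allBelow (fun a => !(m.testBit a) || allBelow (fun b => !(m.testBit b) ||
      witB.any fun w => Nat.beq (get 5 w.1 a) b) 24) 24) &&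
    tets.all (fun m => tets.all fun m' => Nat.beq m m' || witB.any fun w =>
      allBelow (fun i => !(m.testBit i) || Nat.beq (get 5 w.1 i) i) 24 &&
        !(allBelow (fun i => !(m'.testBit i) || Nat.beq (get 5 w.1 i) i) 24)) &&
    allBelow (fun a => allBelow (fun b =>
      let m := (1 <<< a) ||| (1 <<< get 5 zB.1 a) ||| (1 <<< b) ||| (1 <<< get 5 zB.1 b)
      !(Nat.beq (popCount m 24) 4) || memB m tets ||
        octadList.any fun o => Nat.beq (o &&& m) m && !(Nat.beq (imgMask zB o) o)) 24) 24

theorem okB_true : okB = true := by decide +kernel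

/-- Lookup in rows of 32. -/
def look {α : Type} (T : List (List α)) (d : α) (i : ℕ) : α := (T.getD (i / 32) []).getD (i % 32) d

/-- The `i`-th element of the Sylow 2-subgroup. -/
def sylElt (i : ℕ) : Elt := look sylRows (0, 0) i

/-- Validity checks. -/
def okS1 : Bool :=
  allBelow (fun i => validElt 5 24 (sylElt i) && Nat.blt (sylElt i).1 (1 <<< 120)) 1024 &&
    sylGens.all (fun g => validElt 5 24 g && isAutB g) && Nat.beq (sylElt 0).1 (idCode 5 24)

/-- Closure under the generators. -/
def okS2 : Bool :=
  allBelow (fun i => allBelow (fun j => let n := (look sylNext [] i).getD j 0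
    Nat.blt n 1024 && Nat.beq (sylElt n).1 (mul 5 24 (sylGens.getD j (0, 0)) (sylElt i)).1)
      sylGens.length) 1024

/-- Generation. -/
def okS3 : Bool :=
  allBelow (fun i => Nat.beq i 0 || let b := look sylBack (0, 0) i
    Nat.blt b.1 i && Nat.blt b.2 sylGens.length &&
      Nat.beq (sylElt i).1 (mul 5 24 (sylGens.getD b.2 (0, 0)) (sylElt b.1)).1) 1024

/-- Distinctness. -/
def okS4 : Bool :=
  allBelow (fun j => Nat.blt (look sylSort 0 j) 1024 &&
    (Nat.beq j 1023 || Nat.blt (sylElt (look sylSort 0 j)).1 (sylElt (look sylSort 0 (j + 1))).1))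
      1024

/-- Conjugacy of the involutions. -/
def okS5 : Bool :=
  allBelow (fun i => let e := sylElt i
    Nat.beq e.1 (idCode 5 24) || !(Nat.beq (mul 5 24 e e).1 (idCode 5 24)) ||
      sylWit.any fun w => Nat.beq w.1 e.1 && validElt 5 24 w.2.2 && isAutB w.2.2 &&
        Nat.beq (mul 5 24 w.2.2 (bif w.2.1 then zB else zA)).1 (mul 5 24 e w.2.2).1) 1024

theorem okS1_true : okS1 = true := by decide +kernel

theorem okS2_true : okS2 = true := by decide +kernel

theorem okS3_true : okS3 = true := by decide +kernel

theorem okS4_true : okS4 = true := by decide +kernel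

theorem okS5_true : okS5 = true := by decide +kernel

end Cfsg.Agent.Golay.SB
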