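/-
Involution centralisers in the group of the Golay code are 2-constrained.
-/
import Cfsg.Agent.Lib.Golay.SingleBlockChecks
import Cfsg.Agent.Lib.Blocks.Constrained

set_option linter.unusedSectionVars false
set_option maxRecDepth 20000

namespace Cfsg.Agent.Golay.SB

open Cfsg Cfsg.Agent.PermCert Cfsg.Agent.Golay
open scoped Pointwise

local notation "Pm" => Equiv.Perm GolayPt

/-- A normal 2-subgroup of the centraliser of `z` containing its own centraliser. -/
structure IsCore (z : Pm) (E : Subgroup Pm) : Prop where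
  le : E ≤ M24
  pgroup : IsPGroup 2 E
  comm : ∀ e ∈ E, Commute e z
  normal : ∀ c ∈ M24, Commute c z → ∀ e ∈ E, c * e * c⁻¹ ∈ E
  cent : ∀ c ∈ M24, Commute c z → (∀ e ∈ E, Commute c e) → c ∈ E
  fixed : ∀ q, z q = q → ∀ e ∈ E, e q = q

theorem IsCore.conj {z : Pm} {E : Subgroup Pm} (h : IsCore z E) {g : Pm} (hg : g ∈ M24) :
    IsCore (g * z * g⁻¹) (E.map (MulAut.conj g).toMonoidHom) where
  le := by
    rintro _ ⟨e, he, rfl⟩
    exact mul_mem (mul_mem hg (h.le he)) (inv_mem hg)
  pgroup := h.pgroup.map _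
  comm := by
    rintro _ ⟨e, he, rfl⟩
    exact (h.comm e he).map (MulAut.conj g).toMonoidHom
  normal := by
    rintro c hc hcz _ ⟨e, he, rfl⟩
    refine ⟨(g⁻¹ * c * g) * e * (g⁻¹ * c * g)⁻¹, h.normal _ (mul_mem (mul_mem (inv_mem hg) hc) hg)
      ?_ e he, by simp [mul_assoc]⟩
    have := hcz.map (MulAut.conj g⁻¹).toMonoidHom
    simpa [mul_assoc] using this
  cent := by
    intro c hc hcz hce
    refine ⟨g⁻¹ * c * g, h.cent _ (mul_mem (mul_mem (inv_mem hg) hc) hg) ?_ fun e he => ?_,
      by simp [mul_assoc]⟩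
    · have := hcz.map (MulAut.conj g⁻¹).toMonoidHom
      simpa [mul_assoc] using this
    · have := (hce _ ⟨e, he, rfl⟩).map (MulAut.conj g⁻¹).toMonoidHom
      simpa [mul_assoc] using this
  fixed := by
    rintro q hq _ ⟨e, he, rfl⟩
    have h1 : z (g⁻¹ q) = g⁻¹ q := by
      have := congrArg (g⁻¹ : Pm) hq
      simpa [Equiv.Perm.mul_apply] using this
    show g (e (g⁻¹ q)) = q
    rw [h.fixed _ h1 e he]
    simp

theorem IsCore.sameBlock {z : Pm} {E : Subgroup Pm} (hE : IsCore z E) {H : Subgroup Pm}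
    (hH : H ≤ M24) (hEH : E ≤ H) [Fintype H] {M : Ideal AlgInt} (hM : IsPModular 2 M) (w : H)
    (hw : (w : Pm) = z)
    (ξ η : IrrCharacter (Subgroup.centralizer ((Subgroup.zpowers w : Subgroup H) : Set H))) :
    SameBlock M (ξ : Subgroup.centralizer ((Subgroup.zpowers w : Subgroup H) : Set H) → ℂ)
      (η : Subgroup.centralizer ((Subgroup.zpowers w : Subgroup H) : Set H) → ℂ) := by
  haveI := Blocks.IsPModular.isPrime hM
  revert ξ η
  set C := Subgroup.centralizer ((Subgroup.zpowers w : Subgroup H) : Set H) with hC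
  intro ξ η
  haveI : Fintype C := Fintype.ofFinite C
  have hcz : ∀ c : C, Commute ((c : H) : Pm) z := fun c => by
    have := Subgroup.mem_centralizer_iff.1 c.2 w (Subgroup.mem_zpowers w)
    rw [← hw]
    exact (congrArg Subtype.val this).symm
  have hmemC : ∀ e : H, (e : Pm) ∈ E → e ∈ C := fun e he => by
    rw [hC, Subgroup.mem_centralizer_iff]
    rintro u ⟨i, rfl⟩
    refine Subtype.ext ?_
    have := (hE.comm _ he).zpow_right i
    simp only [Subgroup.coe_mul, SubgroupClass.coe_zpow, hw]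
    exact this.eq.symm
  let N : Subgroup C := (E.subgroupOf H).subgroupOf C
  haveI : N.Normal := ⟨fun e he c => by
    have := hE.normal _ (hH c.1.2) (hcz c) _ he
    exact this⟩
  refine Blocks.sameBlock_of_centralizer_le hM N ((hE.pgroup.comap_of_injective _
    Subtype.val_injective).comap_of_injective _ Subtype.val_injective) (fun c hc => ?_) ξ η
  refine hE.cent _ (hH c.1.2) (hcz c) fun e he => ?_
  have := Subgroup.mem_centralizer_iff.1 hc ⟨⟨e, hEH he⟩, hmemC ⟨e, hEH he⟩ he⟩ he
  exact (congrArg (fun x : C => ((x : H) : Pm)) this).symm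

/-! ### The involution fixing an octad -/

theorem valid_zA : validElt 5 24 zA = true := by decide +kernel

theorem fix_zA : allBelow (fun i => Nat.beq (get 5 zA.1 i) i == octA.testBit i) 24 = true := by
  decide +kernel

theorem zA_fix_iff (q : GolayPt) : permOf zA q = q ↔ octA.testBit (idx q) = true := by
  have h := allBelow_spec _ _ fix_zA (idx q) (idx_lt q)
  simp only [beq_iff_eq] at h
  rw [← h, Nat.beq_eq, ← idx_permOf valid_zA, idx_injective.eq_iff]

/-- The pointwise stabiliser of the octad. -/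
def coreA : Subgroup Pm where
  carrier := {σ | σ ∈ M24 ∧ ∀ q, octA.testBit (idx q) = true → σ q = q}
  one_mem' := ⟨one_mem _, fun _ _ => rfl⟩
  mul_mem' := fun {a b} ha hb =>
    ⟨mul_mem ha.1 hb.1, fun q hq => by rw [Equiv.Perm.mul_apply, hb.2 q hq, ha.2 q hq]⟩
  inv_mem' := fun {a} ha => ⟨inv_mem ha.1, fun q hq => by
    conv_lhs => rw [← ha.2 q hq]
    simp⟩

theorem witA_spec {w : Elt} (hw : w ∈ witA) : validElt 5 24 w = true ∧ permOf w ∈ coreA ∧
    (∀ v ∈ witA, Commute (permOf w) (permOf v)) ∧ Commute (permOf w) (permOf zA) ∧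
    permOf w * permOf w = 1 := by
  have h := okA_true
  simp only [okA, Bool.and_eq_true, List.all_eq_true] at h
  obtain ⟨⟨⟨⟨⟨hv, ha⟩, hfix⟩, hsq⟩, hc⟩, hz⟩ := h.1.1.1.1.1 w hw
  refine ⟨hv, ⟨permOf_mem_M24 hv ha, fun q hq => idx_injective ?_⟩, fun v hv' =>
    commB_spec hv (h.1.1.1.1.1 v hv').1.1.1.1.1 (hc v hv'), commB_spec hv valid_zA hz,
    permOf_mul_eq_one hv hv (Nat.eq_of_beq_eq_true hsq)⟩
  have := allBelow_spec _ _ hfix (idx q) (idx_lt q)
  rw [idx_permOf hv]
  simpa [hq] using this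

/-- The distinguished point outside the octad. -/
noncomputable def ptA : GolayPt := pt (Fin.ofNat 24 outA)

theorem idx_ptA : idx ptA = outA ∧ octA.testBit outA = false := by
  have h := okA_true
  simp only [okA, Bool.and_eq_true, Bool.not_eq_true', Nat.blt_eq] at h
  exact ⟨by rw [ptA, idx_pt, Fin.val_ofNat, Nat.mod_eq_of_lt h.1.1.1.2], h.1.1.2⟩

theorem coreA_transitive (q : GolayPt) (hq : octA.testBit (idx q) = false) :
    ∃ w ∈ witA, permOf w ptA = q := by
  have h := okA_true
  simp only [okA, Bool.and_eq_true] at h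
  have := allBelow_spec _ _ h.1.1.1.1.2 (idx q) (idx_lt q)
  simp only [hq, Bool.false_or, List.any_eq_true] at this
  obtain ⟨w, hw, he⟩ := this
  refine ⟨w, hw, idx_injective ?_⟩
  rw [idx_permOf (witA_spec hw).1, idx_ptA.1]
  exact Nat.eq_of_beq_eq_true he

theorem coreA_rigid {σ : Pm} (hσ : σ ∈ coreA) (h : σ ptA = ptA) : σ = 1 := by
  have hok := okA_true
  simp only [okA, Bool.and_eq_true, Nat.blt_eq] at hok
  refine rigidOK_spec _ _ hok.1.2 σ (by rw [stabIn_nil]; exact hσ.1) fun q hq => ?_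
  rw [maskSet_insert hok.1.1.1.2, Finset.mem_insert, mem_maskSet] at hq
  rcases hq with rfl | hq
  · have : pt ⟨outA, hok.1.1.1.2⟩ = ptA := idx_injective (by rw [idx_pt, idx_ptA.1])
    rw [this]; exact h
  · exact hσ.2 q hq

theorem coreA_eq {σ : Pm} (hσ : σ ∈ coreA) : ∃ w ∈ witA, σ = permOf w := by
  have hne : octA.testBit (idx (σ ptA)) = false := by
    rw [Bool.eq_false_iff]
    intro h
    have := hσ.2 _ h
    rw [σ.injective this, idx_ptA.1, idx_ptA.2] at h
    exact Bool.false_ne_true h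
  obtain ⟨w, hw, he⟩ := coreA_transitive _ hne
  refine ⟨w, hw, ?_⟩
  have := coreA_rigid (coreA.mul_mem (coreA.inv_mem (witA_spec hw).2.1) hσ)
    (by rw [Equiv.Perm.mul_apply, ← he]; simp)
  exact (inv_mul_eq_one.1 this).symm

theorem isCore_zA : IsCore (permOf zA) coreA where
  le := fun σ hσ => hσ.1
  pgroup := fun σ => ⟨1, by
    obtain ⟨w, hw, he⟩ := coreA_eq σ.2
    refine Subtype.ext ?_
    rw [pow_one, sq, Subgroup.coe_mul, he, (witA_spec hw).2.2.2.2]
    rfl⟩
  comm := fun e he => by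
    obtain ⟨w, hw, rfl⟩ := coreA_eq he
    exact (witA_spec hw).2.2.2.1
  normal := by
    intro c hc hcz e he
    refine ⟨mul_mem (mul_mem hc he.1) (inv_mem hc), fun q hq => ?_⟩
    have h1 : permOf zA (c⁻¹ q) = c⁻¹ q := by
      have := congrArg (fun σ : Pm => σ q) (hcz.inv_left).eq
      simp only [Equiv.Perm.mul_apply, (zA_fix_iff q).2 hq] at this
      exact this.symm
    rw [Equiv.Perm.mul_apply, Equiv.Perm.mul_apply, he.2 _ ((zA_fix_iff _).1 h1)]
    simp
  cent := by
    intro c hc hcz hce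
    have hne : octA.testBit (idx (c ptA)) = false := by
      rw [Bool.eq_false_iff]
      intro h
      have h1 := (zA_fix_iff _).2 h
      have h2 := congrArg (fun σ : Pm => σ ptA) hcz.eq
      simp only [Equiv.Perm.mul_apply, h1] at h2
      have := (zA_fix_iff ptA).1 (c.injective h2)
      rw [idx_ptA.1, idx_ptA.2] at this
      exact Bool.false_ne_true this
    obtain ⟨w, hw, he⟩ := coreA_transitive _ hne
    obtain ⟨-, hwmem, hww, -, -⟩ := witA_spec hw
    set u := (permOf w)⁻¹ * c with hu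
    have hu1 : u = 1 := by
      have hok := okA_true
      simp only [okA, Bool.and_eq_true] at hok
      refine rigidOK_spec _ _ hok.2 u
        (by rw [stabIn_nil]; exact mul_mem (inv_mem hwmem.1) hc) fun q hq => ?_
      have hq' : octA.testBit (idx q) = false := by
        simpa [mem_maskSet, Nat.testBit_xor, testBit_full (idx_lt q)] using hq
      obtain ⟨v, hv, hve⟩ := coreA_transitive q hq'
      have hcomm : Commute u (permOf v) :=
        ((hww v hv).inv_left).mul_left (hce _ (witA_spec hv).2.1)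
      rw [← hve, ← Equiv.Perm.mul_apply, hcomm.eq, Equiv.Perm.mul_apply]
      congr 1
      rw [hu, Equiv.Perm.mul_apply, ← he]
      simp
    have : c = permOf w := (inv_mul_eq_one.1 hu1).symm
    rw [this]
    exact hwmem
  fixed := fun q hq e he => he.2 q ((zA_fix_iff q).1 hq)

/-! ### The involution without fixed points -/

/-- On the set, `σ` is the identity or a fixed-point-free involution. -/
def FourAct (σ : Pm) (T : Finset GolayPt) : Prop :=
  ∀ q ∈ T, σ q ∈ T ∧ σ (σ q) = q ∧ (σ q = q → ∀ r ∈ T, σ r = r)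

theorem fourFun : ∀ π : Fin 4 → Fin 4,
    ((∀ i, π (π i) = i) ∧ ∀ i, π i = i → ∀ j, π j = j) →
      π = ![0, 1, 2, 3] ∨ π = ![1, 0, 3, 2] ∨ π = ![2, 3, 0, 1] ∨ π = ![3, 2, 1, 0] := by
  decide

theorem FourAct.exists_fun {σ : Pm} {T : Finset GolayPt} (hσ : FourAct σ T) (f : Fin 4 → GolayPt)
    (hf : Function.Injective f) (hT : ∀ q, q ∈ T ↔ ∃ i, f i = q) :
    ∃ π : Fin 4 → Fin 4, (∀ i, σ (f i) = f (π i)) ∧
      (π = ![0, 1, 2, 3] ∨ π = ![1, 0, 3, 2] ∨ π = ![2, 3, 0, 1] ∨ π = ![3, 2, 1, 0]) := by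
  have h := fun i => hσ (f i) ((hT _).2 ⟨i, rfl⟩)
  choose π hπ using fun i => (hT _).1 (h i).1
  refine ⟨π, fun i => (hπ i).symm, fourFun π ⟨fun i => hf ?_, fun i hi j => hf ?_⟩⟩
  · rw [hπ, hπ]; exact (h i).2.1
  · rw [hπ]
    exact (h i).2.2 (by rw [← hπ, hi]) _ ((hT _).2 ⟨j, rfl⟩)

theorem exists_enum {T : Finset GolayPt} (hT : T.card = 4) :
    ∃ f : Fin 4 → GolayPt, Function.Injective f ∧ ∀ q, q ∈ T ↔ ∃ i, f i = q := by
  refine ⟨fun i => (T.equivFin.symm (i.cast hT.symm) : GolayPt), fun a b h => ?_, fun q => ⟨fun hq =>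
    ⟨(T.equivFin ⟨q, hq⟩).cast hT, by simp⟩, fun ⟨i, hi⟩ => hi ▸ Finset.coe_mem _⟩⟩
  simpa using h

theorem FourAct.mul {σ τ : Pm} {T : Finset GolayPt} (hT : T.card = 4) (hσ : FourAct σ T)
    (hτ : FourAct τ T) : FourAct (σ * τ) T ∧ ∀ q ∈ T, σ (τ q) = τ (σ q) := by
  obtain ⟨f, hf, hfT⟩ := exists_enum hT
  obtain ⟨π, hπ, hπ'⟩ := hσ.exists_fun f hf hfT
  obtain ⟨ρ, hρ, hρ'⟩ := hτ.exists_fun f hf hfT
  have key : ((∀ i, π (ρ (π (ρ i))) = i) ∧ (∀ i, π (ρ i) = i → ∀ j, π (ρ j) = j)) ∧
      ∀ i, π (ρ i) = ρ (π i) := by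
    rcases hπ' with rfl | rfl | rfl | rfl <;> rcases hρ' with rfl | rfl | rfl | rfl <;> decide
  have e : ∀ i, (σ * τ) (f i) = f (π (ρ i)) := fun i => by rw [Equiv.Perm.mul_apply, hρ, hπ]
  refine ⟨fun q hq => ?_, fun q hq => ?_⟩
  · obtain ⟨i, rfl⟩ := (hfT q).1 hq
    refine ⟨(e i) ▸ (hfT _).2 ⟨_, rfl⟩, by rw [e, e, key.1.1], fun h r hr => ?_⟩
    obtain ⟨j, rfl⟩ := (hfT r).1 hr
    rw [e] at h ⊢
    rw [key.1.2 i (hf h) j]
  · obtain ⟨i, rfl⟩ := (hfT q).1 hq
    rw [hρ, hπ, hπ, hρ, key.2]

theorem valid_zB : validElt 5 24 zB = true := by decide +kernel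

/-- The core of the fixed-point-free involution. -/
def tetSets : List (Finset GolayPt) := tets.map maskSet

/-- The subgroup acting on each tetrad as a four-group. -/
def coreB : Subgroup Pm where
  carrier := {σ | σ ∈ M24 ∧ ∀ m ∈ tets, FourAct σ (maskSet m)}
  one_mem' := ⟨one_mem _, fun _ _ q hq => ⟨hq, rfl, fun _ _ _ => rfl⟩⟩
  mul_mem' := fun {a b} ha hb => ⟨mul_mem ha.1 hb.1, fun m hm => by
    have h := okB_true
    simp only [okB, Bool.and_eq_true, List.all_eq_true] at h
    exact ((ha.2 m hm).mul (by rw [card_maskSet]; exact Nat.eq_of_beq_eq_true (h.1.1.1.1.1.2 m hm).1)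
      (hb.2 m hm)).1⟩
  inv_mem' := fun {a} ha => ⟨inv_mem ha.1, fun m hm q hq => by
    have e : ∀ r ∈ maskSet m, a⁻¹ r = a r := fun r hr => by
      have := congrArg (a⁻¹ : Pm) ((ha.2 m hm) r hr).2.1
      simpa using this.symm
    obtain ⟨h1, h2, h3⟩ := ha.2 m hm q hq
    rw [e q hq]
    exact ⟨h1, by rw [e _ h1, h2], fun h r hr => by rw [e r hr, h3 h r hr]⟩⟩

theorem card_tet {m : ℕ} (hm : m ∈ tets) : (maskSet m).card = 4 := by
  have h := okB_true
  simp only [okB, Bool.and_eq_true, List.all_eq_true] at h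
  rw [card_maskSet]
  exact Nat.eq_of_beq_eq_true (h.1.1.1.1.1.2 m hm).1

theorem tet_cover (q : GolayPt) : ∃ m ∈ tets, q ∈ maskSet m := by
  have h := okB_true
  simp only [okB, Bool.and_eq_true] at h
  have := allBelow_spec _ _ h.1.1.1.1.2 (idx q) (idx_lt q)
  obtain ⟨m, hm, hb⟩ := List.any_eq_true.1 this
  exact ⟨m, hm, mem_maskSet.2 hb⟩

theorem witB_mem {w : Elt} (hw : w ∈ zB :: witB) :
    validElt 5 24 w = true ∧ permOf w ∈ coreB := by
  have h := okB_true
  simp only [okB, Bool.and_eq_true, List.all_eq_true] at h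
  obtain ⟨⟨hv, ha⟩, hact⟩ := h.1.1.1.2 w hw
  refine ⟨hv, permOf_mem_M24 hv ha, fun m hm q hq => ?_⟩
  rw [mem_maskSet] at hq
  have h1 := allBelow_spec _ _ (hact m hm) (idx q) (idx_lt q)
  simp only [hq, Bool.not_true, Bool.false_or, Bool.and_eq_true, Bool.or_eq_true,
    Bool.not_eq_true'] at h1
  rw [← idx_permOf hv] at h1
  refine ⟨mem_maskSet.2 h1.1.1, idx_injective ?_, fun hfix r hr => idx_injective ?_⟩
  · rw [idx_permOf hv]; exact Nat.eq_of_beq_eq_true h1.1.2
  · rcases h1.2 with h2 | h2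
    · rw [hfix] at h2
      simp at h2
    · rw [mem_maskSet] at hr
      have := allBelow_spec _ _ h2 (idx r) (idx_lt r)
      rw [idx_permOf hv]
      simpa [hr] using this

theorem coreB_commute {σ τ : Pm} (hσ : σ ∈ coreB) (hτ : τ ∈ coreB) : Commute σ τ :=
  Equiv.ext fun q => by
    obtain ⟨m, hm, hq⟩ := tet_cover q
    exact ((hσ.2 m hm).mul (card_tet hm) (hτ.2 m hm)).2 q hq

/-- The defining property of the tetrads. -/
def GoodSet (S : Finset GolayPt) : Prop :=
  S.card = 4 ∧ (∀ q ∈ S, permOf zB q ∈ S) ∧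
    ∀ o ∈ octads, S ⊆ o → permOf zB • o = o

theorem goodSet_iff (S : Finset GolayPt) : GoodSet S ↔ ∃ m ∈ tets, maskSet m = S := by
  classical
  have h := okB_true
  simp only [okB, Bool.and_eq_true] at h
  constructor
  · rintro ⟨hc, hz, ho⟩
    obtain ⟨a, ha⟩ : S.Nonempty := Finset.card_pos.1 (by omega)
    have hza : permOf zB a ≠ a := fun he => by
      have := allBelow_spec _ _ h.1.1.1.1.1.1.2 (idx a) (idx_lt a)
      rw [← idx_permOf valid_zB, he] at this
      simp at this
    obtain ⟨b, hb, hbn⟩ : ∃ b ∈ S, b ∉ ({a, permOf zB a} : Finset GolayPt) :=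
      Finset.exists_mem_notMem_of_card_lt_card (by
        rw [Finset.card_pair (Ne.symm hza), hc]; norm_num)
    simp only [Finset.mem_insert, Finset.mem_singleton, not_or] at hbn
    have hzb : permOf zB b ≠ b := fun he => by
      have := allBelow_spec _ _ h.1.1.1.1.1.1.2 (idx b) (idx_lt b)
      rw [← idx_permOf valid_zB, he] at this
      simp at this
    have hzz : ∀ q, permOf zB (permOf zB q) = q := fun q => by
      obtain ⟨m, hm, hq⟩ := tet_cover q
      exact ((witB_mem List.mem_cons_self).2.2 m hm q hq).2.1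
    have hsub : ({a, permOf zB a, b, permOf zB b} : Finset GolayPt) = S := by
      refine Finset.eq_of_subset_of_card_le ?_ ?_
      · intro q hq
        simp only [Finset.mem_insert, Finset.mem_singleton] at hq
        rcases hq with rfl | rfl | rfl | rfl <;> [exact ha; exact hz _ ha; exact hb; exact hz _ hb]
      · rw [hc]
        refine (le_of_eq ?_)
        rw [Finset.card_insert_of_notMem (by
            simp only [Finset.mem_insert, Finset.mem_singleton, not_or]
            exact ⟨hza.symm, fun e => hbn.1 e.symm, fun e => hbn.2 (by rw [e, hzz])⟩),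
          Finset.card_insert_of_notMem (by
            simp only [Finset.mem_insert, Finset.mem_singleton, not_or]
            exact ⟨fun e => hbn.2 e.symm, fun e => hbn.1 ((permOf zB).injective e).symm⟩),
          Finset.card_pair hzb.symm]
    set m := (1 <<< idx a) ||| (1 <<< get 5 zB.1 (idx a)) ||| (1 <<< idx b) |||
      (1 <<< get 5 zB.1 (idx b)) with hm
    have hmS : maskSet m = S := by
      rw [← hsub]
      ext q
      simp only [mem_maskSet, hm, Nat.testBit_or, Nat.one_shiftLeft, Nat.testBit_two_pow,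
        Bool.or_eq_true, decide_eq_true_eq, Finset.mem_insert, Finset.mem_singleton,
        ← idx_permOf valid_zB, idx_injective.eq_iff, or_assoc]
      simp [eq_comm]
    have h4 : popCount m 24 = 4 := by rw [← card_maskSet, hmS, hc]
    have := allBelow_spec _ _ (allBelow_spec _ _ h.2 (idx a) (idx_lt a)) (idx b) (idx_lt b)
    simp only [← hm, h4, Nat.beq_eq, Bool.or_eq_true, Bool.not_eq_true'] at this
    rcases this with (h0 | h0) | h0
    · simp at h0
    · exact ⟨m, memB_spec h0, hmS⟩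
    · obtain ⟨o, ho', ho2⟩ := List.any_eq_true.1 h0
      simp only [Bool.and_eq_true, Bool.not_eq_true'] at ho2
      have hle : S ⊆ maskSet o := by
        rw [← hmS, ← Nat.eq_of_beq_eq_true ho2.1, maskSet_and]
        exact Finset.inter_subset_left
      have he := ho _ (mem_octads.2 ⟨o, ho', rfl⟩) hle
      rw [maskSet_imgMask valid_zB] at he
      have hne := ho2.2
      rw [maskSet_inj (by exact mkMask_lt _ _) (lt_of_mem_octadList ho') he] at hne
      simp at hne
  · rintro ⟨m, hm, rfl⟩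
    refine ⟨card_tet hm, fun q hq => ((witB_mem List.mem_cons_self).2.2 m hm q hq).1,
      fun o ho hle => ?_⟩
    obtain ⟨o, ho', rfl⟩ := mem_octads.1 ho
    have hm' := List.all_eq_true.1 h.1.1.1.1.1.2 m hm
    simp only [Bool.and_eq_true] at hm'
    have h2 := List.all_eq_true.1 hm'.2 o ho'
    have hand : o &&& m = m := by
      refine Nat.eq_of_testBit_eq fun i => ?_
      rw [Nat.testBit_and]
      cases hb : m.testBit i
      · simp
      · rcases Nat.lt_or_ge i 24 with hi | hi
        · have := hle (mem_maskSet.2 (by rw [idx_pt]; exact hb) : pt ⟨i, hi⟩ ∈ maskSet m)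
          rw [mem_maskSet, idx_pt] at this
          simp [this]
        · exfalso
          have hlt : m < 2 ^ 24 :=
            (by decide +kernel : ∀ m ∈ tets, m < 2 ^ 24) m hm
          rw [Nat.testBit_lt_two_pow (hlt.trans_le (Nat.pow_le_pow_right (by norm_num) hi))] at hb
          exact Bool.false_ne_true hb
    simp only [hand, Nat.beq_eq, Bool.or_eq_true, Bool.not_eq_true'] at h2
    rcases h2 with h2 | h2
    · simp at h2
    · rw [maskSet_imgMask valid_zB, h2]

theorem goodSet_smul {c : Pm} (hc : c ∈ M24) (hcz : Commute c (permOf zB)) {S : Finset GolayPt}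
    (hS : GoodSet S) : GoodSet (c • S) := by
  obtain ⟨h1, h2, h3⟩ := hS
  refine ⟨by rw [Finset.card_smul_finset, h1], fun q hq => ?_, fun o ho hle => ?_⟩
  · obtain ⟨r, hr, rfl⟩ := Finset.mem_smul_finset.1 hq
    refine Finset.mem_smul_finset.2 ⟨permOf zB r, h2 r hr, ?_⟩
    exact congrArg (fun σ : Pm => σ r) hcz.eq
  · have := h3 (c⁻¹ • o) (smul_mem_octads (inv_mem hc) ho) fun r hr => by
      rw [← inv_smul_smul c r]
      exact Finset.smul_mem_smul_finset (hle (Finset.smul_mem_smul_finset hr))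
    rw [← mul_smul, (hcz.inv_left).eq.symm, mul_smul] at this
    exact smul_left_cancel (c⁻¹ : Pm) this

theorem coreB_conj {c : Pm} (hc : c ∈ M24) (hcz : Commute c (permOf zB)) {e : Pm}
    (he : e ∈ coreB) : c * e * c⁻¹ ∈ coreB := by
  refine ⟨mul_mem (mul_mem hc he.1) (inv_mem hc), fun m hm q hq => ?_⟩
  obtain ⟨m', hm', hme⟩ := (goodSet_iff _).1
    (goodSet_smul (inv_mem hc) (hcz.inv_left) ((goodSet_iff _).2 ⟨m, hm, rfl⟩))
  have hmem : ∀ r, r ∈ maskSet m ↔ c⁻¹ r ∈ maskSet m' := fun r => by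
    rw [hme]; exact (Finset.smul_mem_smul_finset_iff c⁻¹).symm
  obtain ⟨h1, h2, h3⟩ := he.2 m' hm' _ ((hmem q).1 hq)
  simp only [Equiv.Perm.mul_apply]
  refine ⟨(hmem _).2 (by simpa using h1), ?_, fun h r hr => ?_⟩
  · show c (e (c⁻¹ (c (e (c⁻¹ q))))) = q
    rw [show c⁻¹ (c (e (c⁻¹ q))) = e (c⁻¹ q) from c.symm_apply_apply _, h2]
    exact c.apply_symm_apply q
  have h' : e (c⁻¹ q) = c⁻¹ q := by
    have := congrArg (c⁻¹ : Pm) h
    simpa using this
  rw [h3 h' _ ((hmem r).1 hr)]
  simp

theorem isCore_zB : IsCore (permOf zB) coreB where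
  le := fun σ hσ => hσ.1
  pgroup := fun σ => ⟨1, Subtype.ext (Equiv.ext fun q => by
    obtain ⟨m, hm, hq⟩ := tet_cover q
    rw [pow_one, sq, Subgroup.coe_mul, Equiv.Perm.mul_apply, Subgroup.coe_one, Equiv.Perm.one_apply]
    exact (σ.2.2 m hm q hq).2.1)⟩
  comm := fun e he => coreB_commute he (witB_mem List.mem_cons_self).2
  normal := fun c hc hcz e he => coreB_conj hc hcz he
  cent := by
    intro c hc hcz hce
    have h := okB_true
    simp only [okB, Bool.and_eq_true, List.all_eq_true] at h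
    refine ⟨hc, fun m hm => ?_⟩
    obtain ⟨m', hm', hme⟩ := (goodSet_iff _).1
      (goodSet_smul hc hcz ((goodSet_iff _).2 ⟨m, hm, rfl⟩))
    have heq : m = m' := by
      by_contra hne
      have h6 := h.1.2 m hm m' hm'
      simp only [Bool.or_eq_true, List.any_eq_true, Bool.and_eq_true, Bool.not_eq_true'] at h6
      rcases h6 with h6 | ⟨w, hw, hw1, hw2⟩
      · exact hne (Nat.eq_of_beq_eq_true h6)
      · obtain ⟨hv, hwc⟩ := witB_mem (List.mem_cons_of_mem _ hw)
        have hall : ∀ i < 24, (!(m'.testBit i) || Nat.beq (get 5 w.1 i) i) = true := by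
          intro i hi
          cases hb : m'.testBit i
          · simp
          · obtain ⟨r, hr, hre⟩ := Finset.mem_smul_finset.1
              (hme ▸ (mem_maskSet.2 (by rw [idx_pt]; exact hb) : pt ⟨i, hi⟩ ∈ maskSet m'))
            have h7 : permOf w r = r := idx_injective (by
              have := allBelow_spec _ _ hw1 (idx r) (idx_lt r)
              rw [idx_permOf hv]
              simpa [mem_maskSet.1 hr] using this)
            have h8 := congrArg (fun σ : Pm => σ r) (hce _ hwc).eq
            simp only [Equiv.Perm.mul_apply, h7] at h8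
            rw [Equiv.Perm.smul_def] at hre
            rw [hre] at h8
            have := congrArg idx h8
            rw [idx_permOf hv, idx_pt] at this
            simp [← this]
        have : ∀ n ≤ 24, allBelow (fun i => !(m'.testBit i) || Nat.beq (get 5 w.1 i) i) n = true := by
          intro n
          induction n with
          | zero => intro _; rfl
          | succ n ih =>
            intro hn
            show (allBelow _ n && _) = true
            rw [ih (by omega), Bool.true_and]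
            exact hall n (by omega)
        rw [this 24 le_rfl] at hw2
        exact Bool.false_ne_true hw2.symm
    subst heq
    intro q hq
    obtain ⟨f, hf, hfT⟩ := exists_enum (card_tet hm)
    have ha : f 0 ∈ maskSet m := (hfT _).2 ⟨0, rfl⟩
    have hca : c (f 0) ∈ maskSet m := hme.symm ▸ Finset.smul_mem_smul_finset ha
    have htr : ∀ r ∈ maskSet m, ∃ w ∈ witB, permOf w (f 0) = r := fun r hr => by
      have h9 := allBelow_spec _ _ (allBelow_spec _ _ (h.1.1.2 m hm) (idx (f 0)) (idx_lt _)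
        |> fun h' => by simpa [mem_maskSet.1 ha] using h') (idx r) (idx_lt r)
      simp only [mem_maskSet.1 hr, Bool.not_true, Bool.false_or, List.any_eq_true] at h9
      obtain ⟨w, hw, he⟩ := h9
      exact ⟨w, hw, idx_injective (by
        rw [idx_permOf (witB_mem (List.mem_cons_of_mem _ hw)).1]; exact Nat.eq_of_beq_eq_true he)⟩
    obtain ⟨w, hw, hwe⟩ := htr _ hca
    have hwc := (witB_mem (List.mem_cons_of_mem _ hw)).2
    have key : ∀ r ∈ maskSet m, c r = permOf w r := fun r hr => by
      obtain ⟨v, hv, hve⟩ := htr r hr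
      have hvc := (witB_mem (List.mem_cons_of_mem _ hv)).2
      rw [← hve, ← Equiv.Perm.mul_apply, (hce _ hvc).eq, Equiv.Perm.mul_apply, ← hwe,
        ← Equiv.Perm.mul_apply, ← (coreB_commute hwc hvc).eq, Equiv.Perm.mul_apply]
    obtain ⟨h1, h2, h3⟩ := hwc.2 m hm q hq
    refine ⟨by rw [key q hq]; exact h1, by rw [key q hq, key _ h1]; exact h2, fun he r hr => ?_⟩
    rw [key r hr]
    exact h3 (by rw [← key q hq]; exact he) r hr
  fixed := fun q hq => by
    have h := okB_true
    simp only [okB, Bool.and_eq_true] at h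
    have := allBelow_spec _ _ h.1.1.1.1.1.1.2 (idx q) (idx_lt q)
    rw [← idx_permOf valid_zB, hq] at this
    simp at this

/-! ### The classes of involutions -/

theorem sylElt_spec {i : ℕ} (hi : i < 1024) :
    validElt 5 24 (sylElt i) = true ∧ (sylElt i).1 < 2 ^ 120 := by
  have h := okS1_true
  simp only [okS1, Bool.and_eq_true] at h
  have h' := allBelow_spec _ _ h.1.1 i hi
  simp only [Bool.and_eq_true, Nat.blt_eq, Nat.one_shiftLeft] at h'
  exact h'

theorem sylGens_spec {g : Elt} (hg : g ∈ sylGens) :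
    validElt 5 24 g = true ∧ permOf g ∈ M24 := by
  have h := okS1_true
  simp only [okS1, Bool.and_eq_true, List.all_eq_true] at h
  exact ⟨(h.1.2 g hg).1, permOf_mem_M24 (h.1.2 g hg).1 (h.1.2 g hg).2⟩

theorem permOf_sylElt_zero : permOf (sylElt 0) = 1 := by
  have h := okS1_true
  simp only [okS1, Bool.and_eq_true] at h
  exact permOf_eq_one (sylElt_spec (by norm_num)).1 (Nat.eq_of_beq_eq_true h.2)

/-- The Sylow 2-subgroup. -/
def sylS : Subgroup Pm := Subgroup.closure {σ | ∃ g ∈ sylGens, σ = permOf g}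

theorem sylS_le : sylS ≤ M24 := by
  rw [sylS, Subgroup.closure_le]
  rintro _ ⟨g, hg, rfl⟩
  exact (sylGens_spec hg).2

theorem sylS_mem_list {σ : Pm} (hσ : σ ∈ sylS) : ∃ i < 1024, σ = permOf (sylElt i) := by
  have hfin : (sylS : Set Pm) ⊆ {σ | ∃ i < 1024, σ = permOf (sylElt i)} := by
    intro τ hτ
    rw [SetLike.mem_coe, sylS, ← Subgroup.mem_toSubmonoid,
      Subgroup.closure_toSubmonoid_of_finite] at hτ
    induction hτ using Submonoid.closure_induction_left with
    | one => exact ⟨0, by norm_num, permOf_sylElt_zero.symm⟩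
    | mul_left x hx y _ ih =>
      obtain ⟨g, hg, rfl⟩ := hx
      obtain ⟨i, hi, rfl⟩ := ih
      obtain ⟨j, hj, rfl⟩ := List.getElem_of_mem hg
      have h := allBelow_spec _ _ (allBelow_spec _ _ (show allBelow _ 1024 = true from okS2_true)
        i hi) j hj
      simp only [Bool.and_eq_true, Nat.blt_eq, Nat.beq_eq] at h
      rw [List.getD_eq_getElem _ _ hj] at h
      exact ⟨_, h.1, permOf_mul_eq (sylGens_spec (List.getElem_mem hj)).1 (sylElt_spec hi).1
        (sylElt_spec h.1).1 h.2.symm⟩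
  exact hfin hσ

theorem list_mem_sylS : ∀ i < 1024, permOf (sylElt i) ∈ sylS := by
  intro i
  induction i using Nat.strong_induction_on with
  | _ i ih =>
    intro hi
    rcases Nat.eq_zero_or_pos i with rfl | hpos
    · rw [permOf_sylElt_zero]; exact one_mem _
    · have h := allBelow_spec _ _ (show allBelow _ 1024 = true from okS3_true) i hi
      simp only [Bool.or_eq_true, Bool.and_eq_true, Nat.blt_eq, Nat.beq_eq] at h
      rcases h with h | ⟨⟨hb1, hb2⟩, hb3⟩
      · omega
      · have hg : sylGens.getD (look sylBack (0, 0) i).2 (0, 0) ∈ sylGens := by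
          rw [List.getD_eq_getElem _ _ hb2]; exact List.getElem_mem _
        rw [← permOf_mul_eq (sylGens_spec hg).1 (sylElt_spec (hb1.trans hi)).1 (sylElt_spec hi).1
          hb3.symm]
        exact mul_mem (Subgroup.subset_closure ⟨_, hg, rfl⟩) (ih _ hb1 (hb1.trans hi))

theorem eq_code_of_get {a b : ℕ} (ha : a < 2 ^ 120) (hb : b < 2 ^ 120)
    (h : ∀ i < 24, get 5 a i = get 5 b i) : a = b := by
  refine Nat.eq_of_testBit_eq fun n => ?_
  rcases Nat.lt_or_ge n 120 with hn | hn
  · have h' := congrArg (fun v => Nat.testBit v (n % 5)) (h (n / 5) (by omega))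
    simp only [PermCert.get, Nat.testBit_mod_two_pow, Nat.mod_lt n (show 5 > 0 by norm_num), decide_true,
      Bool.true_and, Nat.testBit_shiftRight] at h'
    rwa [Nat.div_add_mod] at h'
  · rw [Nat.testBit_lt_two_pow (ha.trans_le (Nat.pow_le_pow_right (by norm_num) hn)),
      Nat.testBit_lt_two_pow (hb.trans_le (Nat.pow_le_pow_right (by norm_num) hn))]

theorem card_sylS : Nat.card sylS = 1024 := by
  classical
  have h4 := allBelow_spec _ _ (show allBelow _ 1024 = true from okS4_true)
  simp only [Bool.and_eq_true, Bool.or_eq_true, Nat.blt_eq, Nat.beq_eq] at h4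
  set key : ℕ → ℕ := fun j => (sylElt (look sylSort 0 j)).1 with hkey
  have hmono : ∀ n a, a + n + 1 < 1024 → key a < key (a + n + 1) := by
    intro n
    induction n with
    | zero => intro a ha; exact ((h4 a (by omega)).2).resolve_left (by omega)
    | succ n ih =>
      intro a ha
      refine (ih a (by omega)).trans ?_
      exact ((h4 (a + n + 1) (by omega)).2).resolve_left (by omega)
  refine le_antisymm ?_ ?_
  · let f : Fin 1024 → sylS := fun i => ⟨_, list_mem_sylS i i.2⟩
    refine (Nat.card_le_card_of_surjective f fun σ => ?_).trans (Nat.card_fin _).le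
    obtain ⟨i, hi, he⟩ := sylS_mem_list σ.2
    exact ⟨⟨i, hi⟩, Subtype.ext he.symm⟩
  · let f : Fin 1024 → sylS := fun j => ⟨_, list_mem_sylS _ (h4 j j.2).1⟩
    refine (Nat.card_fin 1024).symm.le.trans (Nat.card_le_card_of_injective f fun a b hab => ?_)
    have hk : key a = key b := by
      have ha := sylElt_spec (h4 a a.2).1
      have hb := sylElt_spec (h4 b b.2).1
      exact eq_code_of_get ha.2 hb.2 (permOf_injective ha.1 hb.1 (congrArg Subtype.val hab))
    refine Fin.ext ?_
    rcases Nat.lt_trichotomy (a : ℕ) b with h | h | h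
    · have := hmono (b - a - 1) a (by omega)
      rw [show (a : ℕ) + (b - a - 1) + 1 = b by omega] at this
      omega
    · exact h
    · have := hmono (a - b - 1) b (by omega)
      rw [show (b : ℕ) + (a - b - 1) + 1 = a by omega] at this
      omega

theorem exists_core_of_orderOf_two {z : Pm} (hz : z ∈ M24) (h2 : orderOf z = 2) :
    ∃ E, IsCore z E := by
  haveI : Fact (Nat.Prime 2) := ⟨Nat.prime_two⟩
  have hP : IsPGroup 2 (Subgroup.zpowers (⟨z, hz⟩ : M24)) :=
    IsPGroup.of_card (n := 1) (by rw [Nat.card_zpowers, ← Subgroup.orderOf_coe, h2, pow_one])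
  obtain ⟨Q, hQ⟩ := hP.exists_le_sylow
  let S : Sylow 2 M24 := Sylow.ofCard (sylS.subgroupOf M24) (by
    rw [Nat.card_congr (Subgroup.subgroupOfEquivOfLe sylS_le).toEquiv, card_sylS, card_M24]
    rw [show (244823040 : ℕ) = 2 ^ 10 * 239085 by norm_num,
      Nat.factorization_mul (by norm_num) (by norm_num), Nat.prime_two.factorization_pow]
    simp only [Finsupp.coe_add, Pi.add_apply, Finsupp.single_eq_same]
    rw [Nat.factorization_eq_zero_of_not_dvd (by norm_num : ¬ 2 ∣ 239085)]
    norm_num)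
  obtain ⟨g, hg⟩ := MulAction.exists_smul_eq M24 Q S
  have hmem : g * ⟨z, hz⟩ * g⁻¹ ∈ (S : Subgroup M24) := by
    rw [← hg, Sylow.coe_subgroup_smul]
    exact ⟨_, hQ (Subgroup.mem_zpowers _), rfl⟩
  obtain ⟨i, hi, hze⟩ := sylS_mem_list (Subgroup.mem_subgroupOf.1 hmem)
  simp only [Subgroup.coe_mul, Subgroup.coe_inv] at hze
  have h' := allBelow_spec _ _ (show allBelow _ 1024 = true from okS5_true) i hi
  obtain ⟨e, he⟩ : ∃ e, e = sylElt i := ⟨_, rfl⟩
  rw [← he] at hze h'
  have hve : validElt 5 24 e = true := he ▸ (sylElt_spec hi).1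
  have hord : orderOf (permOf e) = 2 := by
    rw [← hze, ← h2, ← MulAut.conj_apply, MulEquiv.orderOf_eq]
  simp only [Bool.or_eq_true, Bool.not_eq_true', List.any_eq_true, Bool.and_eq_true] at h'
  rcases h' with (h0 | h0) | ⟨w, -, ⟨⟨hwe, hv⟩, haut⟩, hmul⟩
  · rw [permOf_eq_one hve (Nat.eq_of_beq_eq_true h0), orderOf_one] at hord
    norm_num at hord
  · exfalso
    have hsq : permOf e * permOf e = 1 := by
      rw [← sq, ← hord, pow_orderOf_eq_one]
    have : (mul 5 24 e e).1 = idCode 5 24 := by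
      have hg : ∀ q : GolayPt, get 5 e.1 (get 5 e.1 (idx q)) = idx q := fun q => by
        rw [← idx_permOf hve, ← idx_permOf hve]
        exact congrArg (fun σ : Pm => idx (σ q)) hsq
      show pack 5 (fun i => get 5 e.1 (get 5 e.1 i)) 24 = pack 5 (fun i => i) 24
      suffices ∀ n ≤ 24, pack 5 (fun i => get 5 e.1 (get 5 e.1 i)) n = pack 5 (fun i => i) n from
        this 24 le_rfl
      intro n
      induction n with
      | zero => intro _; rfl
      | succ n ih =>
        intro hn
        have := hg (pt ⟨n, by omega⟩)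
        rw [idx_pt] at this
        rw [pack_succ, pack_succ, ih (by omega), this]
    rw [this] at h0
    simp at h0
  · have hgg : permOf w.2.2 ∈ M24 := permOf_mem_M24 hv haut
    have key : ∀ r : Elt, validElt 5 24 r = true →
        Nat.beq (mul 5 24 w.2.2 r).1 (mul 5 24 e w.2.2).1 = true →
        z = ((g : Pm)⁻¹ * permOf w.2.2) * permOf r * ((g : Pm)⁻¹ * permOf w.2.2)⁻¹ := by
      intro r hr hre
      have := permOf_mul_eq_mul hv hr hve hv (Nat.eq_of_beq_eq_true hre)
      rw [show ((g : Pm)⁻¹ * permOf w.2.2) * permOf r * ((g : Pm)⁻¹ * permOf w.2.2)⁻¹ =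
        (g : Pm)⁻¹ * (permOf w.2.2 * permOf r) * (permOf w.2.2)⁻¹ * (g : Pm) by group, this,
        ← hze]
      group
    have hg' : (g : Pm)⁻¹ * permOf w.2.2 ∈ M24 := mul_mem (inv_mem g.2) hgg
    cases hb : w.2.1
    · rw [hb] at hmul
      rw [key zA valid_zA hmul]
      exact ⟨_, isCore_zA.conj hg'⟩
    · rw [hb] at hmul
      rw [key zB valid_zB hmul]
      exact ⟨_, isCore_zB.conj hg'⟩

end Cfsg.Agent.Golay.SB
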