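import Cfsg.Agent.Lib.Golay.Basic
import Cfsg.Agent.Lib.Golay.CosetData
import Cfsg.Agent.S1550

/-!
Cosets of the length-24 code: every coset has a word of weight at most four; words of weight at
most four in one coset.
-/

namespace Cfsg.Agent.Golay

open Cfsg Cfsg.Agent.Golay.Cert

/-- The leaders listed for residues from `r` are light and in the right cosets. -/
def leadersOK : List ℕ → ℕ → Bool
  | [], r => Nat.beq r 4096
  | l :: rest, r => Nat.blt l 16777216 && Nat.ble (popCount l 24) 4 && inCode (l ^^^ r) &&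
      leadersOK rest (r + 1)

theorem leaders_ok : leadersOK leaders 0 = true := by decide +kernel

theorem leadersOK_spec : ∀ (L : List ℕ) (r : ℕ), leadersOK L r = true → ∀ s, r ≤ s → s < 4096 →
    ∃ l, l < 2 ^ 24 ∧ popCount l 24 ≤ 4 ∧ l ^^^ s ∈ codeList := by
  intro L
  induction L with
  | nil => intro r h s h1 h2; simp [leadersOK] at h; omega
  | cons l L ih =>
    intro r h s h1 h2
    simp only [leadersOK, Bool.and_eq_true, Nat.blt_eq, Nat.ble_eq] at h
    rcases eq_or_lt_of_le h1 with rfl | h1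
    · exact ⟨l, h.1.1.1, h.1.1.2, inCode_iff.1 h.1.2⟩
    · exact ih _ h.2 s h1 h2

theorem exists_light (w : ℕ) (hw : w < 2 ^ 24) :
    ∃ l, l < 2 ^ 24 ∧ popCount l 24 ≤ 4 ∧ w ^^^ l ∈ codeList := by
  obtain ⟨c, hc, hcw⟩ : ∃ c ∈ codeList, c >>> 12 = w >>> 12 := by
    have : w >>> 12 ∈ List.range 4096 := List.mem_range.2 (by
      rw [Nat.shiftRight_eq_div_pow]
      exact Nat.div_lt_of_lt_mul (by norm_num; omega))
    rw [← codeList_top, List.mem_map] at this
    exact this
  have hlt : w ^^^ c < 4096 := by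
    refine Nat.lt_pow_two_of_testBit (n := 12) _ fun i hi => ?_
    have := congrArg (fun x => Nat.testBit x (i - 12)) hcw
    simp only [Nat.testBit_shiftRight] at this
    rw [show 12 + (i - 12) = i by omega] at this
    rw [Nat.testBit_xor, this, Bool.xor_self]
  obtain ⟨l, hl, hl4, hlc⟩ := leadersOK_spec _ _ leaders_ok _ (Nat.zero_le _) hlt
  refine ⟨l, hl, hl4, ?_⟩
  have := spanList_xor _ _ hlc _ hc
  rwa [show l ^^^ (w ^^^ c) ^^^ c = w ^^^ l by
    rw [← Nat.xor_assoc, Nat.xor_assoc, Nat.xor_self, Nat.xor_zero, Nat.xor_comm]] at this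

/-- Two sets lie in the same coset. -/
def SameCoset (a b : Finset GolayPt) : Prop :=
  symmDiff a b ∈ supports (golayCode : Set (GolayPt → ZMod 2))

theorem supp_zero_or_le {s : Finset GolayPt}
    (h : s ∈ supports (golayCode : Set (GolayPt → ZMod 2))) : s = ∅ ∨ 8 ≤ s.card := by
  obtain ⟨m, hm, rfl⟩ := mem_supports.1 h
  rw [card_maskSet]
  rcases weight_cases hm with h | h | h | h | h <;> first | omega | left
  rw [← Finset.card_eq_zero, card_maskSet, h]

theorem symmDiff_maskSet (a b : ℕ) : maskSet (a ^^^ b) = symmDiff (maskSet a) (maskSet b) := by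
  ext p
  simp only [mem_maskSet, Nat.testBit_xor, Finset.mem_symmDiff]
  cases a.testBit (idx p) <;> cases b.testBit (idx p) <;> simp

theorem support_sub (w v : GolayPt → ZMod 2) :
    support₂ (w - v) = symmDiff (support₂ w) (support₂ v) := by
  ext p
  simp only [support₂, Finset.mem_filter, Finset.mem_univ, true_and, Finset.mem_symmDiff, Pi.sub_apply]
  rcases zmod2_cases (w p) with h | h <;> rcases zmod2_cases (v p) with h' | h' <;>
    simp [h, h']

theorem support_injective : Function.Injective (support₂ : (GolayPt → ZMod 2) → Finset GolayPt) :=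
  fun a b h => by rw [← ofMask_toMask a, h, ofMask_toMask b]

theorem support_surjective (s : Finset GolayPt) : ∃ v : GolayPt → ZMod 2, support₂ v = s :=
  ⟨ofMask (toMask s), by rw [support_ofMask, maskSet_toMask]⟩

theorem sub_mem_iff (w v : GolayPt → ZMod 2) :
    w - v ∈ golayCode ↔ SameCoset (support₂ w) (support₂ v) := by
  rw [SameCoset, ← support_sub]
  exact ⟨fun h => ⟨_, h, rfl⟩, fun ⟨c, hc, h⟩ => support_injective h ▸ hc⟩

theorem exists_light_set (a : Finset GolayPt) :
    ∃ b : Finset GolayPt, b.card ≤ 4 ∧ SameCoset a b := by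
  obtain ⟨l, -, h4, hc⟩ := exists_light _ (toMask_lt a)
  refine ⟨maskSet l, by rwa [card_maskSet], ?_⟩
  rw [SameCoset, ← maskSet_toMask a, ← symmDiff_maskSet]
  exact mem_supports.2 ⟨_, hc, rfl⟩

theorem sameCoset_trans {a b c : Finset GolayPt} (h1 : SameCoset a b) (h2 : SameCoset a c) :
    SameCoset b c := by
  obtain ⟨v, hv, hv'⟩ := h1
  obtain ⟨u, hu, hu'⟩ := h2
  refine ⟨v - u, sub_mem hv hu, ?_⟩
  rw [support_sub, hv', hu']
  ext p
  simp only [Finset.mem_symmDiff]
  tauto

theorem light_eq_or {b c : Finset GolayPt} (h : SameCoset b c) (h7 : b.card + c.card ≤ 7) :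
    b = c := by
  rcases supp_zero_or_le h with h | h
  · exact symmDiff_eq_bot.1 h
  · exfalso
    have : (symmDiff b c).card ≤ b.card + c.card :=
      (Finset.card_le_card symmDiff_le_sup).trans (Finset.card_union_le _ _)
    omega

theorem coset_of_four {a t u : Finset GolayPt} (ht : t.card = 4) (hat : SameCoset a t)
    (hu : u.card ≤ 4) (hau : SameCoset a u) : u ∈ Cfsg.Agent.S1550.canon t := by
  rcases eq_or_ne u t with rfl | hne
  · exact Finset.mem_insert_self _ _
  have htu := sameCoset_trans hat hau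
  rcases supp_zero_or_le htu with h | h
  · exact absurd (symmDiff_eq_bot.1 h).symm hne
  have h1 : (symmDiff t u).card ≤ (t ∪ u).card := Finset.card_le_card symmDiff_le_sup
  have h2 := Finset.card_union_add_card_inter t u
  have hint : t ∩ u = ∅ := Finset.card_eq_zero.1 (by omega)
  have he : symmDiff t u = t ∪ u := by
    rw [symmDiff_eq_sup_sdiff_inf, Finset.inf_eq_inter, hint, Finset.sdiff_empty, Finset.sup_eq_union]
  have hoct : t ∪ u ∈ octads := ⟨he ▸ htu, by omega⟩
  refine Finset.mem_insert_of_mem (Finset.mem_image.2 ⟨t ∪ u, Finset.mem_filter.2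
    ⟨Cfsg.Agent.Steiner.mem_blocks.2 hoct, Finset.subset_union_left⟩, ?_⟩)
  rw [Finset.union_sdiff_cancel_left (Finset.disjoint_iff_inter_eq_empty.2 hint)]

theorem coset_canon {a t u : Finset GolayPt} (ht : t.card = 4) (hat : SameCoset a t)
    (hu : u ∈ Cfsg.Agent.S1550.canon t) : u.card = 4 ∧ SameCoset a u := by
  obtain ⟨hS, htS⟩ := Cfsg.Agent.S1550.canon_mem ht
  refine ⟨hS.2.1 u hu, ?_⟩
  rcases eq_or_ne t u with rfl | hne
  · exact hat
  have hoct := hS.2.2 t htS u hu hne
  have h2 := Finset.card_union_add_card_inter t u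
  rw [ht, hS.2.1 u hu, card_octad hoct] at h2
  have he : symmDiff t u = t ∪ u := by
    rw [symmDiff_eq_sup_sdiff_inf, Finset.inf_eq_inter,
      Finset.card_eq_zero.1 (show (t ∩ u).card = 0 by omega), Finset.sdiff_empty, Finset.sup_eq_union]
  have h1 : SameCoset t u := by unfold SameCoset; rw [he]; exact hoct.1
  obtain ⟨v, hv, hv'⟩ := hat
  obtain ⟨x, hx, hx'⟩ := h1
  refine ⟨v + x, add_mem hv hx, ?_⟩
  rw [show v + x = v - x from funext fun p => (by decide : ∀ a b : ZMod 2, a + b = a - b) (v p) (x p),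
    support_sub, hv', hx']
  ext p
  simp only [Finset.mem_symmDiff]
  tauto

end Cfsg.Agent.Golay
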