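import Cfsg.Agent.Lib.Golay.OrbitChecks
import Cfsg.Agent.Lib.Golay.LocalCertData

/-!
Stabilisers of a dodecad with points fixed on it: action on the complementary dodecad.
-/

namespace Cfsg.Agent.Golay

open Cfsg Cfsg.Agent.PermCert Cfsg.Agent.Golay.Cert
open scoped Pointwise

theorem dodThree_ok :
    stabCertOK dodThreeInv dodThreeGens dodThreeDerived dodThreeLevels dodThreeLevelSets dodThreeRigid
      = true := by
  decide +kernel

theorem dodThree_order : certOrder dodThreeLevels = 72 := by decide +kernel

theorem dodThree_trans : classOK dodThreeInv dodThreeGens dodThreePtRoot dodThreePtTree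
    ((masksOfWeight 24 1).filter fun m => Nat.beq (m &&& sqMask) 0) (fun _ => true) = true := by
  decide +kernel

/-- Three points coded in one number. -/
def triPts (m : ℕ) : Fin 3 → GolayPt :=
  fun i => pt (Fin.ofNat 24 (m / 32 ^ (i : ℕ) % 32))

/-- Image of three coded points. -/
def triAct (e : Elt) (m : ℕ) : ℕ :=
  get 5 e.1 (m % 32 % 24) + 32 * get 5 e.1 (m / 32 % 32 % 24)
    + 1024 * get 5 e.1 (m / 1024 % 32 % 24)

theorem triPts_act {e : Elt} (h : validElt 5 24 e = true) (m : ℕ) :
    permOf e • triPts m = triPts (triAct e m) := by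
  have hlt : ∀ i : ℕ, i < 24 → get 5 e.1 i < 24 := fun i hi => by
    have := idx_permOf h (pt ⟨i, hi⟩)
    rw [idx_pt] at this
    exact this ▸ idx_lt _
  have a := hlt _ (Nat.mod_lt (m % 32) (by norm_num : 24 > 0))
  have b := hlt _ (Nat.mod_lt (m / 32 % 32) (by norm_num : 24 > 0))
  have c := hlt _ (Nat.mod_lt (m / 1024 % 32) (by norm_num : 24 > 0))
  funext i
  refine idx_injective ?_
  rw [Pi.smul_apply, Equiv.Perm.smul_def, triPts, triPts, idx_permOf h, idx_pt, idx_pt, Fin.val_ofNat,
    Fin.val_ofNat]
  fin_cases i <;>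
    simp only [triAct, Fin.isValue, Fin.mk_one, Fin.zero_eta, Fin.reduceFinMk, Fin.val_zero,
      Fin.val_one, Fin.val_two, pow_zero, pow_one, Nat.div_one]
  · omega
  · omega
  · norm_num
    omega

theorem dodTriple_gens : gensOK [sqMask, 1 <<< 0] dodTripleGens = true := by decide +kernel

theorem dodTriple_orbit : orbitGo triAct dodTripleGens [dodTripleRoot] dodTripleTree = true := by
  decide +kernel

/-- Coded triples of distinct points outside the dodecad of squares. -/
def outTriples : List ℕ :=
  let out := (List.range 24).filter fun i => !(sqMask.testBit i)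
  out.flatMap fun a => out.flatMap fun b => out.filterMap fun c =>
    bif (Nat.beq a b || Nat.beq a c || Nat.beq b c) then none else some (a + 32 * b + 1024 * c)

theorem dodTriple_cover :
    outTriples.all (fun m => memB m (orbitMem dodTripleRoot dodTripleTree)) = true := by
  decide +kernel

theorem exists_triple {x y : Fin 3 → GolayPt} (hx : Function.Injective x) (hy : Function.Injective y)
    (hxd : ∀ i, x i ∉ maskSet sqMask) (hyd : ∀ i, y i ∉ maskSet sqMask) :
    ∃ g ∈ stabIn [sqMask, 1 <<< 0], ∀ i, g (x i) = y i := by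
  have key : ∀ x : Fin 3 → GolayPt, Function.Injective x → (∀ i, x i ∉ maskSet sqMask) →
      ∃ g ∈ stabIn [sqMask, 1 <<< 0], g • triPts dodTripleRoot = x := by
    intro x hx hxd
    obtain ⟨m, hm, rfl⟩ : ∃ m ∈ outTriples, triPts m = x := by
      refine ⟨idx (x 0) + 32 * idx (x 1) + 1024 * idx (x 2), ?_, ?_⟩
      · have hout : ∀ i, idx (x i) ∈ (List.range 24).filter fun i => !(sqMask.testBit i) := fun i =>
          List.mem_filter.2 ⟨List.mem_range.2 (idx_lt _), by
            simpa using fun h => hxd i (mem_maskSet.2 h)⟩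
        have hne : ∀ i j, i ≠ j → idx (x i) ≠ idx (x j) := fun i j h e => h (hx (idx_injective e))
        refine List.mem_flatMap.2 ⟨_, hout 0, List.mem_flatMap.2 ⟨_, hout 1,
          List.mem_filterMap.2 ⟨_, hout 2, ?_⟩⟩⟩
        have e : ∀ i j, i ≠ j → Nat.beq (idx (x i)) (idx (x j)) = false := fun i j h => by
          rw [← Bool.not_eq_true, Nat.beq_eq]; exact hne i j h
        rw [e 0 1 (by decide), e 0 2 (by decide), e 1 2 (by decide)]
        rfl
      · funext i
        refine idx_injective ?_
        have := idx_lt (x 0); have := idx_lt (x 1); have := idx_lt (x 2)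
        rw [triPts, idx_pt, Fin.val_ofNat]
        fin_cases i <;>
          simp only [Fin.isValue, Fin.mk_one, Fin.zero_eta, Fin.reduceFinMk, Fin.val_zero,
            Fin.val_one, Fin.val_two, pow_zero, pow_one, Nat.div_one]
        · omega
        · omega
        · norm_num
          omega
    exact orbit_reach triPts _ (fun e he m => triPts_act (gensOK_spec dodTriple_gens e he).1 m)
      (fun e he => (gensOK_spec dodTriple_gens e he).2) dodTriple_orbit
      (memB_spec (List.all_eq_true.1 dodTriple_cover m hm))
  obtain ⟨a, ha, ha'⟩ := key x hx hxd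
  obtain ⟨b, hb, hb'⟩ := key y hy hyd
  refine ⟨b * a⁻¹, mul_mem hb (inv_mem ha), fun i => ?_⟩
  have h : (b * a⁻¹) • x = y := by rw [mul_smul, ← ha', inv_smul_smul, hb']
  exact congrFun h i

end Cfsg.Agent.Golay
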