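import Cfsg.Agent.Lib.Golay.Mathieu
import Cfsg.Agent.Lib.Golay.SingleBlockBase
import Cfsg.Agent.Lib.Golay.FusionData
import Cfsg.Agent.Lib.Fusion.Simple
import Cfsg.Agent.Lib.Solvable.Structure

/-!
A criterion for simplicity of the 2-fusion system of a subgroup of the group of the Golay code,
checked on a list of the elements of a Sylow 2-subgroup: conjugates of the central involution
generate, and no nontrivial permutation of odd order normalises the subgroup.
-/

set_option autoImplicit false
set_option linter.style.haveILetI false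
set_option maxRecDepth 20000

namespace Cfsg.Agent.Golay.Fus

open Cfsg Cfsg.Agent.PermCert Cfsg.Agent.FusionSys Cfsg.Agent.Golay.SB
open scoped Pointwise

local notation "Pm" => Equiv.Perm GolayPt

/-! ### Enumerated subgroups -/

theorem beq_of {a b : ℕ} (h : a = b) : Nat.beq a b = true := by simp [h]


/-- The listed elements are exactly the elements of the generated group, without repetition. -/
structure SylSpec (n : ℕ) (elt : ℕ → Elt) (gens : List Elt) : Prop where
  valid : ∀ i < n, validElt 5 24 (elt i) = true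
  gvalid : ∀ g ∈ gens, validElt 5 24 g = true
  mem_list : ∀ σ ∈ Subgroup.closure {σ : Pm | ∃ g ∈ gens, σ = permOf g}, ∃ i < n, σ = permOf (elt i)
  list_mem : ∀ i < n, permOf (elt i) ∈ Subgroup.closure {σ : Pm | ∃ g ∈ gens, σ = permOf g}
  inj : ∀ i < n, ∀ j < n, permOf (elt i) = permOf (elt j) → i = j

/-- Check of a small table of elements. -/
def tableOK (n : ℕ) (L gens : List Elt) (nxt : List (List ℕ)) (back : List (ℕ × ℕ)) : Bool :=
  allBelow (fun i => validElt 5 24 (L.getD i (0, 0))) n &&
  gens.all (fun g => validElt 5 24 g) &&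
  Nat.beq (L.getD 0 (0, 0)).1 (idCode 5 24) &&
  allBelow (fun i => allBelow (fun j => Nat.blt ((nxt.getD i []).getD j n) n &&
    Nat.beq (mul 5 24 (gens.getD j (0, 0)) (L.getD i (0, 0))).1
      (L.getD ((nxt.getD i []).getD j n) (0, 0)).1) gens.length) n &&
  allBelow (fun i => Nat.beq i 0 || (Nat.blt (back.getD i (0, 0)).1 i &&
    Nat.blt (back.getD i (0, 0)).2 gens.length &&
    Nat.beq (mul 5 24 (gens.getD (back.getD i (0, 0)).2 (0, 0))
      (L.getD (back.getD i (0, 0)).1 (0, 0))).1 (L.getD i (0, 0)).1)) n &&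
  allBelow (fun i => allBelow (fun j => Nat.beq i j ||
    !(allBelow (fun q => Nat.beq (get 5 (L.getD i (0, 0)).1 q) (get 5 (L.getD j (0, 0)).1 q)) 24)) n) n

theorem sylSpec_of_table {n : ℕ} (hn : 0 < n) {L gens : List Elt} {nxt : List (List ℕ)}
    {back : List (ℕ × ℕ)} (h : tableOK n L gens nxt back = true) :
    SylSpec n (fun i => L.getD i (0, 0)) gens := by
  simp only [tableOK, Bool.and_eq_true] at h
  obtain ⟨⟨⟨⟨⟨hv, hg⟩, h0⟩, hnext⟩, hback⟩, hinj⟩ := h
  have hvalid : ∀ i < n, validElt 5 24 (L.getD i (0, 0)) = true := allBelow_spec _ _ hv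
  have hgv : ∀ g ∈ gens, validElt 5 24 g = true := List.all_eq_true.1 hg
  have hone : permOf (L.getD 0 (0, 0)) = 1 := permOf_eq_one (hvalid 0 hn) (Nat.eq_of_beq_eq_true h0)
  refine ⟨hvalid, hgv, fun σ hσ => ?_, ?_, fun i hi j hj e => ?_⟩
  · rw [← Subgroup.mem_toSubmonoid, Subgroup.closure_toSubmonoid_of_finite] at hσ
    induction hσ using Submonoid.closure_induction_left with
    | one => exact ⟨0, hn, hone.symm⟩
    | mul_left x hx y _ ih =>
      obtain ⟨g, hg, rfl⟩ := hx
      obtain ⟨i, hi, rfl⟩ := ih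
      obtain ⟨j, hj, rfl⟩ := List.getElem_of_mem hg
      have h1 := allBelow_spec _ _ (allBelow_spec _ _ hnext i hi) j hj
      simp only [Bool.and_eq_true, Nat.blt_eq, Nat.beq_eq] at h1
      rw [List.getD_eq_getElem gens (0, 0) hj] at h1
      exact ⟨_, h1.1, permOf_mul_eq (hgv _ (List.getElem_mem hj)) (hvalid i hi) (hvalid _ h1.1) h1.2⟩
  · intro i
    induction i using Nat.strong_induction_on with
    | _ i ih =>
      intro hi
      rcases Nat.eq_zero_or_pos i with rfl | hpos
      · rw [hone]; exact one_mem _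
      · have h1 := allBelow_spec _ _ hback i hi
        simp only [Bool.or_eq_true, Bool.and_eq_true, Nat.blt_eq, Nat.beq_eq] at h1
        rcases h1 with h1 | ⟨⟨hb1, hb2⟩, hb3⟩
        · omega
        · have hmem : gens.getD (back.getD i (0, 0)).2 (0, 0) ∈ gens := by
            rw [List.getD_eq_getElem gens (0, 0) hb2]; exact List.getElem_mem _
          rw [← permOf_mul_eq (hgv _ hmem) (hvalid _ (hb1.trans hi)) (hvalid i hi) hb3]
          exact mul_mem (Subgroup.subset_closure ⟨_, hmem, rfl⟩) (ih _ hb1 (hb1.trans hi))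
  · have h1 := allBelow_spec _ _ (allBelow_spec _ _ hinj i hi) j hj
    simp only [Bool.or_eq_true, Nat.beq_eq, Bool.not_eq_true'] at h1
    refine h1.resolve_right fun hne => ?_
    have hall : allBelow (fun q => Nat.beq (get 5 (L.getD i (0, 0)).1 q)
        (get 5 (L.getD j (0, 0)).1 q)) 24 = true := by
      have key : ∀ m, m ≤ 24 → allBelow (fun q => Nat.beq (get 5 (L.getD i (0, 0)).1 q)
          (get 5 (L.getD j (0, 0)).1 q)) m = true := by
        intro m
        induction m with
        | zero => intro _; rfl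
        | succ m ih =>
          intro hm
          simp only [allBelow] at ih ⊢
          rw [Bool.and_eq_true]
          exact ⟨ih (by omega), beq_of (permOf_injective (hvalid i hi) (hvalid j hj) e m hm)⟩
      exact key 24 le_rfl
    rw [hall] at hne
    exact absurd hne (by simp)

/-! ### Colours -/

/-- The colour selectors: `0` everything, otherwise the involutions with eight fixed points. -/
def selP (sel : ℕ) (σ : Pm) : Prop :=
  sel = 0 ∨ ((Finset.univ.filter fun p => σ p = p).card = 8 ∧ ∀ p, σ (σ p) = p)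

theorem selP_conj {sel : ℕ} {σ : Pm} (g : Pm) (h : selP sel σ) : selP sel (g * σ * g⁻¹) := by
  rcases h with h | ⟨h1, h2⟩
  · exact Or.inl h
  · refine Or.inr ⟨?_, fun p => ?_⟩
    · refine Eq.trans (Finset.card_equiv g fun p => ?_).symm h1
      simp only [Finset.mem_filter, Finset.mem_univ, true_and]
      rw [Equiv.Perm.mul_apply, Equiv.Perm.mul_apply, Equiv.Perm.inv_def, Equiv.symm_apply_apply]
      exact g.injective.eq_iff.symm
    · simp only [Equiv.Perm.mul_apply, Equiv.Perm.inv_def, Equiv.symm_apply_apply, h2,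
        Equiv.apply_symm_apply]

/-- Boolean form of the selector. -/
def selB (sel : ℕ) (e : Elt) : Bool :=
  Nat.beq sel 0 || (Nat.beq (popCount (mkMask (fun i => Nat.beq (get 5 e.1 i) i) 24) 24) 8 &&
    allBelow (fun i => Nat.beq (get 5 e.1 (get 5 e.1 i)) i) 24)

theorem allBelow_of_forall {f : ℕ → Bool} : ∀ n, (∀ i < n, f i = true) → allBelow f n = true := by
  intro n
  induction n with
  | zero => intro _; rfl
  | succ n ih =>
    intro h
    show (allBelow f n && f n) = true
    rw [ih fun i hi => h i (by omega), h n (by omega)]; rfl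

theorem selB_iff {sel : ℕ} {e : Elt} (hv : validElt 5 24 e = true) :
    selB sel e = true ↔ selP sel (permOf e) := by
  simp only [selB, selP, Bool.or_eq_true, Bool.and_eq_true, Nat.beq_eq]
  refine or_congr Iff.rfl (and_congr ?_ ⟨fun h p => idx_injective ?_, fun h => ?_⟩)
  · rw [← card_maskSet, show maskSet (mkMask (fun i => Nat.beq (get 5 e.1 i) i) 24) =
      Finset.univ.filter fun p => permOf e p = p from ?_]
    ext p
    simp only [mem_maskSet, testBit_mkMask, idx_lt, decide_true, Bool.true_and, Finset.mem_filter,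
      Finset.mem_univ, true_and, Nat.beq_eq, ← idx_permOf hv]
    exact idx_injective.eq_iff
  · rw [idx_permOf hv, idx_permOf hv]
    exact Nat.eq_of_beq_eq_true (allBelow_spec _ _ h (idx p) (idx_lt p))
  · refine allBelow_of_forall _ fun i hi => ?_
    have h1 := congrArg idx (h (pt ⟨i, hi⟩))
    rw [idx_permOf hv, idx_permOf hv, idx_pt] at h1
    exact beq_of h1

/-- The colour of a pair of points. -/
noncomputable def col (n : ℕ) (elt : ℕ → Elt) (sel : ℕ) (p q : GolayPt) : ℕ :=
  Nat.card {k : Fin n // selP sel (permOf (elt k)) ∧ permOf (elt k) p = q}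

/-- The colour from an index list. -/
def colB (elt : ℕ → Elt) (J : List ℕ) (i j : ℕ) : ℕ :=
  J.countP fun k => Nat.beq (get 5 (elt k).1 i) j

/-- The index list of a selector. -/
def selList (n : ℕ) (J : List ℕ) (sel : ℕ) : List ℕ :=
  bif Nat.beq sel 0 then List.range n else J

variable {n : ℕ} {elt : ℕ → Elt} {gens : List Elt}

theorem col_eq (hS : SylSpec n elt gens) {J : List ℕ}
    (hJ : (List.range n).filter (fun k => selB 1 (elt k)) = J) {sel : ℕ} (hsel : sel ≤ 1) (i j : Fin 24) :
    col n elt sel (pt i) (pt j) = colB elt (selList n J sel) i j := by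
  classical
  have hlist : selList n J sel = (List.range n).filter (fun k => selB sel (elt k)) := by
    rcases Nat.le_one_iff_eq_zero_or_eq_one.1 hsel with rfl | rfl
    · simp [selList, selB]
    · simp [selList, hJ]; rfl
  rw [col, colB, hlist, List.countP_filter, Nat.card_eq_fintype_card, Fintype.card_subtype]
  have key : ∀ f : ℕ → Bool,
      (List.range n).countP f = (Finset.univ.filter fun k : Fin n => f k = true).card := by
    intro f
    rw [List.countP_eq_length_filter, ← List.toFinset_card_of_nodup (List.nodup_range.filter f),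
      ← Finset.card_map Fin.valEmbedding]
    congr 1
    ext k
    simp only [List.mem_toFinset, List.mem_filter, List.mem_range, Finset.mem_map, Finset.mem_filter,
      Finset.mem_univ, true_and, Fin.valEmbedding_apply]
    exact ⟨fun h => ⟨⟨k, h.1⟩, h.2, rfl⟩, fun ⟨a, ha, hak⟩ => hak ▸ ⟨a.2, ha⟩⟩
  rw [key]
  congr 1
  refine Finset.filter_congr fun k _ => ?_
  have hv := hS.valid k k.2
  simp only [Bool.and_eq_true, Nat.beq_eq, selB_iff hv]
  have e1 : get 5 (elt k).1 i = idx (permOf (elt k) (pt i)) := by rw [idx_permOf hv, idx_pt]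
  rw [e1, and_comm]
  exact and_congr ⟨fun h => by rw [h, idx_pt], fun h => idx_injective (by rw [h, idx_pt])⟩ Iff.rfl

theorem col_le (hS : SylSpec n elt gens) {g : Pm}
    (hg : ∀ σ ∈ Subgroup.closure {σ : Pm | ∃ g ∈ gens, σ = permOf g},
      g * σ * g⁻¹ ∈ Subgroup.closure {σ : Pm | ∃ g ∈ gens, σ = permOf g})
    (sel : ℕ) (p q : GolayPt) : col n elt sel p q ≤ col n elt sel (g p) (g q) := by
  choose f hf hfe using fun k : Fin n => hS.mem_list _ (hg _ (hS.list_mem k k.2))
  refine Nat.card_le_card_of_injective (fun k => ⟨⟨f k.1, hf k.1⟩, ?_, ?_⟩) fun a b hab => ?_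
  · rw [← hfe]; exact selP_conj g k.2.1
  · rw [← hfe]
    simp [Equiv.Perm.mul_apply, Equiv.Perm.inv_def, k.2.2]
  · have h1 : f a.1 = f b.1 := congrArg (fun z : {k : Fin n // _} => ((z.1 : Fin n) : ℕ)) hab
    have h2 := (hfe a.1).trans ((congrArg (fun m => permOf (elt m)) h1).trans (hfe b.1).symm)
    exact Subtype.ext (Fin.ext (hS.inj _ a.1.2 _ b.1.2 (mul_left_cancel (mul_right_cancel h2))))

/-! ### Refinement -/

/-- The row of a colour. -/
def rowB (elt : ℕ → Elt) (J : List ℕ) (i c : ℕ) : ℕ :=
  mkMask (fun j => Nat.beq (colB elt J i j) c) 24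

/-- The check of a list of refinement steps. -/
def runOK (n : ℕ) (elt : ℕ → Elt) (J : List ℕ) : List Op → List ℕ → Bool
  | [], known => allBelow (fun i => memB (1 <<< i) known) 24
  | Op.colour A sel c B₁ B₂ :: rest, known =>
    memB A known && Nat.ble sel 1 &&
      allBelow (fun i => !(A.testBit i) || Nat.beq (rowB elt (selList n J sel) i c) B₁ ||
        Nat.beq (rowB elt (selList n J sel) i c) B₂) 24 &&
      (!(allBelow (fun i => !(A.testBit i && Nat.beq (rowB elt (selList n J sel) i c) B₁)) 24) &&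
        !(allBelow (fun i => !(A.testBit i && Nat.beq (rowB elt (selList n J sel) i c) B₂)) 24)) &&
      runOK n elt J rest (B₁ :: B₂ :: known)
  | Op.split A B :: rest, known =>
    memB A known && memB B known && runOK n elt J rest ((A &&& B) :: (A ^^^ (A &&& B)) :: known)

theorem exists_of_not_allBelow {f : ℕ → Bool} {n : ℕ} (h : allBelow f n = false) :
    ∃ i < n, f i = false := by
  by_contra hne
  push Not at hne
  rw [allBelow_of_forall n fun i hi => by simpa using hne i hi] at h
  exact absurd h (by simp)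

theorem odd_pair {α : Type*} [MulAction Pm α] {g : Pm} (hodd : Odd (orderOf g)) {B₁ B₂ : α}
    (h1 : g • B₁ = B₁ ∨ g • B₁ = B₂) (h2 : g • B₂ = B₁ ∨ g • B₂ = B₂) : g • B₁ = B₁ := by
  rcases h1 with h1 | h1
  · exact h1
  rcases h2 with h2 | h2
  swap
  · exact smul_left_cancel g (by rw [h1, h2])
  have hsq : ∀ j : ℕ, (g ^ 2) ^ j • B₁ = B₁ := by
    intro j
    induction j with
    | zero => rw [pow_zero, one_smul]
    | succ j ih => rw [pow_succ, mul_smul, show g ^ 2 • B₁ = B₁ by rw [pow_two, mul_smul, h1, h2], ih]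
  obtain ⟨j, hj⟩ := hodd
  have hg : g = (g ^ 2) ^ (j + 1) := by
    rw [← pow_mul, show 2 * (j + 1) = orderOf g + 1 by omega, pow_succ, pow_orderOf_eq_one, one_mul]
  rw [hg]
  exact hsq _

theorem run_fix (hS : SylSpec n elt gens) {J : List ℕ}
    (hJ : (List.range n).filter (fun k => selB 1 (elt k)) = J) {g : Pm} (hodd : Odd (orderOf g))
    (hg : ∀ σ ∈ Subgroup.closure {σ : Pm | ∃ g ∈ gens, σ = permOf g},
      g * σ * g⁻¹ ∈ Subgroup.closure {σ : Pm | ∃ g ∈ gens, σ = permOf g}) :
    ∀ (ops : List Op) (known : List ℕ), runOK n elt J ops known = true →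
      (∀ A ∈ known, g • maskSet A = maskSet A) → g = 1
  | [], known, h, hk => by
    refine Equiv.ext fun p => ?_
    have h1 : maskSet (1 <<< idx p) = {p} := by
      have := maskSet_single ⟨idx p, idx_lt p⟩
      rwa [pt_idx] at this
    have h2 := hk _ (memB_spec (allBelow_spec _ _ h (idx p) (idx_lt p)))
    rw [h1, Finset.smul_finset_singleton, Finset.singleton_inj] at h2
    exact h2
  | Op.colour A sel c B₁ B₂ :: rest, known, h, hk => by
    simp only [runOK, Bool.and_eq_true, Bool.not_eq_true', Nat.ble_eq] at h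
    obtain ⟨⟨⟨⟨hA, hsel⟩, hall⟩, hex1, hex2⟩, hrest⟩ := h
    have hA' := hk A (memB_spec hA)
    have hinv : ∀ p q, col n elt sel (g p) (g q) = col n elt sel p q := by
      intro p q
      refine le_antisymm ?_ (col_le hS hg sel p q)
      have key : ∀ (j : ℕ) (p q : GolayPt), col n elt sel p q ≤ col n elt sel ((g ^ j) p) ((g ^ j) q) := by
        intro j
        induction j with
        | zero => intro p q; simp
        | succ j ih =>
          intro p q
          rw [pow_succ', Equiv.Perm.mul_apply, Equiv.Perm.mul_apply]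
          exact (ih p q).trans (col_le hS hg sel _ _)
      have h1 := key (orderOf g - 1) (g p) (g q)
      rwa [← Equiv.Perm.mul_apply, ← Equiv.Perm.mul_apply, ← pow_succ,
        Nat.sub_add_cancel (orderOf_pos g), pow_orderOf_eq_one, Equiv.Perm.one_apply,
        Equiv.Perm.one_apply] at h1
    -- rows
    let R : GolayPt → Finset GolayPt := fun p => Finset.univ.filter fun q => col n elt sel p q = c
    have hR : ∀ p, g • R p = R (g p) := by
      intro p
      ext q
      rw [← Finset.inv_smul_mem_iff]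
      simp only [R, Finset.mem_filter, Finset.mem_univ, true_and, Equiv.Perm.smul_def]
      rw [← hinv p (g⁻¹ q), ← Equiv.Perm.mul_apply, mul_inv_cancel, Equiv.Perm.one_apply]
    have hrow : ∀ p, maskSet (rowB elt (selList n J sel) (idx p) c) = R p := by
      intro p
      ext q
      have e := col_eq hS hJ hsel ⟨idx p, idx_lt p⟩ ⟨idx q, idx_lt q⟩
      rw [pt_idx, pt_idx] at e
      simp only [R, rowB, mem_maskSet, testBit_mkMask, idx_lt, decide_true, Bool.true_and,
        Nat.beq_eq, Finset.mem_filter, Finset.mem_univ, true_and, e]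
    have hin : ∀ p, p ∈ maskSet A → R p = maskSet B₁ ∨ R p = maskSet B₂ := by
      intro p hp
      have h1 := allBelow_spec _ _ hall (idx p) (idx_lt p)
      rw [mem_maskSet] at hp
      simp only [Bool.or_eq_true, hp, Nat.beq_eq, Bool.not_true, Bool.false_eq_true, false_or] at h1
      rcases h1 with h1 | h1
      · exact Or.inl (by rw [← hrow, h1])
      · exact Or.inr (by rw [← hrow, h1])
    have hout : ∀ B, allBelow (fun i => !(A.testBit i && Nat.beq (rowB elt (selList n J sel) i c) B)) 24
        = false → g • maskSet B = maskSet B₁ ∨ g • maskSet B = maskSet B₂ := by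
      intro B hB
      obtain ⟨i, hi, hiB⟩ := exists_of_not_allBelow hB
      simp only [Bool.not_eq_false', Bool.and_eq_true, Nat.beq_eq] at hiB
      have hp : pt ⟨i, hi⟩ ∈ maskSet A := by rw [mem_maskSet, idx_pt]; exact hiB.1
      have hRp : R (pt ⟨i, hi⟩) = maskSet B := by rw [← hrow, idx_pt, hiB.2]
      rw [← hRp, hR]
      refine hin _ ?_
      rw [← hA', ← Equiv.Perm.smul_def]
      exact Finset.smul_mem_smul_finset hp
    have f1 := odd_pair hodd (hout B₁ hex1) (hout B₂ hex2)
    have f2 := odd_pair hodd (hout B₂ hex2).symm (hout B₁ hex1).symm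
    refine run_fix hS hJ hodd hg rest _ hrest fun X hX => ?_
    rcases List.mem_cons.1 hX with rfl | hX
    · exact f1
    rcases List.mem_cons.1 hX with rfl | hX
    · exact f2
    exact hk X hX
  | Op.split A B :: rest, known, h, hk => by
    simp only [runOK, Bool.and_eq_true] at h
    obtain ⟨⟨hA, hB⟩, hrest⟩ := h
    have e1 : maskSet (A &&& B) = maskSet A ∩ maskSet B := by
      ext p; simp [mem_maskSet]
    have e2 : maskSet (A ^^^ (A &&& B)) = maskSet A \ maskSet B := by
      ext p
      simp only [mem_maskSet, Nat.testBit_xor, Nat.testBit_and, Finset.mem_sdiff]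
      cases A.testBit (idx p) <;> cases B.testBit (idx p) <;> simp
    refine run_fix hS hJ hodd hg rest _ hrest fun X hX => ?_
    rcases List.mem_cons.1 hX with rfl | hX
    · rw [e1, Finset.smul_finset_inter, hk A (memB_spec hA), hk B (memB_spec hB)]
    rcases List.mem_cons.1 hX with rfl | hX
    · rw [e2, Finset.smul_finset_sdiff, hk A (memB_spec hA), hk B (memB_spec hB)]
    exact hk X hX

/-! ### Strong closure -/

/-- The two codes agree on all points. -/
def eqB (a b : ℕ) : Bool := allBelow (fun i => Nat.beq (get 5 a i) (get 5 b i)) 24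

theorem eq_of_eqB {a b : Elt} (ha : validElt 5 24 a = true) (hb : validElt 5 24 b = true)
    (h : eqB a.1 b.1 = true) : permOf a = permOf b :=
  Equiv.ext fun p => idx_injective (by
    rw [idx_permOf ha, idx_permOf hb]
    exact Nat.eq_of_beq_eq_true (allBelow_spec _ _ h (idx p) (idx_lt p)))

/-- The check of the steps. -/
def stepsOK (n : ℕ) (elt : ℕ → Elt) (inv : List ℕ) (gens : List Elt) : List WStep → List ℕ → Bool
  | [], known => gens.all fun g => known.any fun k => eqB g.1 (elt k).1
  | WStep.conj g s d :: rest, known =>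
    memB s known && Nat.blt d n && validElt 5 24 g && inStabB inv g &&
      Nat.beq (mul 5 24 g (elt s)).1 (mul 5 24 (elt d) g).1 && stepsOK n elt inv gens rest (d :: known)
  | WStep.mul a b d :: rest, known =>
    memB a known && memB b known && Nat.blt d n &&
      Nat.beq (mul 5 24 (elt a) (elt b)).1 (elt d).1 && stepsOK n elt inv gens rest (d :: known)

/-- The centre check. -/
def centreOK (n : ℕ) (elt : ℕ → Elt) (gens : List Elt) (z : ℕ) : Bool :=
  Nat.blt z n && !(eqB (elt z).1 (idCode 5 24)) &&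
    allBelow (fun k => eqB (elt k).1 (idCode 5 24) || eqB (elt k).1 (elt z).1 ||
      gens.any fun g => !(eqB (mul 5 24 g (elt k)).1 (mul 5 24 (elt k) g).1)) n

theorem steps_mem (hS : SylSpec n elt gens) {inv : List ℕ} {T : Set Pm}
    (hmul : ∀ a ∈ T, ∀ b ∈ T, a * b ∈ T)
    (hconj : ∀ g ∈ stabIn inv, ∀ x ∈ T, g * x * g⁻¹ ∈ Subgroup.closure {σ : Pm | ∃ g ∈ gens, σ = permOf g} →
      g * x * g⁻¹ ∈ T) :
    ∀ (W : List WStep) (known : List ℕ), stepsOK n elt inv gens W known = true →
      (∀ k ∈ known, k < n ∧ permOf (elt k) ∈ T) → ∀ g ∈ gens, permOf g ∈ T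
  | [], known, h, hk, g, hg => by
    simp only [stepsOK, List.all_eq_true, List.any_eq_true] at h
    obtain ⟨k, hkk, he⟩ := h g hg
    rw [eq_of_eqB (hS.gvalid g hg) (hS.valid k (hk k hkk).1) he]
    exact (hk k hkk).2
  | WStep.conj g s d :: rest, known, h, hk, x, hx => by
    simp only [stepsOK, Bool.and_eq_true, Nat.blt_eq, Nat.beq_eq] at h
    obtain ⟨⟨⟨⟨⟨hs, hd⟩, hgv⟩, hgs⟩, he⟩, hrest⟩ := h
    obtain ⟨hsn, hsT⟩ := hk s (memB_spec hs)
    refine steps_mem hS hmul hconj rest _ hrest (fun k hk' => ?_) x hx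
    rcases List.mem_cons.1 hk' with rfl | hk'
    · refine ⟨hd, ?_⟩
      have e : permOf g * permOf (elt s) * (permOf g)⁻¹ = permOf (elt k) := by
        rw [permOf_mul_eq_mul hgv (hS.valid s hsn) (hS.valid k hd) hgv he, mul_inv_cancel_right]
      rw [← e]
      exact hconj _ (permOf_mem_stabIn hgv hgs) _ hsT (e ▸ hS.list_mem k hd)
    · exact hk k hk'
  | WStep.mul a b d :: rest, known, h, hk, x, hx => by
    simp only [stepsOK, Bool.and_eq_true, Nat.blt_eq, Nat.beq_eq] at h
    obtain ⟨⟨⟨⟨ha, hb⟩, hd⟩, he⟩, hrest⟩ := h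
    refine steps_mem hS hmul hconj rest _ hrest (fun k hk' => ?_) x hx
    rcases List.mem_cons.1 hk' with rfl | hk'
    · refine ⟨hd, ?_⟩
      rw [← permOf_mul_eq (hS.valid a (hk a (memB_spec ha)).1) (hS.valid b (hk b (memB_spec hb)).1)
        (hS.valid k hd) he]
      exact hmul _ (hk a (memB_spec ha)).2 _ (hk b (memB_spec hb)).2
    · exact hk k hk'

theorem centre_eq (hS : SylSpec n elt gens) {z : ℕ} (hz : centreOK n elt gens z = true) {σ : Pm}
    (hσ : σ ∈ Subgroup.closure {σ : Pm | ∃ g ∈ gens, σ = permOf g})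
    (hc : ∀ g ∈ gens, permOf g * σ = σ * permOf g) : σ = 1 ∨ σ = permOf (elt z) := by
  simp only [centreOK, Bool.and_eq_true, Nat.blt_eq] at hz
  obtain ⟨k, hk, rfl⟩ := hS.mem_list σ hσ
  have h := allBelow_spec _ _ hz.2 k hk
  simp only [Bool.or_eq_true, List.any_eq_true, Bool.not_eq_true'] at h
  have hv := hS.valid k hk
  rcases h with (h | h) | ⟨g, hg, hne⟩
  · left
    refine Equiv.ext fun p => idx_injective ?_
    rw [idx_permOf hv, Nat.eq_of_beq_eq_true (allBelow_spec _ _ h (idx p) (idx_lt p)),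
      get_idCode _ _ _ (by norm_num) (idx_lt p)]
    rfl
  · exact Or.inr (eq_of_eqB hv (hS.valid z hz.1.1) h)
  · exfalso
    have hgv := hS.gvalid g hg
    have key : eqB (mul 5 24 g (elt k)).1 (mul 5 24 (elt k) g).1 = true := by
      refine allBelow_of_forall _ fun i hi => beq_of ?_
      have h1 := congrArg (fun τ : Pm => idx (τ (pt ⟨i, hi⟩))) (hc g hg)
      simp only [Equiv.Perm.mul_apply, idx_permOf hgv, idx_permOf hv, idx_pt] at h1
      rw [PermCert.mul, PermCert.mul, get_comp _ _ _ _ _ hi, get_comp _ _ _ _ _ hi]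
      exact h1
    rw [key] at hne
    exact absurd hne (by simp)

/-! ### The criterion -/

/-- The complete certificate. -/
def certOK (n : ℕ) (elt : ℕ → Elt) (gens : List Elt) (inv J : List ℕ) (z : ℕ) (W : List WStep)
    (ops : List Op) : Bool :=
  gens.all (inStabB inv) && centreOK n elt gens z && stepsOK n elt inv gens W [z] &&
    runOK n elt J ops (16777215 :: inv)

theorem fus_simple (hS : SylSpec n elt gens) {inv J : List ℕ}
    (hJ : (List.range n).filter (fun k => selB 1 (elt k)) = J) {z : ℕ} {W : List WStep} {ops : List Op}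
    (hok : certOK n elt gens inv J z W ops = true) {H : Subgroup Pm} (hH : H = stabIn inv) {e : ℕ}
    (he : (Nat.card H).factorization 2 = e) (hn : n = 2 ^ e) (S : Sylow 2 H) :
    (groupFusionSystem (S : Subgroup H)).IsSimple 2 := by
  classical
  haveI : Fact (Nat.Prime 2) := ⟨Nat.prime_two⟩
  simp only [certOK, Bool.and_eq_true, List.all_eq_true] at hok
  obtain ⟨⟨⟨hgens, hz⟩, hW⟩, hops⟩ := hok
  set Y := Subgroup.closure {σ : Pm | ∃ g ∈ gens, σ = permOf g} with hY
  have hYH : Y ≤ H := by
    rw [hY, Subgroup.closure_le]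
    rintro _ ⟨g, hg, rfl⟩
    exact hH.symm ▸ permOf_mem_stabIn (hS.gvalid g hg) (hgens g hg)
  have hcardY : Nat.card Y = n := by
    let f : Fin n → Y := fun k => ⟨_, hS.list_mem k k.2⟩
    refine ((Nat.card_fin n).symm.trans (Nat.card_eq_of_bijective f ⟨fun a b h => ?_, fun σ => ?_⟩)).symm
    · exact Fin.ext (hS.inj a a.2 b b.2 (congrArg Subtype.val h))
    · obtain ⟨k, hk, hσ⟩ := hS.mem_list σ σ.2
      exact ⟨⟨k, hk⟩, Subtype.ext hσ.symm⟩
  have hcard0 : Nat.card (Y.subgroupOf H) = 2 ^ (Nat.card H).factorization 2 := by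
    rw [Nat.card_congr (Subgroup.subgroupOfEquivOfLe hYH).toEquiv, hcardY, hn, he]
  obtain ⟨c, hc⟩ := MulAction.exists_smul_eq H S (Sylow.ofCard _ hcard0)
  -- the embedding carrying `S` onto `Y`
  let f : H →* Pm := H.subtype.comp (MulAut.conj c).toMonoidHom
  have hinj : Function.Injective f := Subtype.val_injective.comp (MulAut.conj c).injective
  have hSY : ∀ x : H, x ∈ (S : Subgroup H) ↔ f x ∈ Y := fun x => by
    have h1 : ((c • S : Sylow 2 H) : Subgroup H) = Y.subgroupOf H := by rw [hc]; rfl
    show x ∈ (S : Subgroup H) ↔ c * x * c⁻¹ ∈ Y.subgroupOf H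
    rw [← h1, Sylow.coe_subgroup_smul]
    exact (Subgroup.smul_mem_pointwise_smul_iff (a := MulAut.conj c) (S := (S : Subgroup H)) (x := x)).symm
  have hex : ∀ {y}, y ∈ H → ∃ x, f x = y := fun {y} hy =>
    ⟨(MulAut.conj c).symm ⟨y, hy⟩, congrArg Subtype.val ((MulAut.conj c).apply_symm_apply _)⟩
  have himg : ∀ x, f x ∈ stabIn inv := fun x => hH ▸ (MulAut.conj c x).2
  have hzn : z < n := by
    simp only [centreOK, Bool.and_eq_true, Nat.blt_eq] at hz; exact hz.1.1
  have hz1 : permOf (elt z) ≠ 1 := fun e1 => by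
    simp only [centreOK, Bool.and_eq_true, Bool.not_eq_true'] at hz
    have : eqB (elt z).1 (idCode 5 24) = true := by
      refine allBelow_of_forall _ fun i hi => beq_of ?_
      have h1 := congrArg (fun τ : Pm => idx (τ (pt ⟨i, hi⟩))) e1
      simp only [idx_permOf (hS.valid z hzn), idx_pt, Equiv.Perm.one_apply] at h1
      rw [h1, get_idCode _ _ _ (by norm_num) hi]
    rw [this] at hz
    simp at hz
  refine group_isSimple_of_isPGroup S (fun hbot => ?_) (fun T hT => ?_) ?_
  · obtain ⟨x, hx⟩ := hex (hYH (hS.list_mem z hzn))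
    have : x ∈ (S : Subgroup H) := (hSY x).2 (hx ▸ hS.list_mem z hzn)
    rw [hbot, Subgroup.mem_bot] at this
    exact hz1 (by rw [← hx, this, map_one])
  · obtain ⟨hTS, hcl⟩ := (group_stronglyClosed_iff S).1 hT
    rcases eq_or_ne T ⊥ with hb | hb
    · exact Or.inl hb
    right
    haveI : Group.IsNilpotent (S : Subgroup H) := S.2.isNilpotent
    haveI : (T.subgroupOf (S : Subgroup H)).Normal := ⟨fun a ha s =>
      hcl s a ha ((S : Subgroup H).mul_mem ((S : Subgroup H).mul_mem s.2 (hTS ha))
        ((S : Subgroup H).inv_mem s.2))⟩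
    have hne : T.subgroupOf (S : Subgroup H) ≠ ⊥ := by
      rw [Ne, Subgroup.subgroupOf_eq_bot]
      exact fun h => hb (disjoint_self.1 (h.mono_right hTS))
    obtain ⟨⟨w, hwT, hwc⟩, hw1⟩ :=
      Subgroup.ne_bot_iff_exists_ne_one.1 (SolvStruct.inf_center_ne_bot hne)
    have hzT : permOf (elt z) ∈ T.map f := by
      rcases centre_eq hS hz ((hSY _).1 w.2) fun g hg => by
        obtain ⟨y, hy⟩ := hex (hYH (Subgroup.subset_closure ⟨g, hg, rfl⟩))
        have hyS : y ∈ (S : Subgroup H) := (hSY y).2 (hy ▸ Subgroup.subset_closure ⟨g, hg, rfl⟩)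
        rw [← hy, ← map_mul, ← map_mul]
        exact congrArg f (congrArg Subtype.val (Subgroup.mem_center_iff.1 hwc ⟨y, hyS⟩)) with h | h
      · exact absurd (Subtype.ext (Subtype.ext (hinj (h.trans (map_one f).symm)))) hw1
      · exact ⟨_, hwT, h⟩
    have hgT : ∀ g ∈ gens, permOf g ∈ (T.map f : Set Pm) := by
      refine steps_mem hS (fun a ha b hb => mul_mem ha hb) (fun g hg x hx hgx => ?_) W [z] hW
        fun k hk => ?_
      · obtain ⟨g', rfl⟩ := hex (hH.symm ▸ hg)
        obtain ⟨x', hx', rfl⟩ := hx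
        rw [← map_inv, ← map_mul, ← map_mul] at hgx ⊢
        exact ⟨_, hcl g' x' hx' ((hSY _).2 hgx), rfl⟩
      · rw [List.mem_singleton.1 hk]
        exact ⟨hzn, hzT⟩
    refine le_antisymm hTS fun x hx => ?_
    have hle : Y ≤ T.map f := by
      rw [hY, Subgroup.closure_le]
      rintro _ ⟨g, hg, rfl⟩
      exact hgT g hg
    obtain ⟨y, hy, hye⟩ := hle ((hSY x).1 hx)
    exact hinj hye ▸ hy
  · intro a
    obtain ⟨g, -, hge⟩ := (mem_autInducedBy_iff (a : MulAut (S : Subgroup H))).1 a.2
    have hgN := mem_normalizer_of_autInduced hge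
    -- the odd part of `g` is trivial
    obtain ⟨b, m, hm, hord⟩ := Nat.exists_eq_two_pow_mul_odd (orderOf_pos g).ne'
    refine ⟨b, Subtype.ext (MulEquiv.ext fun x => Subtype.ext ?_)⟩
    have hpow : g ^ 2 ^ b = 1 := by
      refine hinj ?_
      rw [map_one]
      have hN2 := Subgroup.pow_mem _ hgN (2 ^ b)
      refine run_fix hS hJ (Odd.of_dvd_nat hm (orderOf_dvd_of_pow_eq_one ?_)) (fun σ hσ => ?_) ops _ hops
        fun A hA => ?_
      · rw [← map_pow, ← pow_mul, ← hord, pow_orderOf_eq_one, map_one]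
      · obtain ⟨y, rfl⟩ := hex (hYH hσ)
        rw [← map_inv, ← map_mul, ← map_mul]
        exact (hSY _).1 ((Subgroup.mem_normalizer_iff.1 hN2 y).1 ((hSY y).2 hσ))
      · rcases List.mem_cons.1 hA with rfl | hA
        · have : maskSet 16777215 = Finset.univ := by
            ext p; simp [mem_maskSet, testBit_full (idx_lt p)]
          rw [this, Finset.smul_finset_univ]
        · exact (himg _).2 A hA
    have key : ∀ (j : ℕ) (y : (S : Subgroup H)),
        (((a : MulAut (S : Subgroup H)) ^ j) y : H) = g ^ j * (y : H) * (g ^ j)⁻¹ := by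
      intro j
      induction j with
      | zero => intro y; simp
      | succ j ih =>
        intro y
        rw [pow_succ', MulAut.mul_apply, hge, ih, pow_succ']
        group
    show (((a : MulAut (S : Subgroup H)) ^ 2 ^ b) x : H) = _
    rw [key, hpow]
    simp

end Cfsg.Agent.Golay.Fus
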