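import Cfsg.Agent.Lib.Golay.Fusion

/-! Data for the 2-fusion system of M₁₁. -/

namespace Cfsg.Agent.Golay.Fus

open Cfsg.Agent.PermCert

/-- A Sylow 2-subgroup of M₁₁. -/
def s11Elts : List Elt := [
    (984818244535754528103549039458486304, 984818244535754528103549039458486304),
    (936347153009406741655709702007719168, 861416085956061044780716398077188160),
    (981940665293541705572153882392824192, 981940665293541705572153882392824192),
    (732710052364542787453745058042454400, 732750436431902716899906414985726144),
    (853067299482153577724586913138061888, 853270159485411985707914896808712448),
    (944168564639925426850153130843276800, 944492521165362244289157409819168832),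
    (861091524067430691398631851813155328, 936143781739953280997228501948338752),
    (735587421144309950099182594919155744, 735587421144309950099182594919155744),
    (981980925563086763750854056418394304, 981980925563086763750854056418394304),
    (735019729089100402266245758788739200, 735019729089100402266245758788739200),
    (984250007757840264970761676795265152, 984250007757840264970761676795265152),
    (853270159485411985707914896808712448, 853067299482153577724586913138061888),
    (944492521165362244289157409819168832, 944168564639925426850153130843276800),
    (732750436431902716899906414985726144, 732710052364542787453745058042454400),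
    (936143781739953280997228501948338752, 861091524067430691398631851813155328),
    (861416085956061044780716398077188160, 936347153009406741655709702007719168)]

/-- Its generators. -/
def s11Gens : List Elt := [
    (936347153009406741655709702007719168, 861416085956061044780716398077188160),
    (981940665293541705572153882392824192, 981940665293541705572153882392824192)]

/-- The first step to each element. -/
def s11Back : List (ℕ × ℕ) := [
    (0, 0), (0, 0), (0, 1), (1, 0), (1, 1), (2, 0), (3, 0), (3, 1), (4, 0), (5, 0), (6, 0), (7, 0), (8, 0), (9, 1), (10, 0), (12, 1)]

/-- Left multiplication by the generators. -/
def s11Next : List (List ℕ) := [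
    [1, 2], [3, 4], [5, 0], [6, 7], [8, 1], [9, 6], [10, 5], [11, 3], [12, 10], [4, 13], [14, 8], [2, 14], [7, 15], [15, 9], [13, 11], [0, 12]]

/-- Witnesses that the centre generates. -/
def w11 : List WStep := [
    .mul 10 10 0,
    .conj (980628284196488766240925518410107008, 968654530763828820384948273070804160) 10 2,
    .mul 10 2 8,
    .conj (936347153009406741655709702007719168, 861416085956061044780716398077188160) 2 7,
    .mul 10 7 9,
    .mul 2 7 3,
    .mul 10 3 13,
    .conj (853268852254431684932566166198864256, 732711121898433923390193066496531008) 3 4,
    .mul 10 4 11,
    .mul 2 4 1]

/-- The powers of the first generator. -/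
def cyc11 : List ℕ := [0, 1, 3, 6, 10, 14, 13, 15]

/-- The squares. -/
def sq11 : List ℕ := [0, 3, 0, 10, 10, 10, 13, 0, 0, 0, 0, 10, 10, 10, 3, 13]

/-- The central involution. -/
def z11 : ℕ := 10

end Cfsg.Agent.Golay.Fus
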