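import Cfsg.Agent.Lib.Golay.Fusion
import Cfsg.Agent.Lib.Golay.FusionDataEleven
import Cfsg.Agent.Lib.Fusion.PSL2Simple

/-! The 2-fusion system of M₁₁. -/

set_option autoImplicit false
set_option linter.style.haveILetI false
set_option maxRecDepth 20000

namespace Cfsg.Agent.Golay.Fus

open Cfsg Cfsg.Agent.PermCert Cfsg.Agent.FusionSys Cfsg.Agent.Golay.SB Cfsg.Agent.Golay.Cert
open scoped Pointwise

local notation "Pm" => Equiv.Perm GolayPt
local notation "elt₁₁" => fun i : ℕ => s11Elts.getD i ((0, 0) : Elt)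

theorem table11 : tableOK 16 s11Elts s11Gens s11Next s11Back = true := by decide +kernel

theorem spec11 : SylSpec 16 elt₁₁ s11Gens := sylSpec_of_table (by norm_num) table11

theorem gensIn11 : s11Gens.all (inStabB m11Inv) = true := by decide +kernel

theorem centre11 : centreOK 16 elt₁₁ s11Gens z11 = true := by decide +kernel

theorem steps11 : stepsOK 16 elt₁₁ m11Inv s11Gens w11 [z11] = true := by decide +kernel

/-- The check of the powers and of the squares. -/
def shapeOK : Bool :=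
  allBelow (fun j => Nat.blt (cyc11.getD j 0) 16) 8 && Nat.beq (cyc11.getD 0 0) 0 &&
  allBelow (fun j => Nat.beq (mul 5 24 (s11Gens.getD 0 (0, 0)) (s11Elts.getD (cyc11.getD j 0) (0, 0))).1
    (s11Elts.getD (cyc11.getD ((j + 1) % 8) 0) (0, 0)).1) 8 &&
  allBelow (fun j => Nat.beq j 0 || !(Nat.beq (cyc11.getD j 0) 0)) 8 &&
  allBelow (fun k => Nat.blt (sq11.getD k 0) 16 &&
    Nat.beq (mul 5 24 (s11Elts.getD k (0, 0)) (s11Elts.getD k (0, 0))).1
      (s11Elts.getD (sq11.getD k 0) (0, 0)).1 &&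
    (Nat.beq (sq11.getD (sq11.getD k 0) 0) 0 || cyc11.any fun c => Nat.beq c k)) 16

theorem shape11 : shapeOK = true := by decide +kernel

theorem fus_simple_eleven {H : Subgroup Pm} (hH : H = stabIn m11Inv) (hcard : Nat.card H = 7920)
    (S : Sylow 2 H) : (groupFusionSystem (S : Subgroup H)).IsSimple 2 := by
  classical
  haveI : Fact (Nat.Prime 2) := ⟨Nat.prime_two⟩
  have hS := spec11
  have hgens := List.all_eq_true.1 gensIn11
  set Y := Subgroup.closure {σ : Pm | ∃ g ∈ s11Gens, σ = permOf g} with hY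
  have hYH : Y ≤ H := by
    rw [hY, Subgroup.closure_le]
    rintro _ ⟨g, hg, rfl⟩
    exact hH.symm ▸ permOf_mem_stabIn (hS.gvalid g hg) (hgens g hg)
  have hcardY : Nat.card Y = 16 := by
    let f : Fin 16 → Y := fun k => ⟨_, hS.list_mem k k.2⟩
    refine ((Nat.card_fin 16).symm.trans (Nat.card_eq_of_bijective f ⟨fun a b h => ?_, fun σ => ?_⟩)).symm
    · exact Fin.ext (hS.inj a a.2 b b.2 (congrArg Subtype.val h))
    · obtain ⟨k, hk, hσ⟩ := hS.mem_list σ σ.2
      exact ⟨⟨k, hk⟩, Subtype.ext hσ.symm⟩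
  have hcard0 : Nat.card (Y.subgroupOf H) = 2 ^ (Nat.card H).factorization 2 := by
    rw [Nat.card_congr (Subgroup.subgroupOfEquivOfLe hYH).toEquiv, hcardY, hcard,
      show (7920 : ℕ) = 2 ^ 4 * 495 by norm_num, Nat.factorization_mul (by norm_num) (by norm_num),
      Finsupp.add_apply, Nat.Prime.factorization_pow Nat.prime_two, Finsupp.single_eq_same,
      Nat.factorization_eq_zero_of_not_dvd (by norm_num)]
    rfl
  obtain ⟨c, hc⟩ := MulAction.exists_smul_eq H S (Sylow.ofCard _ hcard0)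
  let f : H →* Pm := H.subtype.comp (MulAut.conj c).toMonoidHom
  have hinj : Function.Injective f := Subtype.val_injective.comp (MulAut.conj c).injective
  have hSY : ∀ x : H, x ∈ (S : Subgroup H) ↔ f x ∈ Y := fun x => by
    have h1 : ((c • S : Sylow 2 H) : Subgroup H) = Y.subgroupOf H := by rw [hc]; rfl
    show x ∈ (S : Subgroup H) ↔ c * x * c⁻¹ ∈ Y.subgroupOf H
    rw [← h1, Sylow.coe_subgroup_smul]
    exact (Subgroup.smul_mem_pointwise_smul_iff (a := MulAut.conj c) (S := (S : Subgroup H)) (x := x)).symm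
  have hex : ∀ {y}, y ∈ H → ∃ x, f x = y := fun {y} hy =>
    ⟨(MulAut.conj c).symm ⟨y, hy⟩, congrArg Subtype.val ((MulAut.conj c).apply_symm_apply _)⟩
  have hz := centre11
  have hzn : z11 < 16 := by norm_num [z11]
  have hid : permOf (s11Elts.getD 0 ((0, 0) : Elt)) = 1 :=
    permOf_eq_one (hS.valid 0 (by norm_num)) (by decide +kernel)
  have hz1 : permOf (s11Elts.getD z11 ((0, 0) : Elt)) ≠ 1 := fun e => by
    have := hS.inj z11 hzn 0 (by norm_num) (e.trans hid.symm)
    norm_num [z11] at this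
  -- the cyclic subgroup
  have hshape := shape11
  simp only [shapeOK, Bool.and_eq_true, Bool.or_eq_true, Nat.beq_eq, Nat.blt_eq, List.any_eq_true] at hshape
  obtain ⟨⟨⟨⟨hcyc, hcyc0⟩, hstep⟩, hcycne⟩, hsq⟩ := hshape
  have hgv : validElt 5 24 (s11Gens.getD 0 (0, 0)) = true :=
    hS.gvalid _ (by rw [List.getD_eq_getElem s11Gens (0, 0) (by decide)]; exact List.getElem_mem _)
  have haY : permOf (s11Gens.getD 0 (0, 0)) ∈ Y :=
    Subgroup.subset_closure ⟨_, by rw [List.getD_eq_getElem s11Gens (0, 0) (by decide)]; exact List.getElem_mem _, rfl⟩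
  obtain ⟨a, ha⟩ := hex (hYH haY)
  have haS : a ∈ (S : Subgroup H) := (hSY a).2 (ha ▸ haY)
  have hpow : ∀ j ≤ 8, f (a ^ j) = permOf (s11Elts.getD (cyc11.getD (j % 8) 0) (0, 0)) := by
    intro j
    induction j with
    | zero => intro _; rw [pow_zero, map_one, hcyc0]; exact hid.symm
    | succ j ih =>
      intro hj
      have hj8 : j < 8 := by omega
      rw [pow_succ', map_mul, ih (by omega), ha, Nat.mod_eq_of_lt hj8]
      have h1 := allBelow_spec _ _ hstep j hj8
      simp only [Nat.beq_eq] at h1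
      exact permOf_mul_eq hgv (hS.valid _ (Nat.blt_eq.mp (allBelow_spec _ _ hcyc j hj8)))
        (hS.valid _ (Nat.blt_eq.mp (allBelow_spec _ _ hcyc _ (Nat.mod_lt _ (by norm_num))))) h1
  have ho : orderOf a = 8 := by
    refine (orderOf_eq_iff (by norm_num)).2 ⟨hinj ?_, fun m hm h0 e => ?_⟩
    · rw [hpow 8 le_rfl, map_one, show 8 % 8 = 0 from rfl, hcyc0]
      exact hid
    · have h1 := hpow m (by omega)
      rw [e, map_one, Nat.mod_eq_of_lt hm, ← hid] at h1
      have h2 := hS.inj 0 (by norm_num) _ (Nat.blt_eq.mp (allBelow_spec _ _ hcyc m hm)) h1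
      have h3 := allBelow_spec _ _ hcycne m hm
      simp only [Bool.or_eq_true, Nat.beq_eq, Bool.not_eq_true'] at h3
      rcases h3 with h3 | h3
      · omega
      · rw [← h2] at h3; simp at h3
  set C := Subgroup.zpowers a with hCdef
  have hCS : C ≤ (S : Subgroup H) := Subgroup.zpowers_le.2 haS
  have hC8 : Nat.card C = 8 := by rw [hCdef, Nat.card_zpowers, ho]
  have hS16 : Nat.card (S : Subgroup H) = 16 := by
    rw [Sylow.card_eq_multiplicity, ← hcard0, Nat.card_congr (Subgroup.subgroupOfEquivOfLe hYH).toEquiv, hcardY]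
  refine group_isSimple_of_isPGroup S (fun hbot => ?_) (fun T hT => ?_) ?_
  · rw [hbot, Subgroup.card_bot] at hS16
    norm_num at hS16
  · obtain ⟨hTS, hcl⟩ := (group_stronglyClosed_iff S).1 hT
    rcases eq_or_ne T ⊥ with hb | hb
    · exact Or.inl hb
    right
    haveI : Group.IsNilpotent (S : Subgroup H) := S.2.isNilpotent
    haveI : (T.subgroupOf (S : Subgroup H)).Normal := ⟨fun a ha s =>
      hcl s a ha ((S : Subgroup H).mul_mem ((S : Subgroup H).mul_mem s.2 (hTS ha))
        ((S : Subgroup H).inv_mem s.2))⟩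
    have hne : T.subgroupOf (S : Subgroup H) ≠ ⊥ := by
      rw [Ne, Subgroup.subgroupOf_eq_bot]
      exact fun h => hb (disjoint_self.1 (h.mono_right hTS))
    obtain ⟨⟨w, hwT, hwc⟩, hw1⟩ :=
      Subgroup.ne_bot_iff_exists_ne_one.1 (SolvStruct.inf_center_ne_bot hne)
    have hzT : permOf (s11Elts.getD z11 ((0, 0) : Elt)) ∈ T.map f := by
      rcases centre_eq hS hz ((hSY _).1 w.2) fun g hg => by
        obtain ⟨y, hy⟩ := hex (hYH (Subgroup.subset_closure ⟨g, hg, rfl⟩))
        have hyS : y ∈ (S : Subgroup H) := (hSY y).2 (hy ▸ Subgroup.subset_closure ⟨g, hg, rfl⟩)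
        rw [← hy, ← map_mul, ← map_mul]
        exact congrArg f (congrArg Subtype.val (Subgroup.mem_center_iff.1 hwc ⟨y, hyS⟩)) with h | h
      · exact absurd (Subtype.ext (Subtype.ext (hinj (h.trans (map_one f).symm)))) hw1
      · exact ⟨_, hwT, h⟩
    have hgT : ∀ g ∈ s11Gens, permOf g ∈ (T.map f : Set Pm) := by
      refine steps_mem hS (fun a ha b hb => mul_mem ha hb) (fun g hg x hx hgx => ?_) w11 [z11] steps11
        fun k hk => ?_
      · obtain ⟨g', rfl⟩ := hex (hH.symm ▸ hg)
        obtain ⟨x', hx', rfl⟩ := hx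
        rw [← map_inv, ← map_mul, ← map_mul] at hgx ⊢
        exact ⟨_, hcl g' x' hx' ((hSY _).2 hgx), rfl⟩
      · rw [List.mem_singleton.1 hk]
        exact ⟨hzn, hzT⟩
    refine le_antisymm hTS fun x hx => ?_
    have hle : Y ≤ T.map f := by
      rw [hY, Subgroup.closure_le]
      rintro _ ⟨g, hg, rfl⟩
      exact hgT g hg
    obtain ⟨y, hy, hye⟩ := hle ((hSY x).1 hx)
    exact hinj hye ▸ hy
  · refine isPGroup_autInducedBy_of_cyclic' S.2 hCS (by omega) (fun x hx hxC he => ?_) fun x hx y hy hxC hyC => ?_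
    · obtain ⟨k, hk, hkx⟩ := hS.mem_list _ ((hSY x).1 hx)
      have h1 := allBelow_spec _ _ hsq k hk
      simp only [Bool.and_eq_true, Bool.or_eq_true, Nat.beq_eq, Nat.blt_eq, List.any_eq_true] at h1
      obtain ⟨⟨hs, hs2⟩, hor⟩ := h1
      rcases hor with h4 | ⟨i, hi, rfl⟩
      · have hv := hS.valid k hk
        have hv2 := hS.valid _ hs
        have e2 : f (x ^ 2) = permOf (s11Elts.getD (sq11.getD k 0) (0, 0)) := by
          rw [pow_two, map_mul, hkx, permOf_mul_eq hv hv hv2 hs2]
        have h2 := allBelow_spec _ _ hsq _ hs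
        simp only [Bool.and_eq_true, Bool.or_eq_true, Nat.beq_eq, Nat.blt_eq] at h2
        have e4 : f (x ^ 4) = 1 := by
          rw [show 4 = 2 + 2 from rfl, pow_add, map_mul, e2,
            permOf_mul_eq hv2 hv2 (hS.valid _ h2.1.1) h2.1.2, h4]
          exact hid
        have h3 : x ^ 4 = 1 := hinj (e4.trans (map_one f).symm)
        have := Nat.le_of_dvd (by norm_num) (orderOf_dvd_of_pow_eq_one h3)
        omega
      · obtain ⟨j, hj, hje⟩ := List.getElem_of_mem hi
        have hj8 : j < 8 := hj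
        refine hxC ?_
        rw [show x = a ^ j from hinj (hkx.trans (by
          rw [hpow j (by omega), Nat.mod_eq_of_lt hj8, List.getD_eq_getElem cyc11 0 hj, hje]))]
        exact Subgroup.pow_mem _ (Subgroup.mem_zpowers a) j
    · have hidx : (C.subgroupOf (S : Subgroup H)).index = 2 := by
        have h := Subgroup.card_mul_index (C.subgroupOf (S : Subgroup H))
        rw [Nat.card_congr (Subgroup.subgroupOfEquivOfLe hCS).toEquiv, hC8, hS16] at h
        omega
      exact (Subgroup.mul_mem_iff_of_index_two hidx (a := ⟨x, hx⟩) (b := ⟨y, hy⟩)).2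
        (iff_of_false hxC hyC)

end Cfsg.Agent.Golay.Fus
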