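import Cfsg.Agent.Lib.Golay.Fusion
import Cfsg.Agent.Lib.Golay.Constrained

/-! Certificates for the 2-fusion systems of M₁₂, M₂₂, M₂₃ and M₂₄. -/

set_option autoImplicit false
set_option maxRecDepth 20000

namespace Cfsg.Agent.Golay.Fus

open Cfsg Cfsg.Agent.PermCert Cfsg.Agent.Golay.SB Cfsg.Agent.Golay.Cert

theorem table12 : tableOK 64 s12Elts s12Gens s12Next s12Back = true := by decide +kernel

theorem table22 : tableOK 128 s22Elts s22Gens s22Next s22Back = true := by decide +kernel

theorem spec12 : SylSpec 64 (fun i => s12Elts.getD i (0, 0)) s12Gens :=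
  sylSpec_of_table (by norm_num) table12

theorem spec22 : SylSpec 128 (fun i => s22Elts.getD i (0, 0)) s22Gens :=
  sylSpec_of_table (by norm_num) table22

theorem spec24 : SylSpec 1024 sylElt sylGens where
  valid _ hi := (sylElt_spec hi).1
  gvalid _ hg := (sylGens_spec hg).1
  mem_list _ hσ := sylS_mem_list hσ
  list_mem := list_mem_sylS
  inj := by
    classical
    intro i hi j hj e
    let f : Fin 1024 → sylS := fun k => ⟨_, list_mem_sylS k k.2⟩
    have hs : Function.Surjective f := fun σ => by
      obtain ⟨k, hk, hσ⟩ := sylS_mem_list σ.2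
      exact ⟨⟨k, hk⟩, Subtype.ext hσ.symm⟩
    have hb := (Nat.bijective_iff_surjective_and_card f).2 ⟨hs, by rw [card_sylS, Nat.card_fin]⟩
    exact congrArg Fin.val (@hb.1 ⟨i, hi⟩ ⟨j, hj⟩ (Subtype.ext e))

theorem sel12 : (List.range 64).filter (fun k => selB 1 (s12Elts.getD k (0, 0))) = j12 := by
  decide +kernel

theorem sel22 : (List.range 128).filter (fun k => selB 1 (s22Elts.getD k (0, 0))) = j22 := by
  decide +kernel

theorem sel24 : (List.range 1024).filter (fun k => selB 1 (sylElt k)) = j24 := by
  decide +kernel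

theorem cert12 : certOK 64 (fun i => s12Elts.getD i (0, 0)) s12Gens m12Inv j12 z12 w12 ops12 = true := by
  decide +kernel

theorem cert22 : certOK 128 (fun i => s22Elts.getD i (0, 0)) s22Gens m22Inv j22 z22 w22 ops22 = true := by
  decide +kernel

theorem cert23 : certOK 128 (fun i => s22Elts.getD i (0, 0)) s22Gens m23Inv j22 z23 w23 ops23 = true := by
  decide +kernel

theorem cert24 : certOK 1024 sylElt sylGens [] j24 z24 w24 ops24 = true := by
  decide +kernel

theorem factorization_two (a b : ℕ) (hb : ¬ 2 ∣ b) : (2 ^ a * b).factorization 2 = a := by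
  rw [Nat.factorization_mul (by positivity) (by omega), Finsupp.add_apply,
    Nat.Prime.factorization_pow Nat.prime_two, Finsupp.single_eq_same,
    Nat.factorization_eq_zero_of_not_dvd hb]
  rfl

end Cfsg.Agent.Golay.Fus
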