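import Cfsg.Agent.Lib.Golay.M24

/-! Setwise stabilisers of two or three points in the group of the code are maximal. -/

namespace Cfsg.Agent.Golay.SetStab

open Cfsg
open scoped Pointwise

variable {A B C A' B' C' s u v : Finset GolayPt}

theorem exists_map_list {l l' : List GolayPt} (hl : l.Nodup) (hl' : l'.Nodup) (hlen : l.length = l'.length)
    (h5 : l.length ≤ 5) : ∃ g : M24, l.map (fun p => g • p) = l' := by
  have := isMultiplyPretransitive_M24
  have := MulAction.isMultiplyPretransitive_of_le (G := M24) (α := GolayPt) (n := 5) h5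
    (by rw [Nat.card_congr ptEquiv, Nat.card_fin]; norm_num)
  let x : Fin l.length ↪ GolayPt := ⟨fun i => l[i], fun i j e => Fin.ext (hl.getElem_inj_iff.mp e)⟩
  let y : Fin l.length ↪ GolayPt :=
    ⟨fun i => l'[(i : ℕ)]'(hlen ▸ i.2), fun i j e => Fin.ext (hl'.getElem_inj_iff.mp e)⟩
  obtain ⟨g, hg⟩ := MulAction.exists_smul_eq M24 x y
  refine ⟨g, List.ext_getElem (by simp [hlen]) fun i h₁ h₂ => ?_⟩
  have hi : i < l.length := by simpa using h₁
  rw [List.getElem_map]
  exact congrArg (fun f : Fin l.length ↪ GolayPt => f ⟨i, hi⟩) hg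

theorem exists_map_sets (hAB : Disjoint A B) (hAC : Disjoint A C) (hBC : Disjoint B C) (hAB' : Disjoint A' B')
    (hAC' : Disjoint A' C') (hBC' : Disjoint B' C') (hA : A.card = A'.card) (hB : B.card = B'.card)
    (hC : C.card = C'.card) (h5 : A.card + B.card + C.card ≤ 5) :
    ∃ g : M24, g • A = A' ∧ g • B = B' ∧ g • C = C' := by
  have nd : ∀ {A B C : Finset GolayPt}, Disjoint A B → Disjoint A C → Disjoint B C →
      (A.toList ++ (B.toList ++ C.toList)).Nodup := fun {A B C} hAB hAC hBC => by
    refine List.nodup_append.mpr ⟨A.nodup_toList, List.nodup_append.mpr ⟨B.nodup_toList, C.nodup_toList, ?_⟩, ?_⟩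
    · intro a ha b hb
      rw [Finset.mem_toList] at ha hb
      exact fun e => Finset.disjoint_left.mp hBC ha (e ▸ hb)
    · intro a ha b hb
      rw [Finset.mem_toList] at ha
      rw [List.mem_append, Finset.mem_toList, Finset.mem_toList] at hb
      rintro rfl
      rcases hb with hb | hb
      exacts [Finset.disjoint_left.mp hAB ha hb, Finset.disjoint_left.mp hAC ha hb]
  obtain ⟨g, hg⟩ := exists_map_list (nd hAB hAC hBC) (nd hAB' hAC' hBC') (by simp [hA, hB, hC]) (by simp; omega)
  rw [List.map_append, List.map_append] at hg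
  obtain ⟨e1, e23⟩ := List.append_inj hg (by simp [hA])
  obtain ⟨e2, e3⟩ := List.append_inj e23 (by simp [hB])
  have conv : ∀ {A A' : Finset GolayPt}, A.toList.map (fun p => g • p) = A'.toList → g • A = A' := fun {A A'} e => by
    ext p
    rw [Finset.mem_smul_finset, ← Finset.mem_toList (s := A'), ← e]
    simp
  exact ⟨g, conv e1, conv e2, conv e3⟩

theorem inter_card_smul (g : M24) (s t : Finset GolayPt) : (g • s ∩ g • t).card = (s ∩ t).card := by
  rw [← Finset.smul_finset_inter, Finset.card_smul_finset]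

theorem exists_map_meet (hu : u.card = s.card) (hv : v.card = s.card) (h : (u ∩ s).card = (v ∩ s).card)
    (h5 : 2 * s.card ≤ 5 + (u ∩ s).card) : ∃ g : M24, g • s = s ∧ g • u = v := by
  have dj : ∀ w : Finset GolayPt, Disjoint (w ∩ s) (s \ w) ∧ Disjoint (w ∩ s) (w \ s) ∧ Disjoint (s \ w) (w \ s) := fun w => by
    refine ⟨?_, ?_, ?_⟩ <;> rw [Finset.disjoint_left] <;> intro p hp hp' <;>
      simp only [Finset.mem_inter, Finset.mem_sdiff] at hp hp' <;> tauto
  have c1 := fun w : Finset GolayPt => Finset.card_sdiff_add_card_inter s w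
  have c2 := fun w : Finset GolayPt => Finset.card_sdiff_add_card_inter w s
  obtain ⟨g, g1, g2, g3⟩ := exists_map_sets (dj u).1 (dj u).2.1 (dj u).2.2 (dj v).1 (dj v).2.1 (dj v).2.2 h
    (by have := c1 u; have := c1 v; rw [Finset.inter_comm s u, Finset.inter_comm s v] at *; omega)
    (by have := c2 u; have := c2 v; omega)
    (by have := c1 u; have := c2 u; rw [Finset.inter_comm s u] at *; omega)
  refine ⟨g, ?_, ?_⟩
  · conv_lhs => rw [← Finset.sdiff_union_inter s u, Finset.inter_comm s u, Finset.smul_finset_union, g1, g2,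
      Finset.inter_comm v s, Finset.sdiff_union_inter]
  · conv_lhs => rw [← Finset.sdiff_union_inter u s, Finset.smul_finset_union, g1, g3, Finset.sdiff_union_inter]

theorem exists_not_mem (t : Finset GolayPt) (ht : t.card < 24) : ∃ p, p ∉ t := by
  by_contra h
  push Not at h
  have h1 : (Finset.univ : Finset GolayPt).card ≤ t.card := Finset.card_le_card fun p _ => h p
  rw [Finset.card_univ, Fintype.card_congr ptEquiv, Fintype.card_fin] at h1
  omega

theorem isCoatom_setStab (s : Finset GolayPt) (h2 : 2 ≤ s.card) (h3 : s.card ≤ 3) :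
    IsCoatom (MulAction.stabilizer M24 s) := by
  refine ⟨?_, fun K hK => ?_⟩
  · intro htop
    obtain ⟨a, ha⟩ := Finset.card_pos.mp (show 0 < s.card by omega)
    obtain ⟨b, hb⟩ := exists_not_mem s (by omega)
    obtain ⟨g, hg⟩ := exists_map_list (l := [a]) (l' := [b]) (by simp) (by simp) rfl (by simp)
    have hgs : g • s = s := by
      have : g ∈ MulAction.stabilizer M24 s := htop ▸ Subgroup.mem_top g
      exact this
    have : g • a ∈ g • s := Finset.smul_mem_smul_finset ha
    rw [hgs] at this
    simp at hg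
    exact hb (hg ▸ this)
  obtain ⟨k₀, hk₀, hk₀'⟩ := SetLike.exists_of_lt hK
  have hH : MulAction.stabilizer M24 s ≤ K := hK.le
  -- the orbit of `s` under `K`
  let O : Finset GolayPt → Prop := fun u => ∃ k ∈ K, k • s = u
  have hcard : ∀ {u}, O u → u.card = s.card := fun {u} ⟨k, _, e⟩ => by rw [← e, Finset.card_smul_finset]
  have hsame : ∀ {u v}, O u → v.card = s.card → (u ∩ s).card = (v ∩ s).card → 2 * s.card ≤ 5 + (u ∩ s).card → O v := by
    intro u v hu hv h h5
    obtain ⟨g, g1, g2⟩ := exists_map_meet (hcard hu) hv h h5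
    obtain ⟨k, hk, rfl⟩ := hu
    exact ⟨g * k, K.mul_mem (hH g1) hk, by rw [mul_smul, g2]⟩
  have hback : ∀ {u v}, O u → O v → ∃ w, O w ∧ (w ∩ s).card = (v ∩ u).card := by
    rintro u v ⟨k, hk, rfl⟩ ⟨k', hk', rfl⟩
    refine ⟨k⁻¹ • k' • s, ⟨k⁻¹ * k', K.mul_mem (K.inv_mem hk) hk', mul_smul _ _ _⟩, ?_⟩
    rw [← inter_card_smul k, smul_inv_smul]
  -- a member meeting `s`
  obtain ⟨u, hu, hus, hu1⟩ : ∃ u, O u ∧ u ≠ s ∧ 1 ≤ (u ∩ s).card := by
    have hne : k₀ • s ≠ s := fun e => hk₀' e
    by_cases h0 : 1 ≤ (k₀ • s ∩ s).card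
    · exact ⟨_, ⟨k₀, hk₀, rfl⟩, hne, h0⟩
    · set u := k₀ • s with hu
      have hd0 : u ∩ s = ∅ := Finset.card_eq_zero.mp (by omega)
      have hucard : u.card = s.card := Finset.card_smul_finset _ _
      obtain ⟨d, hd, e, he, hde⟩ := Finset.one_lt_card.mp (show 1 < u.card by omega)
      obtain ⟨f, hf⟩ := exists_not_mem (s ∪ u) ((Finset.card_union_le _ _).trans_lt (by omega))
      rw [Finset.mem_union, not_or] at hf
      have hds : d ∉ s := fun h => Finset.notMem_empty d (hd0 ▸ Finset.mem_inter.mpr ⟨hd, h⟩)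
      have hes : e ∉ s := fun h => Finset.notMem_empty e (hd0 ▸ Finset.mem_inter.mpr ⟨he, h⟩)
      obtain ⟨g, g1, g2, g3⟩ := exists_map_sets (A := s) (B := {d}) (C := {e}) (A' := s) (B' := {d}) (C' := {f})
        (by simpa using hds) (by simpa using hes) (by simpa using hde) (by simpa using hds) (by simpa using hf.1)
        (by simp only [Finset.disjoint_singleton_right, Finset.mem_singleton]; exact fun h => hf.2 (h ▸ hd))
        rfl rfl rfl (by simp; omega)
      have hdm : d ∈ g • u := by
        have : g • ({d} : Finset GolayPt) ⊆ g • u := Finset.smul_finset_subset_smul_finset (by simpa using hd)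
        exact this (by rw [g2]; exact Finset.mem_singleton_self d)
      have hfm : f ∈ g • u := by
        have : g • ({e} : Finset GolayPt) ⊆ g • u := Finset.smul_finset_subset_smul_finset (by simpa using he)
        exact this (by rw [g3]; exact Finset.mem_singleton_self f)
      have hgu : O (g • u) := ⟨g * k₀, K.mul_mem (hH g1) hk₀, mul_smul _ _ _⟩
      obtain ⟨w, hw, hwc⟩ := hback (u := u) (v := g • u) ⟨k₀, hk₀, rfl⟩ hgu
      refine ⟨w, hw, fun e' => ?_, hwc ▸ Finset.card_pos.mpr ⟨d, Finset.mem_inter.mpr ⟨hdm, hd⟩⟩⟩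
      rw [e', Finset.inter_self, ← hucard] at hwc
      have hgc : (g • u).card ≤ (g • u ∩ u).card := by rw [Finset.card_smul_finset]; exact hwc.le
      have hsub := Finset.eq_of_subset_of_card_le Finset.inter_subset_left hgc
      exact hf.2 (Finset.mem_inter.mp (hsub.symm ▸ hfm : f ∈ g • u ∩ u)).2
  -- a member meeting `s` in all but one point
  obtain ⟨w, hw, hwc⟩ : ∃ w, O w ∧ (w ∩ s).card + 1 = s.card := by
    obtain ⟨e, he, hes⟩ := Finset.not_subset.mp fun h => hus (Finset.eq_of_subset_of_card_le h (hcard hu).ge)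
    obtain ⟨f, hf⟩ := exists_not_mem (s ∪ u) ((Finset.card_union_le _ _).trans_lt (by have := hcard hu; omega))
    rw [Finset.mem_union, not_or] at hf
    set u' := insert f (u.erase e) with hu'
    have hc' : u'.card = s.card := by
      rw [Finset.card_insert_of_notMem (fun h => hf.2 (Finset.mem_of_mem_erase h)), Finset.card_erase_of_mem he,
        hcard hu]
      omega
    have hu'O : O u' := hsame hu hc' (by
      congr 1; ext p
      simp only [hu', Finset.mem_inter, Finset.mem_insert, Finset.mem_erase]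
      constructor
      · exact fun h => ⟨Or.inr ⟨fun e' => hes (e' ▸ h.2), h.1⟩, h.2⟩
      · rintro ⟨rfl | h, h2⟩
        exacts [absurd h2 hf.1, ⟨h.2, h2⟩]) (by omega)
    obtain ⟨w, hw, hwc⟩ := hback hu hu'O
    refine ⟨w, hw, ?_⟩
    rw [hwc, show u' ∩ u = u.erase e by
      rw [hu', Finset.insert_inter_of_notMem hf.2, Finset.inter_eq_left.mpr (Finset.erase_subset _ _)],
      Finset.card_erase_of_mem he, hcard hu]
    omega
  -- everything
  have hall : ∀ n v, v.card = s.card → s.card - (v ∩ s).card = n → O v := by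
    intro n
    induction n with
    | zero =>
      intro v hv hn
      have hsub : v ⊆ s := Finset.inter_eq_left.mp (Finset.eq_of_subset_of_card_le Finset.inter_subset_left (by omega))
      exact ⟨1, K.one_mem, by rw [one_smul]; exact (Finset.eq_of_subset_of_card_le hsub hv.ge).symm⟩
    | succ n ih =>
      intro v hv hn
      obtain ⟨x, hxs, hxv⟩ := Finset.not_subset.mp fun h : s ⊆ v => by
        rw [Finset.inter_eq_right.mpr h] at hn; omega
      obtain ⟨d, hdv, hds⟩ := Finset.not_subset.mp fun h : v ⊆ s => by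
        rw [Finset.inter_eq_left.mpr h] at hn; omega
      set v' := insert x (v.erase d) with hv'
      have hc' : v'.card = s.card := by
        rw [Finset.card_insert_of_notMem (fun h => hxv (Finset.mem_of_mem_erase h)),
          Finset.card_erase_of_mem hdv, hv]
        omega
      have hi : v' ∩ s = insert x (v ∩ s) := by
        ext p
        simp only [hv', Finset.mem_inter, Finset.mem_insert, Finset.mem_erase]
        constructor
        · rintro ⟨rfl | h, h2⟩
          exacts [Or.inl rfl, Or.inr ⟨h.2, h2⟩]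
        · rintro (rfl | ⟨h, h2⟩)
          exacts [⟨Or.inl rfl, hxs⟩, ⟨Or.inr ⟨fun e => hds (e ▸ h2), h⟩, h2⟩]
      obtain ⟨k, hk, hks⟩ := ih v' hc' (by
        rw [hi, Finset.card_insert_of_notMem (fun h => hxv (Finset.mem_of_mem_inter_left h))]; omega)
      have hm : (k⁻¹ • v ∩ s).card + 1 = s.card := by
        rw [← inter_card_smul k, smul_inv_smul, hks]
        rw [show v ∩ v' = v.erase d by
          rw [hv', Finset.inter_comm, Finset.insert_inter_of_notMem hxv,
            Finset.inter_eq_left.mpr (Finset.erase_subset _ _)], Finset.card_erase_of_mem hdv, hv]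
        omega
      obtain ⟨k', hk', e'⟩ := hsame hw (v := k⁻¹ • v) (by rw [Finset.card_smul_finset, hv]) (by omega) (by omega)
      exact ⟨k * k', K.mul_mem hk hk', by rw [mul_smul, e', smul_inv_smul]⟩
  rw [eq_top_iff]
  intro g _
  obtain ⟨k, hk, e⟩ := hall _ (g • s) (Finset.card_smul_finset _ _) rfl
  have : k⁻¹ * g ∈ MulAction.stabilizer M24 s := by
    rw [MulAction.mem_stabilizer_iff, mul_smul, ← e, inv_smul_smul]
  have := K.mul_mem hk (hH this)
  rwa [mul_inv_cancel_left] at this

end Cfsg.Agent.Golay.SetStab
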