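import Cfsg.Agent.Lib.Golay.Local.M23Index253
import Cfsg.Agent.Lib.Golay.SetStab

/-! Subgroups of index 276 in the group of the code. -/

namespace Cfsg.Agent.Golay.Index276

open Cfsg Cfsg.Agent.Golay Cfsg.Agent.Golay.Local
open scoped Pointwise

theorem card_pts : Fintype.card GolayPt = 24 := by
  rw [Fintype.card_congr ptEquiv, Fintype.card_fin]

theorem modEq_fixed {q : ℕ} [hq : Fact q.Prime] {x : M24} (hx : x ^ q = 1) {s : Finset GolayPt}
    (hs : ∀ p, x • p ∈ s ↔ p ∈ s) : s.card ≡ (s.filter fun p => x • p = p).card [MOD q] := by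
  let σ : Equiv.Perm {p // p ∈ s} := (MulAction.toPerm x : Equiv.Perm GolayPt).subtypePerm hs
  have hσ : σ ^ q ^ 1 = 1 := by
    rw [pow_one]
    have hpow : ∀ (n : ℕ) z, ((σ ^ n) z).val = x ^ n • z.val := by
      intro n
      induction n with
      | zero => intro z; simp
      | succ n ih =>
        intro z
        rw [pow_succ', pow_succ', Equiv.Perm.mul_apply, mul_smul, ← ih]
        rfl
    exact Equiv.ext fun z => Subtype.ext (by rw [hpow, hx, one_smul]; rfl)
  have h := (Equiv.Perm.card_compl_support_modEq hσ).symm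
  rw [Fintype.card_coe] at h
  convert h using 1
  rw [← Finset.card_map (f := Function.Embedding.subtype _) (s := σ.supportᶜ)]
  congr 1
  ext p
  simp only [Finset.mem_filter, Finset.mem_map, Finset.mem_compl, Equiv.Perm.mem_support, not_not]
  constructor
  · rintro ⟨hp, e⟩
    exact ⟨⟨p, hp⟩, Subtype.ext e, rfl⟩
  · rintro ⟨⟨r, hr⟩, e, rfl⟩
    exact ⟨hr, congrArg Subtype.val e⟩

theorem fixed_le_three {q : ℕ} {x : M24} (hx : orderOf x = q) (hq : ¬ q ∣ 960) :
    (Finset.univ.filter fun p : GolayPt => x • p = p).card ≤ 3 := by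
  by_contra h
  push Not at h
  obtain ⟨t, ht, hc⟩ := Finset.exists_subset_card_eq (n := 4)
    (s := Finset.univ.filter fun p : GolayPt => x • p = p) h
  obtain ⟨a, b, c, d, hab, hac, had, hbc, hbd, hcd, rfl⟩ := Finset.card_eq_four.1 hc
  have hf : ∀ p ∈ ({a, b, c, d} : Finset GolayPt), x • p = p := fun p hp => (Finset.mem_filter.1 (ht hp)).2
  have hm : x ∈ MulAction.stabilizer M24 a ⊓ MulAction.stabilizer M24 b ⊓ MulAction.stabilizer M24 c ⊓
      MulAction.stabilizer M24 d :=
    ⟨⟨⟨hf a (by simp), hf b (by simp)⟩, hf c (by simp)⟩, hf d (by simp)⟩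
  have hd' := Subgroup.orderOf_dvd_natCard _ hm
  rw [card_four_stab hab hac hbc had hbd hcd, hx] at hd'
  exact hq hd'

/-- The number of fixed points of an element of order eleven or seven. -/
theorem fixed_card {q : ℕ} [hq : Fact q.Prime] {x : M24} (hx : orderOf x = q) (h : q = 11 ∨ q = 7) :
    (Finset.univ.filter fun p : GolayPt => x • p = p).card = 24 % q := by
  have h1 := modEq_fixed (q := q) (x := x) (by rw [← hx, pow_orderOf_eq_one]) (s := Finset.univ) (by simp)
  rw [Finset.card_univ, card_pts, Nat.ModEq] at h1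
  have h3 := fixed_le_three hx (by rcases h with rfl | rfl <;> norm_num)
  rcases h with rfl | rfl <;> omega

theorem orbit_mod {L : Subgroup M24} {q : ℕ} [hq : Fact q.Prime] {x : M24} (hxL : x ∈ L) (hx : x ^ q = 1)
    (p : GolayPt) : (MulAction.orbit L p).ncard ≡
      {r | r ∈ MulAction.orbit L p ∧ x • r = r}.ncard [MOD q] := by
  classical
  have hs : ∀ r, x • r ∈ (MulAction.orbit L p).toFinset ↔ r ∈ (MulAction.orbit L p).toFinset := fun r => by
    simp only [Set.mem_toFinset]
    constructor
    · intro h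
      have := MulAction.mem_orbit_of_mem_orbit (⟨x, hxL⟩⁻¹ : L) h
      rwa [show (⟨x, hxL⟩⁻¹ : L) • (x • r) = r from inv_smul_smul x r] at this
    · exact fun h => MulAction.mem_orbit_of_mem_orbit (⟨x, hxL⟩ : L) h
  have h := modEq_fixed hx hs
  rw [← Set.ncard_eq_toFinset_card'] at h
  convert h using 1
  rw [← Set.ncard_coe_finset]
  congr 1
  ext r
  simp [and_comm]

theorem size_cases : ∀ n : ℕ, n ≤ 24 → 887040 % n = 0 → n % 11 ≤ 2 → n % 7 ≤ 3 →
    n = 1 ∨ n = 2 ∨ n = 22 ∨ n = 24 := fun n h hd h11 h7 => by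
  interval_cases n <;> omega

theorem stab_size_cases : ∀ n : ℕ, n ≤ 23 → 36960 % n = 0 → n % 11 ≤ 1 → n % 7 ≤ 2 → n = 1 ∨ n = 22 := by decide

theorem index276 {H : Subgroup M24} (hH : H.index = 276) :
    ∃ s : Finset GolayPt, s.card = 2 ∧ H = MulAction.stabilizer M24 s := by
  classical
  haveI : Fact (Nat.Prime 11) := ⟨by norm_num⟩
  haveI : Fact (Nat.Prime 7) := ⟨by norm_num⟩
  have hc := H.card_mul_index
  rw [hH, card_M24] at hc
  have hcard : Nat.card H = 887040 := by omega
  have elt : ∀ {L : Subgroup M24} (q : ℕ) [Fact q.Prime], q ∣ Nat.card L → ∃ x ∈ L, orderOf x = q := by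
    intro L q _ hq
    obtain ⟨⟨x, hxL⟩, hx⟩ := exists_prime_orderOf_dvd_card' (G := L) q hq
    exact ⟨x, hxL, (Subgroup.orderOf_mk x hxL).symm.trans hx⟩
  obtain ⟨c, hcH, hc11⟩ := elt (L := H) 11 (by rw [hcard]; norm_num)
  obtain ⟨d, hdH, hd7⟩ := elt (L := H) 7 (by rw [hcard]; norm_num)
  have bound : ∀ {L : Subgroup M24} {q : ℕ} [Fact q.Prime] {x : M24}, x ∈ L → orderOf x = q → (q = 11 ∨ q = 7) →
      ∀ p (F : Finset GolayPt), (∀ r ∈ MulAction.orbit L p, r ∉ F) → (∀ r ∈ F, x • r = r) →
        (MulAction.orbit L p).ncard % q ≤ 24 % q - F.card := by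
    intro L q _ x hxL hx h p F hF hFx
    have h1 := orbit_mod (q := q) hxL (by rw [← hx, pow_orderOf_eq_one]) p
    have h2 : {r | r ∈ MulAction.orbit L p ∧ x • r = r}.ncard + F.card ≤ 24 % q := by
      rw [← Set.ncard_coe_finset, ← Set.ncard_union_eq, ← fixed_card hx h, ← Set.ncard_coe_finset]
      · refine Set.ncard_le_ncard ?_
        rintro r (⟨-, hr⟩ | hr)
        · simpa using hr
        · simpa using hFx r hr
      · rw [Set.disjoint_left]
        exact fun r hr hr' => hF r hr.1 hr'
    rw [Nat.ModEq] at h1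
    rw [h1]
    exact (Nat.mod_le _ _).trans (by omega)
  have size : ∀ p : GolayPt, (MulAction.orbit H p).ncard = 1 ∨ (MulAction.orbit H p).ncard = 2 ∨ (MulAction.orbit H p).ncard = 22 ∨
      (MulAction.orbit H p).ncard = 24 := by
    intro p
    have hd : (MulAction.orbit H p).ncard ∣ 887040 := by
      rw [← hcard, ← MulAction.index_stabilizer]; exact Subgroup.index_dvd_card _
    have hle : (MulAction.orbit H p).ncard ≤ 24 := by
      rw [← card_pts, ← Nat.card_eq_fintype_card, ← Set.ncard_univ]; exact Set.ncard_le_ncard (Set.subset_univ _)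
    have h11 := bound hcH hc11 (Or.inl rfl) p ∅ (by simp) (by simp)
    have h7 := bound hdH hd7 (Or.inr rfl) p ∅ (by simp) (by simp)
    exact size_cases _ hle (Nat.mod_eq_zero_of_dvd hd) h11 h7
  by_cases htr : ∃ p : GolayPt, (MulAction.orbit H p).ncard = 24
  swap
  · obtain ⟨p, hp⟩ : ∃ p : GolayPt, (MulAction.orbit H p).ncard = 22 := by
      by_contra h
      push Not at h htr
      have h11 := fixed_card hc11 (Or.inl rfl)
      have hall : ∀ p : GolayPt, c • p = p := by
        intro p
        have hsz : (MulAction.orbit H p).ncard ≤ 2 := by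
          have := size p
          have := h p; have := htr p
          omega
        by_contra hne
        have h1 := orbit_mod (q := 11) hcH (by rw [← hc11, pow_orderOf_eq_one]) p
        rw [Nat.ModEq, Nat.mod_eq_of_lt (by omega)] at h1
        have hlt : {r | r ∈ MulAction.orbit H p ∧ c • r = r}.ncard < (MulAction.orbit H p).ncard :=
          Set.ncard_lt_ncard ⟨fun r hr => hr.1, fun hsub => hne (hsub (MulAction.mem_orbit_self p)).2⟩
        rw [Nat.mod_eq_of_lt (by omega)] at h1
        omega
      rw [Finset.filter_true_of_mem (fun p _ => hall p), Finset.card_univ, card_pts] at h11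
      norm_num at h11
    have hs2 : ((MulAction.orbit H p).toFinsetᶜ).card = 2 := by
      rw [Finset.card_compl, ← Set.ncard_eq_toFinset_card', hp, card_pts]
    refine ⟨_, hs2, ?_⟩
    set s := (MulAction.orbit H p).toFinsetᶜ with hs
    have hle : H ≤ MulAction.stabilizer M24 s := fun h hh => by
      rw [MulAction.mem_stabilizer_iff]
      refine Finset.eq_of_subset_of_card_le (fun z hz => ?_) (by rw [Finset.card_smul_finset])
      obtain ⟨w, hw, rfl⟩ := Finset.mem_smul_finset.1 hz
      simp only [hs, Finset.mem_compl, Set.mem_toFinset] at hw ⊢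
      refine fun hc => hw ?_
      have := MulAction.mem_orbit_of_mem_orbit (⟨h, hh⟩⁻¹ : H) hc
      rwa [show (⟨h, hh⟩⁻¹ : H) • (h • w) = w from inv_smul_smul h w] at this
    refine Subgroup.eq_of_le_of_card_ge hle ?_
    have horb : MulAction.orbit M24 s = ((Finset.univ : Finset GolayPt).powersetCard 2 : Finset (Finset GolayPt)) := by
      ext t
      rw [Finset.mem_coe, Finset.mem_powersetCard]
      constructor
      · rintro ⟨g, rfl⟩
        exact ⟨Finset.subset_univ _, by rw [Finset.card_smul_finset, hs2]⟩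
      · rintro ⟨-, ht⟩
        obtain ⟨g, hg, -, -⟩ := SetStab.exists_map_sets (A := s) (B := ∅) (C := ∅) (A' := t) (B' := ∅) (C' := ∅)
          (by simp) (by simp) (by simp) (by simp) (by simp) (by simp) (by rw [hs2, ht]) rfl rfl
          (by simp [hs2])
        exact ⟨g, hg⟩
    have h1 := Subgroup.index_mul_card (MulAction.stabilizer M24 s)
    rw [MulAction.index_stabilizer, horb, Set.ncard_coe_finset, Finset.card_powersetCard, Finset.card_univ,
      card_pts, card_M24] at h1
    rw [show Nat.choose 24 2 = 276 from rfl] at h1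
    omega
  · exfalso
    obtain ⟨p0, hp0⟩ := htr
    have htrans : ∀ p r : GolayPt, ∃ h ∈ H, h • p = r := by
      have : MulAction.orbit H p0 = Set.univ := Set.eq_of_subset_of_ncard_le (Set.subset_univ _)
        (by rw [hp0, Set.ncard_univ, Nat.card_eq_fintype_card, card_pts])
      intro p r
      obtain ⟨⟨a, ha⟩, ea⟩ := this.symm ▸ Set.mem_univ p
      obtain ⟨⟨b, hb⟩, eb⟩ := this.symm ▸ Set.mem_univ r
      refine ⟨b * a⁻¹, H.mul_mem hb (H.inv_mem ha), ?_⟩
      have ea' : a • p0 = p := ea
      rw [← ea', mul_smul, inv_smul_smul]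
      exact eb
    have hst : ∀ p : GolayPt, Nat.card ↥(H ⊓ MulAction.stabilizer M24 p) = 36960 := by
      intro p
      have horb : MulAction.orbit H p = Set.univ := Set.eq_univ_of_forall fun r => by
        obtain ⟨h, hh, e⟩ := htrans p r
        exact ⟨⟨h, hh⟩, e⟩
      have h1 := Subgroup.index_mul_card (MulAction.stabilizer H p)
      rw [MulAction.index_stabilizer, horb, Set.ncard_univ, Nat.card_eq_fintype_card, card_pts, hcard] at h1
      have e : Nat.card ↥(H ⊓ MulAction.stabilizer M24 p) = Nat.card (MulAction.stabilizer H p) :=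
        Nat.card_congr
          { toFun := fun g => ⟨⟨g.1, g.2.1⟩, g.2.2⟩
            invFun := fun g => ⟨g.1.1, g.1.2, g.2⟩
            left_inv := fun _ => rfl
            right_inv := fun _ => rfl }
      omega
    have uniq : ∀ p : GolayPt, ∃ q, q ≠ p ∧ (∀ h ∈ H, h • p = p → h • q = q) ∧
        ∀ q', q' ≠ p → (∀ h ∈ H, h • p = p → h • q' = q') → q' = q := by
      intro p
      set L := H ⊓ MulAction.stabilizer M24 p with hL
      obtain ⟨c', hc', hc'o⟩ := elt (L := L) 11 (by rw [hst]; norm_num)
      obtain ⟨d', hd', hd'o⟩ := elt (L := L) 7 (by rw [hst]; norm_num)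
      have hs : ∀ r, r ≠ p → (MulAction.orbit L r).ncard = 1 ∨ (MulAction.orbit L r).ncard = 22 := by
        intro r hr
        have hnot : ∀ z ∈ MulAction.orbit L r, z ∉ ({p} : Finset GolayPt) := by
          rintro _ ⟨⟨g, hg⟩, rfl⟩
          rw [Finset.mem_singleton]
          intro e
          exact hr (MulAction.injective (g : M24) (e.trans hg.2.symm))
        have h11 := bound hc' hc'o (Or.inl rfl) r {p} hnot (by simp; exact hc'.2)
        have h7 := bound hd' hd'o (Or.inr rfl) r {p} hnot (by simp; exact hd'.2)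
        have hd : (MulAction.orbit L r).ncard ∣ 36960 := by
          rw [← hst p, ← MulAction.index_stabilizer]; exact Subgroup.index_dvd_card _
        have hle : (MulAction.orbit L r).ncard ≤ 23 := by
          have := Set.ncard_le_ncard (s := MulAction.orbit L r) (t := ({p} : Set GolayPt)ᶜ)
            (fun z hz e => hnot z hz (by simpa using e))
          rw [Set.ncard_compl, Set.ncard_singleton, Nat.card_eq_fintype_card, card_pts] at this
          exact this
        rw [Finset.card_singleton] at h11 h7
        exact stab_size_cases _ hle (Nat.mod_eq_zero_of_dvd hd) h11 h7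
      have fixd : ∀ r, (MulAction.orbit L r).ncard = 1 → ∀ h ∈ H, h • p = p → h • r = r := fun r hr h hh hp => by
        obtain ⟨z, hz⟩ := Set.ncard_eq_one.1 hr
        have h1 : r ∈ ({z} : Set GolayPt) := hz ▸ MulAction.mem_orbit_self r
        have h2 : h • r ∈ ({z} : Set GolayPt) := hz ▸ (⟨⟨h, hh, hp⟩, rfl⟩ : h • r ∈ MulAction.orbit L r)
        rw [Set.mem_singleton_iff] at h1 h2
        rw [h2, h1]
      obtain ⟨q, hqp, hq1⟩ : ∃ q, q ≠ p ∧ (MulAction.orbit L q).ncard = 1 := by
        by_contra h
        push Not at h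
        obtain ⟨r, hr⟩ := SetStab.exists_not_mem {p} (by simp)
        rw [Finset.mem_singleton] at hr
        have h22 := (hs r hr).resolve_left (h r hr)
        obtain ⟨z, hz⟩ := SetStab.exists_not_mem (insert p (MulAction.orbit L r).toFinset)
          (lt_of_le_of_lt (Finset.card_insert_le _ _) (by rw [← Set.ncard_eq_toFinset_card', h22]; norm_num))
        simp only [Finset.mem_insert, Set.mem_toFinset, not_or] at hz
        have h22' := (hs z hz.1).resolve_left (h z hz.1)
        have hdis : Disjoint (MulAction.orbit L r) (MulAction.orbit L z) := by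
          rw [Set.disjoint_left]
          intro w hw hw'
          refine hz.2 ?_
          rw [← MulAction.orbit_eq_iff.2 hw, MulAction.orbit_eq_iff.2 hw']
          exact MulAction.mem_orbit_self z
        have h3 := Set.ncard_le_ncard (Set.subset_univ (MulAction.orbit L r ∪ MulAction.orbit L z))
        rw [Set.ncard_union_eq hdis, h22, h22', Set.ncard_univ, Nat.card_eq_fintype_card, card_pts] at h3
        omega
      refine ⟨q, hqp, fixd q hq1, fun q' hq'p hq' => ?_⟩
      by_contra hne
      have hsub : ({p, q, q'} : Finset GolayPt) ⊆ Finset.univ.filter fun z => c' • z = z := by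
        intro z hz
        simp only [Finset.mem_insert, Finset.mem_singleton] at hz
        rw [Finset.mem_filter]
        refine ⟨Finset.mem_univ _, ?_⟩
        rcases hz with rfl | rfl | rfl
        · exact hc'.2
        · exact fixd _ hq1 c' hc'.1 hc'.2
        · exact hq' c' hc'.1 hc'.2
      have := Finset.card_le_card hsub
      rw [fixed_card hc'o (Or.inl rfl), Finset.card_eq_three.2 ⟨p, q, q', hqp.symm, hq'p.symm, Ne.symm hne, rfl⟩]
        at this
      omega
    choose τ hτne hτfix hτuniq using uniq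
    have hττ : ∀ p, τ (τ p) = p := by
      intro p
      have heq : H ⊓ MulAction.stabilizer M24 p = H ⊓ MulAction.stabilizer M24 (τ p) :=
        Subgroup.eq_of_le_of_card_ge (fun h hh => ⟨hh.1, hτfix p h hh.1 hh.2⟩) (by rw [hst, hst])
      refine (hτuniq (τ p) p (hτne p).symm fun h hh e => ?_).symm
      have : h ∈ H ⊓ MulAction.stabilizer M24 p := heq.symm ▸ (⟨hh, e⟩ : h ∈ H ⊓ MulAction.stabilizer M24 (τ p))
      exact this.2
    have hcomm : ∀ h ∈ H, ∀ p, τ (h • p) = h • τ p := by
      intro h hh p
      refine (hτuniq (h • p) (h • τ p) (fun e => hτne p (MulAction.injective h e)) fun k hk e => ?_).symm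
      have h1 := hτfix p (h⁻¹ * k * h) (H.mul_mem (H.mul_mem (H.inv_mem hh) hk) hh)
        (by rw [mul_smul, mul_smul, e, inv_smul_smul])
      rw [mul_smul, mul_smul, inv_smul_eq_iff] at h1
      exact h1
    have h3 := fixed_card hd7 (Or.inr rfl)
    obtain ⟨a, b, e, hab, hae, hbe, hset⟩ := Finset.card_eq_three.1 h3
    have hmem : ∀ z, z ∈ ({a, b, e} : Finset GolayPt) → τ z ∈ ({a, b, e} : Finset GolayPt) := by
      intro z hz
      rw [← hset, Finset.mem_filter] at hz ⊢
      exact ⟨Finset.mem_univ _, by rw [← hcomm d hdH, hz.2]⟩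
    have ha := hmem a (by simp)
    have hb := hmem b (by simp)
    have he := hmem e (by simp)
    simp only [Finset.mem_insert, Finset.mem_singleton] at ha hb he
    have := hτne a; have := hτne b; have := hτne e
    have := hττ a; have := hττ b; have := hττ e
    grind

end Cfsg.Agent.Golay.Index276
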