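import Mathlib.GroupTheory.Index
import Mathlib.GroupTheory.GroupAction.Quotient
import Mathlib.Order.Atoms
import Mathlib.Tactic
import Mathlib.Data.Set.Card
import Mathlib.Data.Finset.Powerset

/-!
Maximality of a point stabiliser from its orbit sizes: a union of its orbits which is a block has
size dividing the degree.
-/

namespace Cfsg.Agent.Golay

/-- If the stabiliser of `x` is transitive on each fibre of `key` in the orbit of `x`, and no union
of fibres containing `x` has proper nontrivial size dividing the degree, it is maximal. -/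
theorem isCoatom_stabilizer_of_classes {G X : Type*} [Group G] [Finite G] [MulAction G X]
    (x : X) (key : X → ℕ) (keys : Finset ℕ) (size : ℕ → ℕ) (N : ℕ)
    (hN : (MulAction.orbit G x).ncard = N) (h1 : 1 < N)
    (hkey : ∀ y ∈ MulAction.orbit G x, key y ∈ keys)
    (hsize : ∀ k ∈ keys, {y | y ∈ MulAction.orbit G x ∧ key y = k}.ncard = size k)
    (htrans : ∀ y ∈ MulAction.orbit G x, ∀ z ∈ MulAction.orbit G x, key y = key z →
      ∃ h ∈ MulAction.stabilizer G x, h • y = z)
    (hdiv : ∀ S ∈ keys.powerset, key x ∈ S →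
      ∑ k ∈ S, size k = 1 ∨ ∑ k ∈ S, size k = N ∨ ¬ ∑ k ∈ S, size k ∣ N) :
    IsCoatom (MulAction.stabilizer G x) := by
  classical
  set H := MulAction.stabilizer G x with hH
  have hcardG : Nat.card G = Nat.card H * N := by
    rw [← hN, ← MulAction.index_stabilizer, Subgroup.card_mul_index]
  refine ⟨fun e => ?_, fun K hK => ?_⟩
  · have : Nat.card H = Nat.card G := by rw [e, Subgroup.card_top]
    have := Nat.card_pos (α := G)
    nlinarith
  obtain ⟨k0, hk0, hk0'⟩ := SetLike.exists_of_lt hK
  set O := MulAction.orbit K x with hO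
  have hsub : O ⊆ MulAction.orbit G x := by rintro _ ⟨k, rfl⟩; exact ⟨k.1, rfl⟩
  have hfin : (MulAction.orbit G x).Finite := Set.finite_range _
  have hOfin : O.Finite := hfin.subset hsub
  set S := hOfin.toFinset.image key with hS
  have hOmem : ∀ y, y ∈ hOfin.toFinset ↔ y ∈ O := fun y => Set.Finite.mem_toFinset _
  have hSsub : S ∈ keys.powerset := by
    rw [Finset.mem_powerset, hS, Finset.image_subset_iff]
    exact fun y hy => hkey y (hsub ((hOmem y).1 hy))
  have hxS : key x ∈ S :=
    Finset.mem_image.2 ⟨x, (hOmem x).2 (MulAction.mem_orbit_self x), rfl⟩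
  have hclosed : ∀ y ∈ MulAction.orbit G x, key y ∈ S → y ∈ O := by
    intro y hy hk
    obtain ⟨z, hz, hzy⟩ := Finset.mem_image.1 hk
    obtain ⟨h, hh, rfl⟩ := htrans z (hsub ((hOmem z).1 hz)) y hy hzy
    obtain ⟨k, rfl⟩ := (hOmem z).1 hz
    exact ⟨⟨h, hK.le hh⟩ * k, mul_smul _ _ _⟩
  have hcardO : O.ncard = ∑ k ∈ S, size k := by
    rw [Set.ncard_eq_toFinset_card O hOfin,
      Finset.card_eq_sum_card_fiberwise (f := key) (t := S)
        (fun y hy => Finset.mem_image_of_mem key hy)]
    refine Finset.sum_congr rfl fun k hk => ?_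
    rw [← hsize k (Finset.mem_powerset.1 hSsub hk), ← Set.ncard_coe_finset]
    congr 1
    ext y
    simp only [Finset.coe_filter, hOmem, Set.mem_ofPred_eq]
    exact ⟨fun h => ⟨hsub h.1, h.2⟩, fun h => ⟨hclosed y h.1 (h.2 ▸ hk), h.2⟩⟩
  have hcardK : Nat.card K = Nat.card H * O.ncard := by
    rw [← Subgroup.card_mul_index (MulAction.stabilizer K x), MulAction.index_stabilizer]
    congr 1
    exact Nat.card_congr
      { toFun := fun k => ⟨k.1.1, k.2⟩
        invFun := fun h => ⟨⟨h.1, hK.le h.2⟩, h.2⟩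
        left_inv := fun _ => rfl
        right_inv := fun _ => rfl }
  have hdvd : O.ncard ∣ N := by
    have hd := Subgroup.card_subgroup_dvd_card K
    rw [hcardK, hcardG] at hd
    exact Nat.dvd_of_mul_dvd_mul_left Nat.card_pos hd
  have hne : O.ncard ≠ 1 := by
    intro h
    apply hk0'
    obtain ⟨a, ha⟩ := Set.ncard_eq_one.1 h
    have h1 : (⟨k0, hk0⟩ : K) • x ∈ O := ⟨_, rfl⟩
    have h2 : x ∈ O := MulAction.mem_orbit_self x
    rw [ha, Set.mem_singleton_iff] at h1 h2
    exact MulAction.mem_stabilizer_iff.2 (h1.trans h2.symm)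
  rcases hdiv S hSsub hxS with h | h | h
  · exact absurd (hcardO.trans h) hne
  · refine Subgroup.eq_top_of_card_eq K ?_
    rw [hcardK, hcardO, h, hcardG]
  · exact absurd (hcardO ▸ hdvd) h

end Cfsg.Agent.Golay
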