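/-
No character of 2-defect zero in `M₂₂` and `M₂₄`.
-/
import Cfsg.Agent.Lib.Golay.PrimeNormalizer
import Cfsg.Agent.Lib.Golay.SingleBlockData
import Cfsg.Agent.Lib.Blocks.DefectZeroBound
import Cfsg.Agent.Lib.Blocks.Degree

set_option linter.unusedSectionVars false
set_option maxRecDepth 20000

namespace Cfsg.Agent.Golay.SB

open Cfsg Cfsg.Agent.PermCert Cfsg.Agent.Golay Cfsg.Agent.DefectZero Cfsg.Agent.Char
open scoped Classical ComplexConjugate

local notation "Pm" => Equiv.Perm GolayPt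

/-- Orbit data for an element of order 5. -/
def O5 : Orb := ⟨5, elt5, fix5, reps5, tbl5⟩

/-- Orbit data for an element of order 7. -/
def O7 : Orb := ⟨7, elt7, fix7, reps7, tbl7⟩

/-- Orbit data for an element of order 11. -/
def O11 : Orb := ⟨11, elt11, fix11, reps11, tbl11⟩

/-- Orbit data for an element of order 23. -/
def O23 : Orb := ⟨23, elt23, fix23, reps23, tbl23⟩

/-- An element of prime order with a bound on its normaliser. -/
structure Elem where
  O : Orb
  b : ℕ
  prime : O.p.Prime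
  ok : O.ok = true
  count : O.valid.length ≤ b
  aut : isAutB O.x = true

/-- The element of order 5. -/
def E5 : Elem :=
  ⟨O5, 2, (by norm_num [O5]), (by decide +kernel), (by decide +kernel), (by decide +kernel)⟩

/-- The element of order 7. -/
def E7 : Elem :=
  ⟨O7, 3, (by norm_num [O7]), (by decide +kernel), (by decide +kernel), (by decide +kernel)⟩

/-- The element of order 11. -/
def E11 : Elem :=
  ⟨O11, 5, (by norm_num [O11]), (by decide +kernel), (by decide +kernel), (by decide +kernel)⟩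

/-- The element of order 23. -/
def E23 : Elem :=
  ⟨O23, 11, (by norm_num [O23]), (by decide +kernel), (by decide +kernel), (by decide +kernel)⟩

variable {H : Subgroup Pm} [Fintype H]

theorem Elem.x_mem (E : Elem) : permOf E.O.x ∈ M24 :=
  permOf_mem_M24 (Orb.ok_valid E.ok) E.aut

theorem Elem.order (E : Elem) (hx : permOf E.O.x ∈ H) :
    Nat.card (Subgroup.zpowers (⟨_, hx⟩ : H)) = E.O.p := by
  rw [Nat.card_zpowers, ← Subgroup.orderOf_coe]
  exact Orb.orderOf_permOf E.ok E.prime

/-- The fixed points outside `B`. -/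
noncomputable def Elem.free (E : Elem) (B : Finset GolayPt) : Finset GolayPt := maskSet E.O.fix \ B

theorem Elem.le_index (E : Elem) (hH : H ≤ M24) (hx : permOf E.O.x ∈ H) (B : Finset GolayPt)
    (hB : ∀ σ ∈ H, ∀ q ∈ B, σ q = q) :
    Nat.card H ≤ (Subgroup.normalizer ((Subgroup.zpowers (⟨_, hx⟩ : H) : Subgroup H) : Set H)).index *
      ((E.free B).card.factorial * (E.O.p * E.b)) := by
  set x : H := ⟨_, hx⟩ with hxdef
  set N := Subgroup.normalizer ((Subgroup.zpowers x : Subgroup H) : Set H) with hN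
  set F := E.free B with hF
  have hconj : ∀ c : N, ∃ k, 0 < k ∧ k < E.O.p ∧
      ((c : H) : Pm) * permOf E.O.x * ((c : H) : Pm)⁻¹ = permOf E.O.x ^ k := by
    intro c
    obtain ⟨j, hj⟩ := (Subgroup.mem_normalizer_iff.1 c.2 x).1 (Subgroup.mem_zpowers x)
    simp only at hj
    have hj' : ((c : H) : Pm) * permOf E.O.x * ((c : H) : Pm)⁻¹ = permOf E.O.x ^ j := by
      have := congrArg (fun y : H => (y : Pm)) hj
      simpa [hxdef] using this.symm
    have hp : (0 : ℤ) < E.O.p := by exact_mod_cast E.prime.pos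
    have hred : permOf E.O.x ^ j = permOf E.O.x ^ (j % (E.O.p : ℤ)).toNat := by
      rw [← zpow_natCast, Int.toNat_of_nonneg (Int.emod_nonneg _ hp.ne'),
        ← Orb.orderOf_permOf E.ok E.prime, zpow_mod_orderOf]
    refine ⟨(j % (E.O.p : ℤ)).toNat, Nat.pos_of_ne_zero fun h0 => ?_, ?_, hj'.trans hred⟩
    · rw [hred, h0, pow_zero, mul_inv_eq_one] at hj'
      exact Orb.ok_ne E.ok (mul_eq_left.1 hj')
    · have := Int.emod_lt_of_pos j hp
      omega
  have hFmem : ∀ (c : N) (q : GolayPt), q ∈ F ↔ ((c : H) : Pm) q ∈ F := by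
    intro c q
    obtain ⟨k, hk0, hkp, hk⟩ := hconj c
    have hfix : permOf E.O.x q = q ↔
        permOf E.O.x (((c : H) : Pm) q) = ((c : H) : Pm) q := by
      have hpow : (permOf E.O.x ^ k) (((c : H) : Pm) q) = ((c : H) : Pm) (permOf E.O.x q) := by
        rw [← hk]; simp [Equiv.Perm.mul_apply]
      constructor
      · intro h
        rw [h] at hpow
        obtain ⟨m, -, hm⟩ := Nat.exists_mul_mod_eq_one_of_coprime
          ((E.prime.coprime_iff_not_dvd.2 (Nat.not_dvd_of_pos_of_lt hk0 hkp)).symm) E.prime.one_lt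
        have h1 : ((permOf E.O.x ^ k) ^ m) (((c : H) : Pm) q) = ((c : H) : Pm) q := by
          rw [Equiv.Perm.coe_pow]
          exact Function.IsFixedPt.iterate hpow m
        rwa [← pow_mul, pow_eq_pow_mod (k * m) (Orb.ok_pow E.ok), hm, pow_one] at h1
      · intro h
        have h1 : (permOf E.O.x ^ k) (((c : H) : Pm) q) = ((c : H) : Pm) q := by
          rw [Equiv.Perm.coe_pow]
          exact Function.IsFixedPt.iterate h k
        rw [hpow] at h1
        exact ((c : H) : Pm).injective h1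
    have hBq : q ∈ B ↔ ((c : H) : Pm) q ∈ B := ⟨fun h => by rw [hB _ (c : H).2 q h]; exact h,
      fun h => by rwa [((c : H) : Pm).injective (hB _ (c : H).2 _ h)] at h⟩
    simp only [hF, Elem.free, Finset.mem_sdiff, mem_maskSet, Orb.fix_iff E.ok, hfix, ← hBq]
  let φ : N →* Equiv.Perm {q // q ∈ F} :=
    { toFun := fun c => Equiv.subtypeEquiv ((c : H) : Pm) (hFmem c)
      map_one' := Equiv.ext fun q => Subtype.ext rfl
      map_mul' := fun a b => Equiv.ext fun q => Subtype.ext rfl }
  have hker : Nat.card φ.ker ≤ E.O.p * E.b := by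
    refine le_trans ?_ (Orb.ncard_nF_le E.ok E.prime E.x_mem E.count)
    rw [← Nat.card_coe_set_eq]
    refine Nat.card_le_card_of_injective (fun c : φ.ker => (⟨((c : N) : H),
      hH (c : N).1.2, fun q hq => ?_, hconj (c : N)⟩ : E.O.nF)) fun a b hab => ?_
    · by_cases hqB : q ∈ B
      · exact hB _ (c : N).1.2 q hqB
      · have hqF : q ∈ F := Finset.mem_sdiff.2 ⟨mem_maskSet.2 hq, hqB⟩
        exact congrArg Subtype.val (DFunLike.congr_fun (MonoidHom.mem_ker.1 c.2) ⟨q, hqF⟩)
    · exact Subtype.ext (Subtype.ext (Subtype.ext (congrArg (fun z : E.O.nF => (z : Pm)) hab)))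
  have hrange : Nat.card φ.range ≤ F.card.factorial := by
    refine (Subgroup.card_le_card_group _).trans (le_of_eq ?_)
    rw [Nat.card_eq_fintype_card, Fintype.card_perm, Fintype.card_coe]
  rw [← N.card_mul_index, mul_comm (Nat.card N)]
  refine Nat.mul_le_mul_left _ ?_
  rw [← φ.ker.card_mul_index, Subgroup.index_ker, mul_comm]
  exact Nat.mul_le_mul hrange hker

/-- The elements conjugate into the subgroup. -/
noncomputable def Elem.set (E : Elem) (hx : permOf E.O.x ∈ H) : Finset H :=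
  conjSet (Subgroup.zpowers (⟨_, hx⟩ : H))

theorem Elem.orderOf_of_mem (E : Elem) (hx : permOf E.O.x ∈ H) {y : H} (hy : y ∈ E.set hx) :
    orderOf y = E.O.p := by
  obtain ⟨h1, g, hg⟩ := mem_conjSet.1 hy
  have hd := orderOf_dvd_natCard (⟨_, hg⟩ : Subgroup.zpowers (⟨_, hx⟩ : H))
  rw [E.order hx, ← Subgroup.orderOf_coe] at hd
  have he : orderOf (g⁻¹ * y * g) = orderOf y := by
    conv_lhs => rw [show g⁻¹ * y * g = MulAut.conj g⁻¹ y by simp]
    exact MulEquiv.orderOf_eq _ _
  rw [he] at hd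
  exact ((Nat.dvd_prime E.prime).1 hd).resolve_left fun h => h1 (orderOf_eq_one_iff.1 h)

theorem Elem.disjoint (E E' : Elem) (hx : permOf E.O.x ∈ H) (hx' : permOf E'.O.x ∈ H)
    (h : E.O.p ≠ E'.O.p) : Disjoint (E.set hx) (E'.set hx') :=
  Finset.disjoint_left.2 fun _ hy hy' => h ((E.orderOf_of_mem hx hy).symm.trans
    (E'.orderOf_of_mem hx' hy'))

theorem Elem.one_notMem (E : Elem) (hx : permOf E.O.x ∈ H) : (1 : H) ∉ E.set hx := fun h =>
  (mem_conjSet.1 h).1 rfl

/-- Contribution of the conjugates of one subgroup. -/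
theorem Elem.sum_ge (E : Elem) (hx : permOf E.O.x ∈ H) {n : ℕ}
    (hn : n ≤ (Subgroup.normalizer ((Subgroup.zpowers (⟨_, hx⟩ : H) : Subgroup H) : Set H)).index)
    (χ : IrrCharacter H) {e r : ℕ} (he : e ≠ 0) (hep : Nat.Coprime e E.O.p)
    (hdiv : ∀ u : Subgroup.zpowers (⟨_, hx⟩ : H), u ≠ 1 →
      IsIntegral ℤ ((χ : H → ℂ) u / e))
    (hr : r < E.O.p) (hmod : e * r % E.O.p = charDegree (χ : H → ℂ) % E.O.p) :
    ((n * (e ^ 2 * (r * (E.O.p - r))) : ℕ) : ℝ) ≤
        ∑ y ∈ E.set hx, Complex.normSq ((χ : H → ℂ) y) ∧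
      (e = 1 → ∑ y ∈ E.set hx, Complex.normSq ((χ : H → ℂ) y) ≤ ((n * (r * (E.O.p - r)) : ℕ) : ℝ) →
        0 < r * (E.O.p - r) →
        ∑ y ∈ E.set hx, (χ : H → ℂ) y = -((n * r : ℕ) : ℂ) ∨
          ∑ y ∈ E.set hx, (χ : H → ℂ) y = ((n * (E.O.p - r) : ℕ) : ℂ)) := by
  haveI := Fact.mk E.prime
  rw [Elem.set]
  have hPc := E.order hx
  generalize Subgroup.zpowers (⟨_, hx⟩ : H) = P at hPc hn hdiv ⊢
  letI : Fintype P := Fintype.ofFinite P
  obtain ⟨hb, heq⟩ := restrict_bound (IsIrrCharacter.isCharacter χ.2) (CharX.irr_deg χ) P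
    hPc e he hep hdiv hr hmod
  have hS := sum_conjSet P hPc (fun y => Complex.normSq ((χ : H → ℂ) y))
    fun y g => by simp only [Blocks.irr_conj_invariant χ y g]
  rw [hS, nsmul_eq_mul]
  have hi : (n : ℝ) ≤ ((Subgroup.normalizer ((P : Subgroup H) : Set H)).index : ℝ) := by
    exact_mod_cast hn
  refine ⟨?_, fun he1 hle hpos => ?_⟩
  · rw [Nat.cast_mul]
    exact mul_le_mul hi hb (Nat.cast_nonneg _) (Nat.cast_nonneg _)
  · subst he1
    rw [one_pow, one_mul] at hb
    rw [Nat.cast_mul] at hle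
    have hb0 : (0 : ℝ) < ((r * (E.O.p - r) : ℕ) : ℝ) := Nat.cast_pos.2 hpos
    have hipos : (0 : ℝ) < ((Subgroup.normalizer ((P : Subgroup H) : Set H)).index : ℝ) :=
      Nat.cast_pos.2 (Nat.pos_of_ne_zero Subgroup.index_ne_zero_of_finite)
    have hSle := le_of_mul_le_mul_left
      (hle.trans (mul_le_mul_of_nonneg_right hi hb0.le)) hipos
    have hie : (Subgroup.normalizer ((P : Subgroup H) : Set H)).index = n := by
      have h1 := le_of_mul_le_mul_right ((mul_le_mul_of_nonneg_left hb hipos.le).trans hle) hb0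
      exact le_antisymm (by exact_mod_cast h1) hn
    have hT := sum_conjSet P hPc (fun y => (χ : H → ℂ) y)
      fun y g => Blocks.irr_conj_invariant χ y g
    rw [hT, hie, nsmul_eq_mul]
    rcases heq rfl hSle with h | h
    · left; rw [h]; push_cast; ring
    · right; rw [h]; push_cast; ring

/-- Character values are divisible by one. -/
theorem integral_one (χ : IrrCharacter H) (u : H) :
    IsIntegral ℤ ((χ : H → ℂ) u / ((1 : ℕ) : ℂ)) := by
  rw [Nat.cast_one, div_one]
  exact IsCharacter.isIntegral (IsIrrCharacter.isCharacter χ.2) u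

theorem sum_normSq_eq (χ : IrrCharacter H) :
    ∑ y : H, Complex.normSq ((χ : H → ℂ) y) = (Nat.card H : ℝ) := by
  have h := classInner_self_eq (χ : H → ℂ)
  rw [classInner_self_irr χ.2] at h
  have h' : (1 : ℝ) = (Nat.card H : ℝ)⁻¹ * ∑ g : H, ‖(χ : H → ℂ) g‖ ^ 2 := by exact_mod_cast h
  have hne : (Nat.card H : ℝ) ≠ 0 := Nat.cast_ne_zero.2 Nat.card_pos.ne'
  simp only [Complex.normSq_eq_norm_sq]
  field_simp at h'
  exact h'.symm

theorem sum_eq_zero_of_ne (χ : IrrCharacter H) (h : (χ : H → ℂ) ≠ fun _ => 1) :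
    ∑ y : H, (χ : H → ℂ) y = 0 := by
  have h1 := classInner_irr_of_ne χ.2 isIrrCharacter_one h
  rw [classInner, mul_eq_zero] at h1
  refine Eq.trans (Finset.sum_congr rfl fun y _ => ?_)
    (h1.resolve_left (inv_ne_zero (Nat.cast_ne_zero.2 Nat.card_pos.ne')))
  simp

/-! ### The group `M₂₂` -/

/-- The two points fixed by `M₂₂`. -/
def base22 : Finset GolayPt := {none, some 0}

theorem free22 : (E5.free base22).card = 2 ∧ (E7.free base22).card = 1 ∧
    (E11.free base22).card = 0 := by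
  refine ⟨?_, ?_, ?_⟩ <;> simp only [Elem.free, E5, E7, E11] <;> decide +kernel

theorem mem22_iff {σ : Pm} :
    σ ∈ Spor.M22 ↔ σ ∈ M24 ∧ σ none = none ∧ σ (some 0) = some 0 := by
  simp [sporM22_eq, mem_stabSets, smul_singleton_eq_iff]

theorem M22_le : Spor.M22 ≤ M24 := fun _ h => (mem22_iff.1 h).1

theorem fix_base22 : ∀ σ ∈ Spor.M22, ∀ q ∈ base22, σ q = q := by
  intro σ hσ q hq
  obtain ⟨-, h1, h2⟩ := mem22_iff.1 hσ
  simp only [base22, Finset.mem_insert, Finset.mem_singleton] at hq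
  rcases hq with rfl | rfl
  · exact h1
  · exact h2

theorem Elem.mem22 (E : Elem)
    (h : (E.O.fix.testBit 23 && E.O.fix.testBit 0) = true) : permOf E.O.x ∈ Spor.M22 := by
  rw [Bool.and_eq_true] at h
  refine mem22_iff.2 ⟨E.x_mem, (Orb.fix_iff E.ok none).1 ?_, (Orb.fix_iff E.ok (some 0)).1 ?_⟩
  · exact h.1
  · exact h.2

theorem degree_lt22 (χ : IrrCharacter Spor.M22) :
    (charDegree (χ : Spor.M22 → ℂ)).factorization 2 < (Nat.card Spor.M22).factorization 2 := by
  haveI : Fintype Spor.M22 := Fintype.ofFinite _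
  have hcard := card_sporM22
  have hG : Nat.card Spor.M22 = 2 ^ 7 * 3465 := by rw [hcard]; norm_num
  obtain ⟨d, hd⟩ : ∃ d, d = charDegree (χ : Spor.M22 → ℂ) := ⟨_, rfl⟩
  have hpos : 0 < d := hd ▸ CharX.irr_deg_pos χ
  have hdvd : d ∣ Nat.card Spor.M22 := hd ▸ CharX.irr_deg_dvd_card χ
  rw [← hd]
  refine lt_of_le_of_ne ((Nat.factorization_le_iff_dvd hpos.ne'
    Nat.card_pos.ne').2 hdvd 2) fun heq => ?_
  have hv : (Nat.card Spor.M22).factorization 2 = 7 := by
    rw [hG, Nat.factorization_mul (by norm_num) (by norm_num), Nat.prime_two.factorization_pow]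
    simp [Nat.factorization_eq_zero_of_not_dvd (by norm_num : ¬ 2 ∣ 3465)]
  have h128 : 2 ^ 7 ∣ d := (Nat.prime_two.pow_dvd_iff_le_factorization hpos.ne').2
    (by rw [heq, hv])
  have hodd : ¬ 2 ^ 8 ∣ d := fun h => by
    have := (Nat.prime_two.pow_dvd_iff_le_factorization hpos.ne').1 h
    rw [heq, hv] at this
    omega
  obtain ⟨k, hk⟩ := h128
  have hx5 := E5.mem22 (by decide +kernel)
  have hx7 := E7.mem22 (by decide +kernel)
  have hx11 := E11.mem22 (by decide +kernel)
  have hn5 := E5.le_index M22_le hx5 base22 fix_base22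
  have hn7 := E7.le_index M22_le hx7 base22 fix_base22
  have hn11 := E11.le_index M22_le hx11 base22 fix_base22
  rw [free22.1, hcard, show E5.O.p = 5 from rfl, show E5.b = 2 from rfl, Nat.factorial_two] at hn5
  rw [free22.2.1, hcard, show E7.O.p = 7 from rfl, show E7.b = 3 from rfl, Nat.factorial_one] at hn7
  rw [free22.2.2, hcard, show E11.O.p = 11 from rfl, show E11.b = 5 from rfl,
    Nat.factorial_zero] at hn11
  have b5 := E5.sum_ge hx5 (n := 22176) (by omega) χ (e := 1) (r := d % 5) one_ne_zero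
    (Nat.coprime_one_left _) (fun u _ => integral_one χ _)
    (Nat.mod_lt _ (by norm_num [E5, O5])) (by rw [← hd]; show 1 * (d % 5) % 5 = d % 5; omega)
  have b7 := E7.sum_ge hx7 (n := 21120) (by omega) χ (e := 1) (r := d % 7) one_ne_zero
    (Nat.coprime_one_left _) (fun u _ => integral_one χ _)
    (Nat.mod_lt _ (by norm_num [E7, O7])) (by rw [← hd]; show 1 * (d % 7) % 7 = d % 7; omega)
  have b11 := E11.sum_ge hx11 (n := 8064) (by omega) χ (e := 1) (r := d % 11) one_ne_zero
    (Nat.coprime_one_left _) (fun u _ => integral_one χ _)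
    (Nat.mod_lt _ (by norm_num [E11, O11])) (by rw [← hd]; show 1 * (d % 11) % 11 = d % 11; omega)
  simp only [show E5.O.p = 5 from rfl, show E7.O.p = 7 from rfl, show E11.O.p = 11 from rfl] at b5 b7 b11
  set T := ({1} : Finset Spor.M22) ∪ (E5.set hx5 ∪ (E7.set hx7 ∪ E11.set hx11)) with hT
  have d1 : Disjoint ({1} : Finset Spor.M22) (E5.set hx5 ∪ (E7.set hx7 ∪ E11.set hx11)) := by
    simp only [Finset.disjoint_singleton_left, Finset.mem_union, not_or]
    exact ⟨E5.one_notMem hx5, E7.one_notMem hx7, E11.one_notMem hx11⟩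
  have d2 : Disjoint (E5.set hx5) (E7.set hx7 ∪ E11.set hx11) :=
    Finset.disjoint_union_right.2 ⟨E5.disjoint E7 hx5 hx7 (by decide),
      E5.disjoint E11 hx5 hx11 (by decide)⟩
  have d3 : Disjoint (E7.set hx7) (E11.set hx11) := E7.disjoint E11 hx7 hx11 (by decide)
  have h1 : (χ : Spor.M22 → ℂ) 1 = (d : ℂ) := hd ▸ CharX.irr_deg χ
  have hsum : ∀ {A : Type} [AddCommMonoid A] (f : Spor.M22 → A), ∑ y ∈ T, f y =
      f 1 + (∑ y ∈ E5.set hx5, f y + (∑ y ∈ E7.set hx7, f y + ∑ y ∈ E11.set hx11, f y)) :=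
    fun f => by rw [hT, Finset.sum_union d1, Finset.sum_union d2, Finset.sum_union d3,
      Finset.sum_singleton]
  have htot := sum_normSq_eq χ
  rw [hcard] at htot
  have hle := Finset.sum_le_univ_sum_of_nonneg (s := T)
    fun y => Complex.normSq_nonneg ((χ : Spor.M22 → ℂ) y)
  rw [htot, hsum, h1, Complex.normSq_natCast] at hle
  have hall : ((d * d + (22176 * (d % 5 * (5 - d % 5)) + (21120 * (d % 7 * (7 - d % 7)) +
      8064 * (d % 11 * (11 - d % 11)))) : ℕ) : ℝ) ≤ (443520 : ℝ) := by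
    have h5' := b5.1; have h7' := b7.1; have h11' := b11.1
    simp only [one_pow, one_mul] at h5' h7' h11'
    rw [Nat.cast_add, Nat.cast_add, Nat.cast_add, Nat.cast_mul d d]
    push_cast at hle
    linarith
  have hall' : d * d + (22176 * (d % 5 * (5 - d % 5)) + (21120 * (d % 7 * (7 - d % 7)) +
      8064 * (d % 11 * (11 - d % 11)))) ≤ 443520 := by exact_mod_cast hall
  have hk5 : k ≤ 5 := by
    by_contra hk6
    have : 2 ^ 7 * 6 ≤ d := by rw [hk]; exact Nat.mul_le_mul_left _ (by omega)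
    have h2 := Nat.mul_le_mul this this
    have h3 := (Nat.le_add_right (d * d) _).trans hall'
    norm_num at h2
    linarith
  have hkv : k = 1 ∨ k = 3 ∨ k = 5 := by
    interval_cases k
    · exact absurd (by rw [hk]; norm_num) hpos.ne'
    · exact Or.inl rfl
    · exact absurd ⟨1, by rw [hk]; norm_num⟩ hodd
    · exact Or.inr (Or.inl rfl)
    · exact absurd ⟨2, by rw [hk]; norm_num⟩ hodd
    · exact Or.inr (Or.inr rfl)
  rcases hkv with rfl | rfl | rfl
  · rw [hk] at hall'; norm_num at hall'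
  swap
  · rw [hk] at hall'; norm_num at hall'
  -- the degree 384
  have hd384 : d = 384 := by rw [hk]; norm_num
  obtain ⟨⟨g5, e5⟩, ⟨g7, e7⟩, ⟨g11, e11⟩⟩ := b5, b7, b11
  norm_num [hd384] at g5 g7 g11 e5 e7 e11
  simp only [hd384] at hle
  push_cast at hle
  have v5 := e5 (by linarith)
  have v7 := e7 (by linarith)
  have v11 := e11 (by linarith)
  have hrest : ∀ y, y ∉ T → (χ : Spor.M22 → ℂ) y = 0 := by
    intro y hy
    have h2 : ∑ z ∈ insert y T, Complex.normSq ((χ : Spor.M22 → ℂ) z) ≤ 443520 := by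
      refine le_trans (Finset.sum_le_univ_sum_of_nonneg fun z => Complex.normSq_nonneg _) ?_
      rw [htot]; norm_num
    rw [Finset.sum_insert hy, hsum, h1, Complex.normSq_natCast, hd384] at h2
    push_cast at h2
    exact Complex.normSq_eq_zero.1 (le_antisymm (by linarith) (Complex.normSq_nonneg _))
  have hz := sum_eq_zero_of_ne χ fun h => by
    have := congrFun h 1
    rw [h1, hd384] at this
    norm_num at this
  rw [← Finset.sum_subset (Finset.subset_univ T) fun y _ hy => hrest y hy, hsum, h1, hd384] at hz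
  rcases v5 with v5 | v5 <;> rcases v7 with v7 | v7 <;> rcases v11 with v11 | v11 <;>
    (rw [v5, v7, v11] at hz; norm_num at hz)

/-! ### The group `M₂₄` -/

theorem free24 : (E5.free ∅).card = 4 ∧ (E7.free ∅).card = 3 ∧ (E11.free ∅).card = 2 ∧
    (E23.free ∅).card = 1 := by
  refine ⟨?_, ?_, ?_, ?_⟩ <;> simp only [Elem.free, E5, E7, E11, E23] <;> decide +kernel

/-- Commuting involutions in the centralisers. -/
def okCent : Bool :=
  [cent5a, cent5b, cent7a].all (fun w => validElt 5 24 w && isAutB w && involB w) &&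
    commB cent5a cent5b && commB cent5a elt5 && commB cent5b elt5 && commB cent7a elt7 &&
    !(allBelow (fun i => Nat.beq (get 5 cent5a.1 i) (get 5 cent5b.1 i)) 24)

theorem okCent_true : okCent = true := by decide +kernel

theorem cent_spec : (∀ w ∈ [cent5a, cent5b, cent7a], validElt 5 24 w = true ∧
      permOf w ∈ M24 ∧ orderOf (permOf w) = 2) ∧
    Commute (permOf cent5a) (permOf cent5b) ∧ Commute (permOf cent5a) (permOf elt5) ∧
    Commute (permOf cent5b) (permOf elt5) ∧ Commute (permOf cent7a) (permOf elt7) ∧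
    permOf cent5a ≠ permOf cent5b := by
  have h := okCent_true
  simp only [okCent, Bool.and_eq_true, List.all_eq_true, Bool.not_eq_true'] at h
  obtain ⟨⟨⟨⟨⟨hw, hab⟩, ha5⟩, hb5⟩, ha7⟩, hne⟩ := h
  have hv := fun w hw' => (hw w hw').1.1
  have v5 : validElt 5 24 elt5 = true := Orb.ok_valid E5.ok
  have v7 : validElt 5 24 elt7 = true := Orb.ok_valid E7.ok
  refine ⟨fun w hw' => ⟨hv w hw', permOf_mem_M24 (hv w hw') (hw w hw').1.2,
      involB_spec (hv w hw') (hw w hw').2⟩,
    commB_spec (hv _ (by simp)) (hv _ (by simp)) hab, commB_spec (hv _ (by simp)) v5 ha5,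
    commB_spec (hv _ (by simp)) v5 hb5, commB_spec (hv _ (by simp)) v7 ha7, fun he => ?_⟩
  have hg := permOf_injective (hv _ (by simp)) (hv _ (by simp)) he
  have : ∀ n ≤ 24,
      allBelow (fun i => Nat.beq (get 5 cent5a.1 i) (get 5 cent5b.1 i)) n = true := by
    intro n
    induction n with
    | zero => intro _; rfl
    | succ n ih =>
      intro hn
      show (allBelow _ n && _) = true
      rw [ih (by omega), Bool.true_and]
      simp [hg n (by omega)]
  rw [this 24 le_rfl] at hne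
  exact Bool.false_ne_true hne.symm

theorem mem_centralizer_zpowers {G : Type*} [Group G] {x u c : G}
    (hu : u ∈ Subgroup.zpowers x) (h : Commute c x) :
    c ∈ Subgroup.centralizer ({u} : Set G) := by
  obtain ⟨i, rfl⟩ := hu
  exact Subgroup.mem_centralizer_singleton_iff.2 (h.zpow_right i).eq

theorem two_dvd_cent7 (hx : permOf E7.O.x ∈ M24) (u : M24)
    (hu : u ∈ Subgroup.zpowers (⟨_, hx⟩ : M24)) :
    2 ∣ Nat.card (Subgroup.centralizer ({u} : Set M24)) := by
  obtain ⟨-, hM, ho⟩ := cent_spec.1 cent7a (by simp)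
  have hc : (⟨_, hM⟩ : M24) ∈ Subgroup.centralizer ({u} : Set M24) :=
    mem_centralizer_zpowers hu (Subtype.ext cent_spec.2.2.2.2.1.eq)
  have := orderOf_dvd_natCard (⟨_, hc⟩ : Subgroup.centralizer ({u} : Set M24))
  rwa [← Subgroup.orderOf_coe, ← Subgroup.orderOf_coe, ho] at this

theorem four_dvd_cent5 (hx : permOf E5.O.x ∈ M24) (u : M24)
    (hu : u ∈ Subgroup.zpowers (⟨_, hx⟩ : M24)) :
    4 ∣ Nat.card (Subgroup.centralizer ({u} : Set M24)) := by
  obtain ⟨-, haM, hao⟩ := cent_spec.1 cent5a (by simp)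
  obtain ⟨-, hbM, hbo⟩ := cent_spec.1 cent5b (by simp)
  set a : M24 := ⟨_, haM⟩
  set b : M24 := ⟨_, hbM⟩
  have ha2 : a * a = 1 := Subtype.ext (by
    show permOf cent5a * permOf cent5a = 1
    rw [← sq, ← hao, pow_orderOf_eq_one])
  have hb2 : b * b = 1 := Subtype.ext (by
    show permOf cent5b * permOf cent5b = 1
    rw [← sq, ← hbo, pow_orderOf_eq_one])
  have hab : a * b = b * a := Subtype.ext cent_spec.2.1.eq
  have hca : a ∈ Subgroup.centralizer ({u} : Set M24) :=
    mem_centralizer_zpowers hu (Subtype.ext cent_spec.2.2.1.eq)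
  have hcb : b ∈ Subgroup.centralizer ({u} : Set M24) :=
    mem_centralizer_zpowers hu (Subtype.ext cent_spec.2.2.2.1.eq)
  have hne : a ≠ b := fun h => cent_spec.2.2.2.2.2 (congrArg Subtype.val h)
  have ha1 : a ≠ 1 := fun h => by
    have : permOf cent5a = 1 := congrArg Subtype.val h
    rw [this, orderOf_one] at hao
    norm_num at hao
  have hb1 : b ≠ 1 := fun h => by
    have : permOf cent5b = 1 := congrArg Subtype.val h
    rw [this, orderOf_one] at hbo
    norm_num at hbo
  have hinva : a⁻¹ = a := inv_eq_of_mul_eq_one_right ha2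
  have hinvb : b⁻¹ = b := inv_eq_of_mul_eq_one_right hb2
  let K : Subgroup M24 :=
    { carrier := {1, a, b, a * b}
      one_mem' := by simp
      mul_mem' := by
        have e1 : b * a = a * b := hab.symm
        have e2 : a * (a * b) = b := by rw [← mul_assoc, ha2, one_mul]
        have e3 : a * b * a = b := by rw [mul_assoc, e1, e2]
        have e4 : b * (a * b) = a := by rw [← mul_assoc, e1, mul_assoc, hb2, mul_one]
        have e5 : a * b * b = a := by rw [mul_assoc, hb2, mul_one]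
        have e6 : a * b * (a * b) = 1 := by rw [← mul_assoc, e3, hb2]
        rintro x y (rfl | rfl | rfl | rfl) (rfl | rfl | rfl | rfl) <;>
          simp [ha2, hb2, e1, e2, e3, e4, e5, e6]
      inv_mem' := by
        rintro x (rfl | rfl | rfl | rfl) <;> simp [hinva, hinvb, ← hab] }
  have hK : Nat.card K = 4 := by
    show Nat.card ({1, a, b, a * b} : Set M24) = 4
    rw [Nat.card_coe_set_eq]
    have h3 : a * b ≠ 1 := fun h => hne (by
      have := mul_eq_one_iff_eq_inv.1 h
      rwa [hinvb] at this)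
    rw [Set.ncard_insert_of_notMem, Set.ncard_insert_of_notMem, Set.ncard_pair]
    · intro h
      exact ha1 (mul_eq_right.1 h.symm)
    · simp only [Set.mem_insert_iff, Set.mem_singleton_iff, not_or]
      exact ⟨hne, fun h => hb1 (mul_eq_left.1 h.symm)⟩
    · simp only [Set.mem_insert_iff, Set.mem_singleton_iff, not_or]
      exact ⟨ha1.symm, hb1.symm, h3.symm⟩
  rw [← hK]
  refine Subgroup.card_dvd_of_le fun y hy => ?_
  rcases (show y = 1 ∨ y = a ∨ y = b ∨ y = a * b from hy) with rfl | rfl | rfl | rfl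
  · exact one_mem _
  · exact hca
  · exact hcb
  · exact mul_mem hca hcb

theorem degree_lt24 (χ : IrrCharacter M24) :
    (charDegree (χ : M24 → ℂ)).factorization 2 < (Nat.card M24).factorization 2 := by
  haveI : Fintype M24 := Fintype.ofFinite _
  have hcard := card_M24
  have hG : Nat.card M24 = 2 ^ 10 * 239085 := by rw [hcard]; norm_num
  obtain ⟨d, hd⟩ : ∃ d, d = charDegree (χ : M24 → ℂ) := ⟨_, rfl⟩
  have hpos : 0 < d := hd ▸ CharX.irr_deg_pos χ
  have hdvd : d ∣ Nat.card M24 := hd ▸ CharX.irr_deg_dvd_card χ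
  rw [← hd]
  refine lt_of_le_of_ne ((Nat.factorization_le_iff_dvd hpos.ne'
    Nat.card_pos.ne').2 hdvd 2) fun heq => ?_
  have hv : (Nat.card M24).factorization 2 = 10 := by
    rw [hG, Nat.factorization_mul (by norm_num) (by norm_num), Nat.prime_two.factorization_pow]
    simp [Nat.factorization_eq_zero_of_not_dvd (by norm_num : ¬ 2 ∣ 239085)]
  obtain ⟨k, hk⟩ := (Nat.prime_two.pow_dvd_iff_le_factorization hpos.ne').2
    (le_of_eq (hv.symm.trans heq.symm))
  have ha : Nat.card M24 = d * (Nat.card M24 / d) := (Nat.mul_div_cancel' hdvd).symm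
  set a := Nat.card M24 / d with haeq
  have hka : k * a = 239085 := by
    rw [hG, hk] at ha
    rw [mul_assoc] at ha
    exact (Nat.eq_of_mul_eq_mul_left (by norm_num) ha).symm
  have hodd : ∀ i : ℕ, Nat.Coprime (2 ^ i) a := fun i => by
    refine Nat.Coprime.pow_left _ ((Nat.prime_two.coprime_iff_not_dvd).2 fun h2 => ?_)
    have : 2 ∣ 239085 := hka ▸ dvd_mul_of_dvd_right h2 k
    norm_num at this
  have hkodd : k % 2 = 1 := by
    rcases Nat.mod_two_eq_zero_or_one k with h | h
    · exfalso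
      have : 2 ∣ 239085 := hka ▸ dvd_mul_of_dvd_left (Nat.dvd_of_mod_eq_zero h) a
      norm_num at this
    · exact h
  have hx5 : permOf E5.O.x ∈ M24 := E5.x_mem
  have hx7 : permOf E7.O.x ∈ M24 := E7.x_mem
  have hx11 : permOf E11.O.x ∈ M24 := E11.x_mem
  have hx23 : permOf E23.O.x ∈ M24 := E23.x_mem
  have hB : ∀ σ ∈ M24, ∀ q ∈ (∅ : Finset GolayPt), σ q = q := fun _ _ q hq =>
    absurd hq (Finset.notMem_empty q)
  have hn5 := E5.le_index le_rfl hx5 ∅ hB
  have hn7 := E7.le_index le_rfl hx7 ∅ hB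
  have hn11 := E11.le_index le_rfl hx11 ∅ hB
  have hn23 := E23.le_index le_rfl hx23 ∅ hB
  rw [free24.1, hcard, show E5.O.p = 5 from rfl, show E5.b = 2 from rfl,
    show Nat.factorial 4 = 24 from rfl] at hn5
  rw [free24.2.1, hcard, show E7.O.p = 7 from rfl, show E7.b = 3 from rfl,
    show Nat.factorial 3 = 6 from rfl] at hn7
  rw [free24.2.2.1, hcard, show E11.O.p = 11 from rfl, show E11.b = 5 from rfl,
    Nat.factorial_two] at hn11
  rw [free24.2.2.2, hcard, show E23.O.p = 23 from rfl, show E23.b = 11 from rfl,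
    Nat.factorial_one] at hn23
  have hint : ∀ (e : ℕ) (u : M24), e ≠ 0 → e ∣ Nat.card (Subgroup.centralizer ({u} : Set M24)) →
      Nat.Coprime e a → IsIntegral ℤ ((χ : M24 → ℂ) u / e) := fun e u he hC hco =>
    isIntegral_div_of_centralizer χ he hC (by rw [← hd, ← haeq]; exact hco)
  have b5 := E5.sum_ge hx5 (n := 1020096) (by omega) χ (e := 4) (r := 4 * d % 5) (by norm_num)
    (by norm_num [E5, O5]) (fun u _ => hint 4 _ (by norm_num) (four_dvd_cent5 hx5 _ u.2) (hodd 2))
    (Nat.mod_lt _ (by norm_num [E5, O5])) (by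
      rw [← hd]
      show 4 * (4 * d % 5) % 5 = d % 5
      omega)
  have b7 := E7.sum_ge hx7 (n := 1943040) (by omega) χ (e := 2) (r := 4 * d % 7) (by norm_num)
    (by norm_num [E7, O7]) (fun u _ => hint 2 _ (by norm_num) (two_dvd_cent7 hx7 _ u.2) (hodd 1))
    (Nat.mod_lt _ (by norm_num [E7, O7])) (by
      rw [← hd]
      show 2 * (4 * d % 7) % 7 = d % 7
      omega)
  have b11 := E11.sum_ge hx11 (n := 2225664) (by omega) χ (e := 1) (r := d % 11) one_ne_zero
    (Nat.coprime_one_left _) (fun u _ => integral_one χ _)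
    (Nat.mod_lt _ (by norm_num [E11, O11])) (by rw [← hd]; show 1 * (d % 11) % 11 = d % 11; omega)
  have b23 := E23.sum_ge hx23 (n := 967680) (by omega) χ (e := 1) (r := d % 23) one_ne_zero
    (Nat.coprime_one_left _) (fun u _ => integral_one χ _)
    (Nat.mod_lt _ (by norm_num [E23, O23])) (by rw [← hd]; show 1 * (d % 23) % 23 = d % 23; omega)
  set T := ({1} : Finset M24) ∪ (E5.set hx5 ∪ (E7.set hx7 ∪ (E11.set hx11 ∪ E23.set hx23)))
    with hT
  have d1 : Disjoint ({1} : Finset M24)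
      (E5.set hx5 ∪ (E7.set hx7 ∪ (E11.set hx11 ∪ E23.set hx23))) := by
    simp only [Finset.disjoint_singleton_left, Finset.mem_union, not_or]
    exact ⟨E5.one_notMem hx5, E7.one_notMem hx7, E11.one_notMem hx11, E23.one_notMem hx23⟩
  have d2 : Disjoint (E5.set hx5) (E7.set hx7 ∪ (E11.set hx11 ∪ E23.set hx23)) := by
    simp only [Finset.disjoint_union_right]
    exact ⟨E5.disjoint E7 hx5 hx7 (by decide), E5.disjoint E11 hx5 hx11 (by decide),
      E5.disjoint E23 hx5 hx23 (by decide)⟩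
  have d3 : Disjoint (E7.set hx7) (E11.set hx11 ∪ E23.set hx23) := by
    simp only [Finset.disjoint_union_right]
    exact ⟨E7.disjoint E11 hx7 hx11 (by decide), E7.disjoint E23 hx7 hx23 (by decide)⟩
  have d4 : Disjoint (E11.set hx11) (E23.set hx23) := E11.disjoint E23 hx11 hx23 (by decide)
  have hle := Finset.sum_le_univ_sum_of_nonneg (s := T)
    fun y => Complex.normSq_nonneg ((χ : M24 → ℂ) y)
  rw [sum_normSq_eq, hcard, hT, Finset.sum_union d1, Finset.sum_union d2, Finset.sum_union d3,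
    Finset.sum_union d4, Finset.sum_singleton, CharX.irr_deg χ, ← hd, Complex.normSq_natCast] at hle
  have h5' := b5.1; have h7' := b7.1; have h11' := b11.1; have h23' := b23.1
  simp only [show E5.O.p = 5 from rfl, show E7.O.p = 7 from rfl, show E11.O.p = 11 from rfl,
    show E23.O.p = 23 from rfl, one_pow, one_mul] at h5' h7' h11' h23'
  have hall : ((d * d + (1020096 * (4 ^ 2 * (4 * d % 5 * (5 - 4 * d % 5))) +
      (1943040 * (2 ^ 2 * (4 * d % 7 * (7 - 4 * d % 7))) +
      (2225664 * (d % 11 * (11 - d % 11)) + 967680 * (d % 23 * (23 - d % 23))))) : ℕ) : ℝ) ≤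
      (244823040 : ℝ) := by
    rw [Nat.cast_add, Nat.cast_add, Nat.cast_add, Nat.cast_add, Nat.cast_mul d d]
    push_cast at hle
    linarith
  have hall' : d * d + (1020096 * (4 ^ 2 * (4 * d % 5 * (5 - 4 * d % 5))) +
      (1943040 * (2 ^ 2 * (4 * d % 7 * (7 - 4 * d % 7))) +
      (2225664 * (d % 11 * (11 - d % 11)) + 967680 * (d % 23 * (23 - d % 23))))) ≤ 244823040 := by
    exact_mod_cast hall
  have hk16 : k ≤ 15 := by
    by_contra h16
    have : 2 ^ 10 * 16 ≤ d := by rw [hk]; exact Nat.mul_le_mul_left _ (by omega)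
    have h2 := Nat.mul_le_mul this this
    have h3 := (Nat.le_add_right (d * d) _).trans hall'
    norm_num at h2
    linarith
  rw [hk] at hall'
  interval_cases k <;> first | (norm_num at hkodd; done) | (norm_num at hall'; done)

end Cfsg.Agent.Golay.SB
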