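import Cfsg.Agent.Lib.Golay.OrbitChecks

/-!
The stabiliser of an octad is transitive on the pairs of points outside it.
-/

namespace Cfsg.Agent.Golay

open Cfsg Cfsg.Agent.PermCert Cfsg.Agent.Golay.Cert
open scoped Pointwise

/-- Part of an orbit tree. -/
def octPairTree_0 : List (ℕ × ℕ × ℕ) :=
  [(0, 0, 655360), (0, 0, 9437184), (0, 0, 65792), (0, 0, 32832), (0, 0, 786432), (0, 0, 8396800), (0, 0, 67584), (0, 0, 49152), (0, 0, 262656), (0, 0, 2105344), (0, 0, 2080), (0, 0, 147456), (0, 0, 1049088), (0, 0, 2097408), (0, 1, 4456448), (0, 0, 4202496), (0, 0, 4196352), (0, 0, 4210688), (0, 0, 4194816), (0, 0, 6291456), (0, 0, 4194336), (0, 0, 4325376), (0, 0, 5242880), (0, 0, 4194560), (0, 0, 4194368), (0, 0, 4718592), (0, 0, 12582912), (0, 0, 4259840), (0, 0, 4227072), (0, 1, 589824), (0, 0, 8421376), (0, 0, 327680), (0, 0, 40960), (0, 0, 264192), (0, 0, 24576), (0, 0, 2560), (0, 0, 2113536), (0, 0, 544), (0, 0, 2228224), (0, 0, 1048608), (0, 0, 131328),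 (0, 0, 1048640), (0, 0, 524544), (0, 0, 8388672), (2, 1, 16416), (0, 0, 131584), (0, 0, 3145728), (0, 0, 288), (0, 0, 131136), (0, 0, 1572864), (0, 0, 8388864), (0, 0, 65600), (0, 0, 557056), (0, 0, 8650752), (0, 0, 73728), (0, 0, 34816), (0, 0, 278528), (0, 0, 8704), (0, 0, 2099200), (0, 1, 1310720), (0, 0, 8448), (0, 0, 2112), (0, 0, 540672), (0, 0, 8389120), (0, 0, 2162688), (0, 0, 32800), (0, 0, 393216), (0, 0, 1056768), (0, 0, 2304), (0, 0, 16448), (0, 0, 524800), (0, 0, 10485760), (0, 0, 65568), (0, 0, 163840), (0, 1, 98304), (0, 0, 294912), (0, 0, 270336), (0, 0, 10240), (0, 0, 18432), (0, 0, 16896), (0, 0, 2097664), (0, 0, 2097184), (0, 0, 131104), (0, 0, 1179648), (0, 0, 1048832), (0, 0, 320), (0, 0, 524352), (0, 0, 8912896), (0, 0, 8454144), (1, 1, 139264), (0, 0, 1050624), (0, 0, 16640), (0, 0, 576), (0, 0, 2621440), (0, 0, 8388640), (0, 0, 196608), (0, 0, 1081344), (0, 0, 262400), (0, 0, 8256), (0, 0, 526336), (0, 0, 8404992), (0, 0, 66048),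 (0, 0, 2129920), (0, 0, 262176), (14, 1, 33024), (0, 0, 262208), (0, 0, 532480), (0, 0, 8390656), (0, 0, 81920), (0, 0, 33280), (0, 0, 2359296), (0, 0, 8224), (0, 0, 133120), (0, 0, 1064960), (0, 0, 768), (0, 0, 2097216), (0, 0, 524320), (0, 0, 8519680), (0, 0, 1114112)]

/-- An orbit tree. -/
def octPairTree : List (ℕ × ℕ × ℕ) := octPairTree_0

/-- Root of the orbit tree. -/
def octPairRoot : ℕ := 96

theorem octPair_classes : classesOK [refOctad] octGens [(0, octPairRoot, octPairTree)]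
    ((masksOfWeight 24 2).filter fun m => Nat.beq (m &&& refOctad) 0) (fun _ => 0) = true := by
  decide +kernel

theorem octad_pair_move {o s t : Finset GolayPt} (ho : o ∈ octads) (hs : s.card = 2) (ht : t.card = 2)
    (hso : Disjoint s o) {o' : Finset GolayPt} (ho' : o' ∈ octads) (hto : Disjoint t o') :
    ∃ g ∈ M24, g • o = o' ∧ g • s = t := by
  have hmask : ∀ {o s : Finset GolayPt}, o ∈ octads → s.card = 2 → Disjoint s o →
      ∃ g ∈ M24, g • o = refOct ∧ toMask (g • s) ∈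
        (masksOfWeight 24 2).filter fun m => Nat.beq (m &&& refOctad) 0 := by
    intro o s ho hs hd
    obtain ⟨g, hg, hgo⟩ := octad_move0 ho
    refine ⟨g, hg, hgo, ?_⟩
    have hd' : Disjoint (g • s) refOct := by
      rw [← hgo, Finset.disjoint_left]
      intro p hp hp'
      rw [← Finset.inv_smul_mem_iff] at hp hp'
      exact Finset.disjoint_left.1 hd hp hp'
    simp only [List.mem_filter, Nat.beq_eq]
    refine ⟨mem_masksOfWeight _ _ _ (toMask_lt _) ?_, ?_⟩
    · rw [← card_maskSet, maskSet_toMask, Finset.card_smul_finset, hs]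
    · refine maskSet_inj (lt_of_le_of_lt Nat.and_le_left (toMask_lt _)) (by norm_num) ?_
      rw [maskSet_and, maskSet_toMask, Finset.disjoint_iff_inter_eq_empty.1 hd']
      ext p; simp [mem_maskSet]
  obtain ⟨a, ha, hao, has⟩ := hmask ho hs hso
  obtain ⟨b, hb, hbo, hbt⟩ := hmask ho' ht hto
  obtain ⟨h, hh, hhs⟩ := classes_transitive octPair_classes has hbt rfl
  rw [maskSet_toMask, maskSet_toMask] at hhs
  refine ⟨b⁻¹ * h * a, mul_mem (mul_mem (inv_mem hb) hh.1) ha, ?_, ?_⟩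
  · rw [mul_smul, mul_smul, hao, show h • refOct = refOct from hh.2 _ List.mem_cons_self, ← hbo,
      inv_smul_smul]
  · rw [mul_smul, mul_smul, hhs, inv_smul_smul]

end Cfsg.Agent.Golay
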