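import Cfsg.Agent.Lib.Golay.Odd24Data
import Cfsg.Agent.Lib.Golay.OctadStab
import Cfsg.Agent.Lib.Golay.Local.SextetKernel
import Cfsg.Agent.Lib.Golay.Local.TrioKernel
import Cfsg.Agent.Lib.Golay.Local.M11Tables

/-! Subgroups of index 759, 1771 and 253 in the group of the code. -/

namespace Cfsg.Agent.Golay.Odd24

open Cfsg Cfsg.Agent.PermCert Cfsg.Agent.Golay Cfsg.Agent.Golay.Local
open scoped Pointwise

set_option maxRecDepth 10000

/-! ### The two-group -/

/-- An entry of the pc sequence. -/
def pg (i : ℕ) : Elt := pcGens.getD i (0, 0)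

/-- The code of a word. -/
def wordC (w : List ℕ) : ℕ := w.foldr (fun i r => cmpF (pg i).1 r) idC

/-- The checks of the pc sequence. -/
def pcOK : Bool :=
  (List.range 10).all fun i => eltOK (pg i) && (pcSq.getD i []).all (fun j => Nat.blt j i) &&
    sameF (cmpF (pg i).1 (pg i).1) (wordC (pcSq.getD i [])) &&
    (List.range i).all fun j => ((pcConj.getD i []).getD j []).all (fun l => Nat.blt l i) &&
      sameF (cmpF (pg i).1 (pg j).1) (cmpF (wordC ((pcConj.getD i []).getD j [])) (pg i).1)

theorem pc_ok : pcOK = true := by decide +kernel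

attribute [local irreducible] cmpF pcGens pcConj pcSq idC

theorem wordC_cons (l : ℕ) (w : List ℕ) : wordC (l :: w) = cmpF (pg l).1 (wordC w) := by
  simp only [wordC, List.foldr_cons]

theorem wordC_nil : wordC [] = idC := by simp only [wordC, List.foldr_nil]

attribute [local irreducible] wordC

/-- An element of the pc sequence. -/
noncomputable def g (i : ℕ) : M24 := gOf (pg i)

theorem g_ok {i : ℕ} (hi : i < 10) : eltOK (pg i) = true := by
  have h := List.all_eq_true.1 pc_ok i (List.mem_range.2 hi)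
  simp only [Bool.and_eq_true] at h
  exact h.1.1.1

theorem code_word {K : Subgroup M24} {w : List ℕ} (h : ∀ l ∈ w, l < 10 ∧ g l ∈ K) :
    ∃ x ∈ K, Code (wordC w) (x : Equiv.Perm GolayPt) := by
  induction w with
  | nil => exact ⟨1, one_mem K, by rw [wordC_nil]; exact code_idC⟩
  | cons l w ih =>
    obtain ⟨hl, hK⟩ := h l List.mem_cons_self
    obtain ⟨x, hx, hc⟩ := ih fun a ha => h a (List.mem_cons_of_mem _ ha)
    refine ⟨g l * x, K.mul_mem hK hx, ?_⟩
    rw [wordC_cons]
    exact (code_gOf (g_ok hl)).cmp hc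

/-- The subgroup generated by the first members of the pc sequence. -/
noncomputable def K (n : ℕ) : Subgroup M24 := Subgroup.closure (g '' {j | j < n})

theorem isPGroup_K : ∀ n, n ≤ 10 → IsPGroup 2 (K n) := by
  intro n
  induction n with
  | zero =>
    intro _
    have : K 0 = ⊥ := by simp [K]
    rw [this]
    exact IsPGroup.of_bot
  | succ n ih =>
    intro hn
    have hi : n < 10 := hn
    have ihn := ih (Nat.le_of_succ_le hn)
    have hmem : ∀ l, l < n → g l ∈ K n := fun l hl => Subgroup.subset_closure ⟨l, hl, rfl⟩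
    have h := List.all_eq_true.1 pc_ok n (List.mem_range.2 hi)
    simp only [Bool.and_eq_true, List.all_eq_true, Nat.blt_eq, List.mem_range] at h
    obtain ⟨⟨⟨-, hsqw⟩, hsq⟩, hcj⟩ := h
    obtain ⟨x, hx, hcx⟩ := code_word (K := K n) (w := pcSq.getD n [])
      fun l hl => ⟨(hsqw l hl).trans hi, hmem l (hsqw l hl)⟩
    have hgn := code_gOf (g_ok hi)
    have hsq' : g n ^ 2 = x := Subtype.ext (by
      rw [pow_two]
      exact (sameF_iff (hgn.cmp hgn) hcx).1 hsq)
    have hconj : ∀ y ∈ K n, g n * y * (g n)⁻¹ ∈ K n := by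
      intro y hy
      induction hy using Subgroup.closure_induction with
      | mem z hz =>
        obtain ⟨j, hj, rfl⟩ := hz
        obtain ⟨hw, he⟩ := hcj j hj
        obtain ⟨u, hu, hcu⟩ := code_word (K := K n) (w := (pcConj.getD n []).getD j [])
          fun l hl => ⟨(hw l hl).trans hi, hmem l (hw l hl)⟩
        have e : g n * g j = u * g n := Subtype.ext
          ((sameF_iff (hgn.cmp (code_gOf (g_ok ((hj : j < n).trans hi)))) (hcu.cmp hgn)).1 he)
        rw [e, mul_inv_cancel_right]; exact hu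
      | one => rw [mul_one, mul_inv_cancel]; exact one_mem _
      | mul a b _ _ ha hb =>
        have := (K n).mul_mem ha hb
        rwa [show g n * a * (g n)⁻¹ * (g n * b * (g n)⁻¹) = g n * (a * b) * (g n)⁻¹ by group] at this
      | inv a _ ha =>
        have := (K n).inv_mem ha
        rwa [show (g n * a * (g n)⁻¹)⁻¹ = g n * a⁻¹ * (g n)⁻¹ by group] at this
    have hnorm : g n ∈ Subgroup.normalizer (K n : Set M24) := by
      have hle : (K n).map (MulAut.conj (g n)).toMonoidHom ≤ K n := by
        rintro _ ⟨y, hy, rfl⟩; exact hconj y hy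
      have heq := Subgroup.eq_of_le_of_card_ge hle
        (by rw [Subgroup.card_map_of_injective (MulEquiv.injective _)])
      rw [Subgroup.mem_normalizer_iff]
      refine fun y => ⟨hconj y, fun hy => ?_⟩
      rw [← heq] at hy
      obtain ⟨z, hz, e⟩ := hy
      exact (mul_left_cancel (mul_right_cancel e) : z = y) ▸ hz
    obtain ⟨m, hm⟩ := ihn ⟨x, hx⟩
    have hord : g n ^ 2 ^ (m + 1) = 1 := by
      rw [pow_succ', pow_mul, hsq']
      exact congrArg Subtype.val hm
    have hcyc : IsPGroup 2 (Subgroup.zpowers (g n)) := by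
      obtain ⟨k, -, hk⟩ := (Nat.dvd_prime_pow Nat.prime_two).1 (orderOf_dvd_of_pow_eq_one hord)
      exact IsPGroup.of_card (n := k) (by rw [Nat.card_zpowers, hk])
    refine (hcyc.to_sup_of_normal_right' ihn (Subgroup.zpowers_le.2 hnorm)).to_le ?_
    rw [K, Subgroup.closure_le]
    rintro _ ⟨j, hj, rfl⟩
    rcases Nat.lt_succ_iff_lt_or_eq.1 hj with hj | rfl
    · exact Subgroup.mem_sup_right (hmem j hj)
    · exact Subgroup.mem_sup_left (Subgroup.mem_zpowers _)

/-! ### Orbits -/

/-- A class of singletons. -/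
def ptCls (i : ℕ) : List ℕ := orbitMem (ptOrbs.getD i (0, [])).1 (ptOrbs.getD i (0, [])).2

/-- A class of octads. -/
def octCls (i : ℕ) : List ℕ := orbitMem (octOrbs.getD i (0, [])).1 (octOrbs.getD i (0, [])).2

/-- The root of a class of octads. -/
def octRootN (i : ℕ) : ℕ := (octOrbs.getD i (0, [])).1

theorem trees_ok : (∀ i < 2, orbitGo imgMask pcGens [(ptOrbs.getD i (0, [])).1] (ptOrbs.getD i (0, [])).2 = true) ∧
    (∀ i < 14, orbitGo imgMask pcGens [(octOrbs.getD i (0, [])).1] (octOrbs.getD i (0, [])).2 = true) ∧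
    pcGens.length = 10 := by
  refine ⟨by decide +kernel, by decide +kernel, by decide +kernel⟩

theorem pt_facts : (∀ p : Fin 24, memB (1 <<< (p : ℕ)) (ptCls (bif (octRootN 0).testBit p then 0 else 1)) = true) := by
  decide +kernel

theorem part_facts : (List.flatten ((List.range 14).map octCls)).length = 759 ∧
    (octadList.all fun m => memB m (List.flatten ((List.range 14).map octCls))) = true ∧
    octCls 0 = [octRootN 0] ∧ (octadList.contains (octRootN 0)) = true := by
  refine ⟨by decide +kernel, by decide +kernel, by decide +kernel, by decide +kernel⟩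

theorem cnt_facts : (∀ i < 14, ∀ p < 24,
      ((octCls i).filter fun m => m.testBit p).length = (cntTab.getD i []).getD p 0) ∧
    ∀ i < 14, ∀ k < 3, ∀ j < 14,
      ((octCls j).filter fun m => meetsB (octRootN i) (2 * k) m).length = ((meetTab.getD i []).getD k []).getD j 0 := by
  refine ⟨by decide +kernel, by decide +kernel⟩

/-- A sum over the selected classes. -/
def selSum (m : ℕ) (f : ℕ → ℕ) : ℕ := (((List.range 14).filter m.testBit).map f).sum

/-- The selected octads. -/
def selList (m : ℕ) : List ℕ := ((List.range 14).filter m.testBit).flatMap octCls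

/-- The numerical conditions on a selection. -/
def selOK (m : ℕ) : Bool :=
  let t := selSum m fun i => (octCls i).length
  (Nat.beq (322560 % t) 0 || Nat.beq (138240 % t) 0 || Nat.beq (967680 % t) 0) &&
    ((List.range 24).all fun p => Nat.beq (selSum m fun i => (cntTab.getD i []).getD p 0)
      (selSum m fun i => (cntTab.getD i []).getD 0 0)) &&
    (List.range 14).all fun i => !(m.testBit i) || (List.range 3).all fun k =>
      Nat.beq (selSum m fun j => ((meetTab.getD i []).getD k []).getD j 0)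
        (selSum m fun j => ((meetTab.getD 0 []).getD k []).getD j 0)

theorem sel_facts : ((List.range 8192).all fun a =>
    !(selOK (2 * a + 1)) || (Nat.beq (2 * a + 1) 3 || Nat.beq (2 * a + 1) 15)) = true := by
  decide +kernel

theorem trio_facts : (selList 3).length = 3 ∧
    ((selList 3).all fun a => (selList 3).all fun b => Nat.beq a b || Nat.beq (a &&& b) 0) = true := by
  refine ⟨by decide +kernel, by decide +kernel⟩

theorem sextet_facts :
    ((selList 15).all fun a => (selList 15).all fun b =>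
      !(Nat.beq (popCount (a &&& b) 24) 4) || memB (a &&& b) tetrads) = true ∧
    (tetrads.all fun t => (selList 15).any fun a => (selList 15).any fun b => Nat.beq (a &&& b) t) = true ∧
    tetrads.length = 6 ∧ tetrads.Nodup ∧ (tetrads.all fun t => Nat.beq (popCount t 24) 4 && Nat.blt t (2 ^ 24)) = true ∧
    (tetrads.all fun t => tetrads.all fun u => Nat.beq t u || memB (t ||| u) octadList) = true := by
  refine ⟨by decide +kernel, by decide +kernel, by decide +kernel, by decide +kernel, by decide +kernel,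
    by decide +kernel⟩

attribute [local irreducible] ptOrbs octOrbs cntTab meetTab octCls ptCls tetrads

theorem orbit_class {H : Subgroup M24} (hH : ∀ i < 10, g i ∈ H) {r : ℕ} {t : List (ℕ × ℕ × ℕ)}
    (ht : orbitGo imgMask pcGens [r] t = true) {m : ℕ} (hm : m ∈ orbitMem r t) :
    ∃ h ∈ H, h • maskSet r = maskSet m := by
  have hgens : ∀ e ∈ pcGens, ∃ i < 10, pg i = e := fun e he => by
    obtain ⟨i, hi, rfl⟩ := List.getElem_of_mem he
    exact ⟨i, trees_ok.2.2 ▸ hi, by rw [pg, List.getD_eq_getElem _ _ hi]⟩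
  obtain ⟨x, ⟨h, hh, rfl⟩, e⟩ := orbit_reach maskSet (H.map M24.subtype) (act := imgMask)
    (fun e he m => by
      obtain ⟨i, hi, rfl⟩ := hgens e he
      have h' := gOf_smul_maskSet (g_ok hi) m
      have hv := gOf_val (g_ok hi)
      rw [← hv]
      exact h')
    (fun e he => by
      obtain ⟨i, hi, rfl⟩ := hgens e he
      exact ⟨g i, hH i hi, gOf_val (g_ok hi)⟩) ht hm
  exact ⟨h, hh, e⟩

theorem flat_spec : (List.flatten ((List.range 14).map octCls)).Nodup ∧
    ∀ c, c ∈ octadList ↔ c ∈ List.flatten ((List.range 14).map octCls) := by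
  set L := List.flatten ((List.range 14).map octCls) with hL
  have hsub : octadList.toFinset ⊆ L.toFinset := fun c hc =>
    List.mem_toFinset.2 (memB_spec (List.all_eq_true.1 part_facts.2.1 c (List.mem_toFinset.1 hc)))
  have h1 : octadList.toFinset.card = 759 := by
    rw [List.toFinset_card_of_nodup octadList_nodup, octadList_length]
  have h2 := L.toFinset_card_le
  rw [part_facts.1] at h2
  have h3 := Finset.card_le_card hsub
  have heq := Finset.eq_of_subset_of_card_le hsub (by omega)
  refine ⟨?_, fun c => ?_⟩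
  · have hd : L.dedup.length = L.length := by rw [← List.card_toFinset, ← heq, h1, part_facts.1]
    exact (List.dedup_sublist L).eq_of_length hd ▸ List.nodup_dedup L
  rw [← List.mem_toFinset, heq, List.mem_toFinset]

theorem mem_selList {m c : ℕ} : c ∈ selList m ↔ ∃ i < 14, m.testBit i = true ∧ c ∈ octCls i := by
  simp [selList, and_assoc]

theorem mem_flat {c : ℕ} : c ∈ octadList ↔ ∃ i < 14, c ∈ octCls i := by
  rw [flat_spec.2]; simp

theorem selList_nodup (m : ℕ) : (selList m).Nodup := by
  refine flat_spec.1.sublist ?_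
  rw [selList, List.flatMap_def]
  exact (List.filter_sublist.map octCls).flatten

theorem cls_octad {i c : ℕ} (hi : i < 14) (hc : c ∈ octCls i) : maskSet c ∈ octads :=
  mem_octads.2 ⟨c, mem_flat.2 ⟨i, hi, hc⟩, rfl⟩

theorem selList_lt {m c : ℕ} (hc : c ∈ selList m) : c < 2 ^ 24 := by
  obtain ⟨i, hi, -, hc⟩ := mem_selList.1 hc
  exact lt_of_mem_octadList (mem_flat.2 ⟨i, hi, hc⟩)

theorem selCount (m : ℕ) (b : ℕ → Bool) :
    ((selList m).filter b).length = selSum m fun i => ((octCls i).filter b).length := by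
  rw [selList, selSum, List.filter_flatMap, List.length_flatMap]

/-- The union of the selected classes. -/
def selSet (m : ℕ) : Finset (Finset GolayPt) := (selList m).toFinset.image maskSet

theorem mem_selSet {m : ℕ} {c : Finset GolayPt} : c ∈ selSet m ↔ ∃ x ∈ selList m, maskSet x = c := by
  simp [selSet]

theorem count_sel {m : ℕ} (P : Finset GolayPt → Prop) (b : ℕ → Bool)
    (hP : ∀ x, P (maskSet x) ↔ b x = true) :
    {c | c ∈ selSet m ∧ P c}.ncard = selSum m fun i => ((octCls i).filter b).length := by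
  rw [← selCount, ← ncard_filter_image (selList_nodup m) (fun c hc => selList_lt hc) P b fun x _ => hP x]
  congr 1
  ext c
  simp only [Set.mem_ofPred_eq, mem_selSet]

/-! ### The standard case -/

/-- The fixed octad. -/
def stdO : Finset GolayPt := maskSet (octRootN 0)

theorem stdO_mem : stdO ∈ octads :=
  mem_octads.2 ⟨_, List.contains_iff_mem.1 part_facts.2.2.2, rfl⟩

theorem card_stab_octad {o : Finset GolayPt} (ho : o ∈ octads) :
    Nat.card (MulAction.stabilizer M24 o) = 322560 := by
  have h : MulAction.orbit M24 o = octads := by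
    ext X
    exact ⟨by rintro ⟨a, rfl⟩; exact smul_mem_octads a.2 ho, fun hX => exists_smul_octad ho hX⟩
  have h1 := Subgroup.index_mul_card (MulAction.stabilizer M24 o)
  rw [MulAction.index_stabilizer, h, ncard_octads, card_M24] at h1
  omega

theorem card_stab_trio {T : Finset (Finset GolayPt)} (hT : T ∈ trios) :
    Nat.card (MulAction.stabilizer M24 T) = 64512 := by
  obtain ⟨a, ha⟩ := exists_smul_stdTrio hT
  rw [← card_stab_stdTrio]
  exact Nat.card_congr (MulAction.stabilizerEquivStabilizer ha.symm).toEquiv.symm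

theorem tetradSet_mem : tetrads.toFinset.image maskSet ∈ sextets := by
  obtain ⟨-, -, hlen, hnd, hcard, hun⟩ := sextet_facts
  simp only [List.all_eq_true, Bool.and_eq_true, Nat.beq_eq, Nat.blt_eq] at hcard
  refine ⟨?_, fun t ht => ?_, fun t ht u hu hne => ?_⟩
  · rw [Finset.card_image_of_injOn, List.toFinset_card_of_nodup hnd, hlen]
    intro a ha b hb e
    rw [Finset.mem_coe, List.mem_toFinset] at ha hb
    exact maskSet_inj (hcard a ha).2 (hcard b hb).2 e
  · obtain ⟨a, ha, rfl⟩ := Finset.mem_image.1 ht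
    rw [card_maskSet]; exact (hcard a (List.mem_toFinset.1 ha)).1
  · obtain ⟨a, ha, rfl⟩ := Finset.mem_image.1 ht
    obtain ⟨b, hb, rfl⟩ := Finset.mem_image.1 hu
    have := List.all_eq_true.1 (List.all_eq_true.1 hun a (List.mem_toFinset.1 ha)) b (List.mem_toFinset.1 hb)
    simp only [Bool.or_eq_true, Nat.beq_eq] at this
    rcases this with e | e
    · exact absurd (by rw [e]) hne
    · rw [← maskSet_or]; exact mem_octads.2 ⟨_, memB_spec e, rfl⟩

theorem std_case {H : Subgroup M24} (hH : ∀ i < 10, g i ∈ H)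
    (hcard : Nat.card H = 322560 ∨ Nat.card H = 138240 ∨ Nat.card H = 967680) :
    (∃ o ∈ octads, H ≤ MulAction.stabilizer M24 o) ∨ (∃ T ∈ trios, H ≤ MulAction.stabilizer M24 T) ∨
      ∃ S ∈ sextets, H ≤ MulAction.stabilizer M24 S := by
  classical
  have hcls : ∀ i < 14, ∀ c ∈ octCls i, ∃ h ∈ H, h • maskSet (octRootN i) = maskSet c := fun i hi c hc =>
    orbit_class hH (trees_ok.2.1 i hi) (by unfold octCls at hc; exact hc)
  have hpt : ∀ p : GolayPt, ∃ h ∈ H, h • maskSet (ptOrbs.getD (bif (octRootN 0).testBit (idx p) then 0 else 1) (0, [])).1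
      = ({p} : Finset GolayPt) := fun p => by
    have hp := memB_spec (pt_facts ⟨idx p, idx_lt p⟩)
    obtain ⟨h, hh, e⟩ := orbit_class hH (trees_ok.1 (bif (octRootN 0).testBit (idx p) then 0 else 1)
      (by cases (octRootN 0).testBit (idx p) <;> decide)) (by unfold ptCls at hp; exact hp)
    refine ⟨h, hh, e.trans ?_⟩
    rw [maskSet_pow ⟨idx p, idx_lt p⟩, pt_idx]
  by_cases htr : ∀ p q : GolayPt, ∃ h ∈ H, h • p = q
  swap
  · refine Or.inl ⟨stdO, stdO_mem, ?_⟩
    push Not at htr
    obtain ⟨p, q, hpq⟩ := htr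
    have hside : ∀ a b : GolayPt, (a ∈ stdO ↔ b ∈ stdO) → ∃ h ∈ H, h • a = b := by
      intro a b hab
      obtain ⟨x, hx, ex⟩ := hpt a
      obtain ⟨y, hy, ey⟩ := hpt b
      have hb : (octRootN 0).testBit (idx a) = (octRootN 0).testBit (idx b) := by
        rw [stdO, mem_maskSet, mem_maskSet] at hab
        exact Bool.eq_iff_iff.2 hab
      rw [hb, eq_inv_smul_iff.2 ey] at ex
      refine ⟨y * x⁻¹, H.mul_mem hy (H.inv_mem hx), Finset.singleton_injective ?_⟩
      rw [← Finset.smul_finset_singleton, ← ex, ← mul_smul, ← mul_smul]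
      simp
    intro h hh
    rw [MulAction.mem_stabilizer_iff]
    by_contra hne
    obtain ⟨a, ha, ha'⟩ : ∃ a, a ∈ stdO ∧ h • a ∉ stdO := by
      by_contra hc
      push Not at hc
      refine hne (Finset.eq_of_subset_of_card_le (fun z hz => ?_) (by rw [Finset.card_smul_finset]))
      obtain ⟨w, hw, rfl⟩ := Finset.mem_smul_finset.1 hz
      exact hc w hw
    have any : ∀ z, ∃ k ∈ H, k • a = z := fun z => by
      by_cases hz : z ∈ stdO
      · exact hside a z (iff_of_true ha hz)
      · obtain ⟨k, hk, e⟩ := hside (h • a) z (iff_of_false ha' hz)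
        exact ⟨k * h, H.mul_mem hk hh, by rw [mul_smul, e]⟩
    obtain ⟨x, hx, ex⟩ := any p
    obtain ⟨y, hy, ey⟩ := any q
    exact hpq (y * x⁻¹) (H.mul_mem hy (H.inv_mem hx)) (by rw [← ex, ← ey, mul_smul, inv_smul_smul])
  right
  set U : Set (Finset GolayPt) := MulAction.orbit H stdO with hU
  have hUinv : ∀ h ∈ H, ∀ c, h • c ∈ U ↔ c ∈ U := fun h hh c =>
    ⟨fun hc => by
      have := MulAction.mem_orbit_of_mem_orbit (⟨h, hh⟩⁻¹ : H) hc
      rwa [show (⟨h, hh⟩⁻¹ : H) • (h • c) = c from inv_smul_smul h c] at this,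
    fun hc => MulAction.mem_orbit_of_mem_orbit (⟨h, hh⟩ : H) hc⟩
  have hroot0 : stdO ∈ U := MulAction.mem_orbit_self _
  let m := mkMask (fun i => decide (maskSet (octRootN i) ∈ U)) 14
  have hm : ∀ i < 14, (m.testBit i = true ↔ maskSet (octRootN i) ∈ U) := fun i hi => by
    simp [m, testBit_mkMask, hi]
  have hmem : ∀ i < 14, ∀ c ∈ octCls i, (maskSet c ∈ U ↔ m.testBit i = true) := fun i hi c hc => by
    obtain ⟨h, hh, e⟩ := hcls i hi c hc
    rw [← e, hUinv h hh, hm i hi]
  have hUset : U = (selSet m : Set (Finset GolayPt)) := by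
    ext s
    rw [Finset.mem_coe, mem_selSet]
    constructor
    · intro hs
      obtain ⟨⟨a, ha⟩, rfl⟩ := hs
      obtain ⟨c, hc, e⟩ := mem_octads.1 (smul_mem_octads (a : M24).2 stdO_mem)
      obtain ⟨i, hi, hci⟩ := mem_flat.1 hc
      refine ⟨c, mem_selList.2 ⟨i, hi, (hmem i hi c hci).1 ?_, hci⟩, e⟩
      rw [e]; exact ⟨⟨a, ha⟩, rfl⟩
    · rintro ⟨c, hc, rfl⟩
      obtain ⟨i, hi, hb, hci⟩ := mem_selList.1 hc
      exact (hmem i hi c hci).2 hb
  have hselinv : ∀ h ∈ H, ∀ c, h • c ∈ selSet m ↔ c ∈ selSet m := fun h hh c => by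
    rw [← Finset.mem_coe, ← Finset.mem_coe, ← hUset]; exact hUinv h hh c
  have hb0 : m.testBit 0 = true := (hm 0 (by norm_num)).2 hroot0
  have htot : selSum m (fun i => (octCls i).length) ∣ Nat.card H := by
    have := count_sel (m := m) (fun _ => True) (fun _ => true) (fun _ => by simp)
    simp only [and_true, List.filter_true] at this
    rw [← this, show {c | c ∈ selSet m} = MulAction.orbit H stdO from hUset.symm, ← MulAction.index_stabilizer]
    exact Subgroup.index_dvd_card _
  have hcnt : ∀ p < 24, selSum m (fun i => (cntTab.getD i []).getD p 0) =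
      selSum m fun i => (cntTab.getD i []).getD 0 0 := by
    have key : ∀ p < 24, selSum m (fun i => (cntTab.getD i []).getD p 0) =
        {c | c ∈ selSet m ∧ pt (Fin.ofNat 24 p) ∈ c}.ncard := fun p hp => by
      rw [count_sel (fun c => pt (Fin.ofNat 24 p) ∈ c) (fun x => x.testBit p) fun x => by
        rw [mem_maskSet, idx_pt, Fin.val_ofNat, Nat.mod_eq_of_lt hp]]
      unfold selSum
      congr 1
      exact List.map_congr_left fun i hi => (cnt_facts.1 i (List.mem_range.1 (List.mem_filter.1 hi).1) p hp).symm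
    intro p hp
    rw [key p hp, key 0 (by norm_num)]
    obtain ⟨h, hh, e⟩ := htr (pt (Fin.ofNat 24 0)) (pt (Fin.ofNat 24 p))
    rw [← Set.ncard_image_of_injective {c | c ∈ selSet m ∧ pt (Fin.ofNat 24 0) ∈ c} (MulAction.injective h)]
    congr 1
    ext c
    simp only [Set.mem_ofPred_eq, Set.mem_image]
    constructor
    · rintro ⟨hc, hpc⟩
      refine ⟨h⁻¹ • c, ⟨(hselinv _ (H.inv_mem hh) c).2 hc, ?_⟩, smul_inv_smul h c⟩
      rwa [← Finset.smul_mem_smul_finset_iff h, e, smul_inv_smul]
    · rintro ⟨d, ⟨hd, hpd⟩, rfl⟩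
      exact ⟨(hselinv h hh d).2 hd, e ▸ Finset.smul_mem_smul_finset hpd⟩
  have hmeet : ∀ i < 14, m.testBit i = true → ∀ k < 3,
      selSum m (fun j => ((meetTab.getD i []).getD k []).getD j 0) =
        selSum m fun j => ((meetTab.getD 0 []).getD k []).getD j 0 := by
    have key : ∀ i < 14, ∀ k < 3, selSum m (fun j => ((meetTab.getD i []).getD k []).getD j 0) =
        {c | c ∈ selSet m ∧ (maskSet (octRootN i) ∩ c).card = 2 * k}.ncard := fun i hi k hk => by
      rw [count_sel (fun c => (maskSet (octRootN i) ∩ c).card = 2 * k) (meetsB (octRootN i) (2 * k))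
        fun x => meetsB_iff.symm]
      unfold selSum
      congr 1
      exact List.map_congr_left fun j hj =>
        (cnt_facts.2 i hi k hk j (List.mem_range.1 (List.mem_filter.1 hj).1)).symm
    intro i hi hbi k hk
    rw [key i hi k hk, key 0 (by norm_num) k hk]
    obtain ⟨⟨h, hh⟩, e⟩ := (hm i hi).1 hbi
    rw [← Set.ncard_image_of_injective {c | c ∈ selSet m ∧ (maskSet (octRootN 0) ∩ c).card = 2 * k}
      (MulAction.injective h)]
    congr 1
    ext c
    have e' : h • maskSet (octRootN 0) = maskSet (octRootN i) := e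
    simp only [Set.mem_ofPred_eq, Set.mem_image]
    constructor
    · rintro ⟨hc, hpc⟩
      refine ⟨h⁻¹ • c, ⟨(hselinv _ (H.inv_mem hh) c).2 hc, ?_⟩, smul_inv_smul h c⟩
      rwa [← Finset.card_smul_finset h, Finset.smul_finset_inter, e', smul_inv_smul]
    · rintro ⟨d, ⟨hd, hpd⟩, rfl⟩
      refine ⟨(hselinv h hh d).2 hd, ?_⟩
      rwa [← e', ← Finset.smul_finset_inter, Finset.card_smul_finset]
  have hok : selOK m = true := by
    simp only [selOK, Bool.and_eq_true, Bool.or_eq_true, List.all_eq_true, List.mem_range, Nat.beq_eq,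
      Bool.not_eq_true']
    refine ⟨⟨?_, hcnt⟩, fun i hi => ?_⟩
    · rcases hcard with e | e | e
      · exact Or.inl (Or.inl (Nat.mod_eq_zero_of_dvd (e ▸ htot)))
      · exact Or.inl (Or.inr (Nat.mod_eq_zero_of_dvd (e ▸ htot)))
      · exact Or.inr (Nat.mod_eq_zero_of_dvd (e ▸ htot))
    · cases hb : m.testBit i
      · exact Or.inl rfl
      · exact Or.inr fun k hk => hmeet i hi hb k hk
  have hm315 : m = 3 ∨ m = 15 := by
    have hlt : m < 2 ^ 14 := mkMask_lt _ _
    have hodd : m % 2 = 1 := by simpa [Nat.testBit_zero] using hb0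
    obtain ⟨a, ha⟩ : ∃ a, m = 2 * a + 1 := ⟨m / 2, by omega⟩
    have := List.all_eq_true.1 sel_facts a (List.mem_range.2 (by omega))
    rw [← ha, hok] at this
    simpa using this
  have hfix : ∀ h ∈ H, h • selSet m = selSet m := fun h hh =>
    Finset.eq_of_subset_of_card_le (fun z hz => by
      obtain ⟨c, hc, rfl⟩ := Finset.mem_smul_finset.1 hz
      exact (hselinv h hh c).2 hc) (by rw [Finset.card_smul_finset])
  rcases hm315 with e | e
  · left
    rw [e] at hfix
    refine ⟨selSet 3, ⟨?_, fun o ho => ?_, fun o ho o' ho' hne => ?_⟩, fun h hh => hfix h hh⟩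
    · rw [selSet, Finset.card_image_of_injOn, List.toFinset_card_of_nodup (selList_nodup 3), trio_facts.1]
      intro a ha b hb e
      rw [Finset.mem_coe, List.mem_toFinset] at ha hb
      exact maskSet_inj (selList_lt ha) (selList_lt hb) e
    · obtain ⟨c, hc, rfl⟩ := mem_selSet.1 ho
      obtain ⟨i, hi, -, hci⟩ := mem_selList.1 hc
      exact cls_octad hi hci
    · obtain ⟨a, ha, rfl⟩ := mem_selSet.1 ho
      obtain ⟨b, hb, rfl⟩ := mem_selSet.1 ho'
      have := List.all_eq_true.1 (List.all_eq_true.1 trio_facts.2 a ha) b hb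
      simp only [Bool.or_eq_true, Nat.beq_eq] at this
      rcases this with e | e
      · exact absurd (by rw [e]) hne
      · rw [Finset.disjoint_iff_inter_eq_empty, ← Finset.card_eq_zero, ← maskSet_and, card_maskSet, e]
        decide
  · right
    rw [e] at hfix
    refine ⟨_, tetradSet_mem, fun h hh => ?_⟩
    rw [MulAction.mem_stabilizer_iff]
    refine Finset.eq_of_subset_of_card_le (fun z hz => ?_) (by rw [Finset.card_smul_finset])
    obtain ⟨t, ht, rfl⟩ := Finset.mem_smul_finset.1 hz
    obtain ⟨x, hx, rfl⟩ := Finset.mem_image.1 ht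
    obtain ⟨hpair, hex, -, -, hcard4, -⟩ := sextet_facts
    have h4 := List.all_eq_true.1 hcard4 x (List.mem_toFinset.1 hx)
    simp only [Bool.and_eq_true, Nat.beq_eq] at h4
    obtain ⟨a, ha, hex'⟩ := List.any_eq_true.1 (List.all_eq_true.1 hex x (List.mem_toFinset.1 hx))
    obtain ⟨b, hb, hab⟩ := List.any_eq_true.1 hex'
    rw [Nat.beq_eq] at hab
    have img : ∀ c ∈ selList 15, ∃ d ∈ selList 15, maskSet d = h • maskSet c := fun c hc => by
      refine mem_selSet.1 ?_
      rw [← hfix h hh]
      exact Finset.smul_mem_smul_finset (mem_selSet.2 ⟨c, hc, rfl⟩)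
    obtain ⟨a', ha', ea⟩ := img a ha
    obtain ⟨b', hb', eb⟩ := img b hb
    have hz : h • maskSet x = maskSet (a' &&& b') := by
      rw [← hab, maskSet_and, Finset.smul_finset_inter, ← ea, ← eb, maskSet_and]
    have hc4 : popCount (a' &&& b') 24 = 4 := by
      rw [← card_maskSet, ← hz, Finset.card_smul_finset, card_maskSet]; exact h4.1
    have := List.all_eq_true.1 (List.all_eq_true.1 hpair a' ha') b' hb'
    simp only [hc4, Nat.beq_refl, Bool.not_true, Bool.false_or] at this
    rw [hz]
    exact Finset.mem_image.2 ⟨_, List.mem_toFinset.2 (memB_spec this), rfl⟩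

/-! ### The general case -/

theorem odd_index {H : Subgroup M24} {k : ℕ} (hk : k = 759 ∨ k = 1771 ∨ k = 253) (hH : H.index = k) :
    (k = 759 ∧ ∃ o ∈ octads, H = MulAction.stabilizer M24 o) ∨
      (k = 1771 ∧ ∃ S ∈ sextets, H = MulAction.stabilizer M24 S) := by
  haveI : Fact (Nat.Prime 2) := ⟨Nat.prime_two⟩
  obtain ⟨U, hU⟩ := (isPGroup_K 10 le_rfl).exists_le_sylow
  obtain ⟨P⟩ : Nonempty (Sylow 2 H) := inferInstance
  obtain ⟨T, hT⟩ := (P.2.map H.subtype).exists_le_sylow
  have hc := H.card_mul_index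
  rw [hH, card_M24] at hc
  have hTH : (T : Subgroup M24) ≤ H := by
    have : (T : Subgroup M24) = (P : Subgroup H).map H.subtype := by
      refine (Subgroup.eq_of_le_of_card_ge hT ?_).symm
      rw [Subgroup.card_map_of_injective H.subtype_injective, P.card_eq_multiplicity, T.card_eq_multiplicity]
      refine le_of_eq ?_
      congr 1
      have hH0 : Nat.card H ≠ 0 := Nat.card_pos.ne'
      have hk0 : k ≠ 0 := by omega
      rw [card_M24, ← hc, Nat.factorization_mul hH0 hk0, Finsupp.add_apply,
        Nat.factorization_eq_zero_of_not_dvd (n := k) (by omega), add_zero]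
    rw [this]
    exact Subgroup.map_subtype_le _
  obtain ⟨a, ha⟩ := MulAction.exists_smul_eq M24 T U
  set H' := H.map (MulAut.conj a).toMonoidHom with hH'
  have hgen : ∀ i < 10, g i ∈ H' := fun i hi => by
    have h1 : g i ∈ (U : Subgroup M24) := hU (Subgroup.subset_closure ⟨i, hi, rfl⟩)
    rw [← ha, Sylow.coe_subgroup_smul] at h1
    exact Subgroup.map_mono hTH h1
  have hcc : Nat.card H' = Nat.card H := Subgroup.card_map_of_injective (MulEquiv.injective _)
  have back : ∀ {α : Type} [MulAction M24 α] (x : α), H' ≤ MulAction.stabilizer M24 x →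
      H ≤ MulAction.stabilizer M24 (a⁻¹ • x) := by
    intro α _ x hx h hh
    have h1 := hx (Subgroup.mem_map_of_mem _ hh)
    rw [MulAction.mem_stabilizer_iff] at h1 ⊢
    have h2 : (a * h * a⁻¹) • x = x := h1
    rw [mul_smul, mul_smul, smul_eq_iff_eq_inv_smul] at h2
    exact h2
  have hdiv : ∀ {L : Subgroup M24}, H ≤ L → Nat.card H ∣ Nat.card L := fun h => Subgroup.card_dvd_of_le h
  rcases std_case hgen (by rw [hcc]; rcases hk with rfl | rfl | rfl <;> omega) with ⟨o, ho, h⟩ | ⟨T', hT', h⟩ | ⟨S, hS, h⟩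
  · have ho' : a⁻¹ • o ∈ octads := smul_mem_octads (a⁻¹).2 ho
    have hle := back o h
    have hd := hdiv hle
    rw [card_stab_octad ho'] at hd
    rcases hk with rfl | rfl | rfl
    · exact Or.inl ⟨rfl, _, ho', Subgroup.eq_of_le_of_card_ge hle (by rw [card_stab_octad ho']; omega)⟩
    · rw [show Nat.card H = 138240 by omega] at hd; norm_num at hd
    · rw [show Nat.card H = 967680 by omega] at hd; norm_num at hd
  · have hT'' : a⁻¹ • T' ∈ trios := smul_mem_trios (a⁻¹).2 hT'
    have hle := Nat.le_of_dvd (by norm_num) (card_stab_trio hT'' ▸ hdiv (back T' h))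
    rcases hk with rfl | rfl | rfl <;> omega
  · have hS' : a⁻¹ • S ∈ sextets := smul_mem_sextets (a⁻¹).2 hS
    have hle := back S h
    have hd := Nat.le_of_dvd (by norm_num) (card_stab_sextet hS' ▸ hdiv hle)
    rcases hk with rfl | rfl | rfl
    · omega
    · exact Or.inr ⟨rfl, _, hS', Subgroup.eq_of_le_of_card_ge hle (by rw [card_stab_sextet hS']; omega)⟩
    · omega

end Cfsg.Agent.Golay.Odd24
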