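import Cfsg.Agent.Lib.Golay.Mathieu

/-!
Orbit certificates in the group of the Golay code, and counting of masked sets.
-/

namespace Cfsg.Agent.Golay

open Cfsg Cfsg.Agent.PermCert
open scoped Pointwise

/-! ### Orbit trees -/

/-- Check a depth-first orbit tree: each entry `(k, g, m)` drops `k` entries from the stack, applies
the generator `g` to the top, and must get `m`, which is pushed. -/
def orbitGo (act : Elt → ℕ → ℕ) (gens : List Elt) : List ℕ → List (ℕ × ℕ × ℕ) → Bool
  | _, [] => true
  | stack, (k, g, m) :: rest =>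
    match stack.drop k with
    | [] => false
    | p :: s =>
      match gens[g]? with
      | none => false
      | some e => Nat.beq (act e p) m && orbitGo act gens (m :: p :: s) rest

/-- The vertices of an orbit tree. -/
def orbitMem (start : ℕ) (tree : List (ℕ × ℕ × ℕ)) : List ℕ := start :: tree.map fun t => t.2.2

theorem orbitGo_spec {X : Type*} [MulAction (Equiv.Perm GolayPt) X] (interp : ℕ → X)
    (H : Subgroup (Equiv.Perm GolayPt)) {act : Elt → ℕ → ℕ} {gens : List Elt}
    (hact : ∀ e ∈ gens, ∀ m, permOf e • interp m = interp (act e m))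
    (hH : ∀ e ∈ gens, permOf e ∈ H) {start : ℕ} :
    ∀ (tree : List (ℕ × ℕ × ℕ)) (stack : List ℕ),
      (∀ m ∈ stack, ∃ g ∈ H, g • interp start = interp m) → orbitGo act gens stack tree = true →
      ∀ t ∈ tree, ∃ g ∈ H, g • interp start = interp t.2.2 := by
  intro tree
  induction tree with
  | nil => intro _ _ _ t ht; exact absurd ht List.not_mem_nil
  | cons t tree ih =>
    obtain ⟨k, g, m⟩ := t
    intro stack hst h
    simp only [orbitGo] at h
    split at h
    · exact absurd h (by simp)
    · rename_i p s hdrop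
      split at h
      · exact absurd h (by simp)
      · rename_i e he
        simp only [Bool.and_eq_true, Nat.beq_eq] at h
        have hpm : ∀ x ∈ p :: s, x ∈ stack := fun x hx => List.mem_of_mem_drop (hdrop ▸ hx)
        obtain ⟨a, ha, hap⟩ := hst p (hpm p List.mem_cons_self)
        have he' : e ∈ gens := List.mem_of_getElem? he
        have hm : ∃ g ∈ H, g • interp start = interp m :=
          ⟨permOf e * a, mul_mem (hH e he') ha, by rw [mul_smul, hap, hact e he', h.1]⟩
        intro t ht
        rcases List.mem_cons.1 ht with rfl | ht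
        · exact hm
        · refine ih _ (fun x hx => ?_) h.2 t ht
          rcases List.mem_cons.1 hx with rfl | hx
          · exact hm
          · exact hst x (hpm x hx)

theorem orbit_reach {X : Type*} [MulAction (Equiv.Perm GolayPt) X] (interp : ℕ → X)
    (H : Subgroup (Equiv.Perm GolayPt)) {act : Elt → ℕ → ℕ} {gens : List Elt}
    (hact : ∀ e ∈ gens, ∀ m, permOf e • interp m = interp (act e m))
    (hH : ∀ e ∈ gens, permOf e ∈ H) {start : ℕ} {tree : List (ℕ × ℕ × ℕ)}
    (h : orbitGo act gens [start] tree = true) {m : ℕ} (hm : m ∈ orbitMem start tree) :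
    ∃ g ∈ H, g • interp start = interp m := by
  have h0 : ∃ g ∈ H, g • interp start = interp start := ⟨1, one_mem H, one_smul _ _⟩
  rcases List.mem_cons.1 hm with rfl | hm
  · exact h0
  · obtain ⟨t, ht, rfl⟩ := List.mem_map.1 hm
    exact orbitGo_spec interp H hact hH tree [start]
      (fun x hx => by rw [List.mem_singleton.1 hx]; exact h0) h t ht

/-- The generators are coded permutations in `stabIn inv`. -/
def gensOK (inv : List ℕ) (gens : List Elt) : Bool :=
  gens.all fun e => validElt 5 24 e && inStabB inv e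

theorem gensOK_spec {inv : List ℕ} {gens : List Elt} (h : gensOK inv gens = true) :
    ∀ e ∈ gens, validElt 5 24 e = true ∧ permOf e ∈ stabIn inv := fun e he => by
  have h' := List.all_eq_true.1 h e he
  simp only [Bool.and_eq_true] at h'
  exact ⟨h'.1, permOf_mem_stabIn h'.1 h'.2⟩

/-- The candidates satisfying `q` lie in one orbit of the generators on masks. -/
def classOK (inv : List ℕ) (gens : List Elt) (start : ℕ) (tree : List (ℕ × ℕ × ℕ))
    (cands : List ℕ) (q : ℕ → Bool) : Bool :=
  gensOK inv gens && orbitGo imgMask gens [start] tree &&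
    cands.all fun m => !(q m) || memB m (orbitMem start tree)

theorem class_transitive {inv : List ℕ} {gens : List Elt} {start : ℕ} {tree : List (ℕ × ℕ × ℕ)}
    {cands : List ℕ} {q : ℕ → Bool} (h : classOK inv gens start tree cands q = true) {m m' : ℕ}
    (hm : m ∈ cands) (hq : q m = true) (hm' : m' ∈ cands) (hq' : q m' = true) :
    ∃ g ∈ stabIn inv, g • maskSet m = maskSet m' := by
  simp only [classOK, Bool.and_eq_true, List.all_eq_true] at h
  obtain ⟨⟨hg, ho⟩, hc⟩ := h
  have key : ∀ m ∈ cands, q m = true → ∃ g ∈ stabIn inv, g • maskSet start = maskSet m := by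
    intro m hm hq
    have := hc m hm
    simp only [hq, Bool.not_true, Bool.false_or] at this
    exact orbit_reach maskSet (stabIn inv)
      (fun e he m => maskSet_imgMask (gensOK_spec hg e he).1 m)
      (fun e he => (gensOK_spec hg e he).2) ho (memB_spec this)
  obtain ⟨a, ha, ha'⟩ := key m hm hq
  obtain ⟨b, hb, hb'⟩ := key m' hm' hq'
  exact ⟨b * a⁻¹, mul_mem hb (inv_mem ha), by rw [mul_smul, ← ha', inv_smul_smul, hb']⟩

/-- The test "meets `o` in `k` points". -/
def meetsB (o k m : ℕ) : Bool := Nat.beq (popCount (o &&& m) 24) k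

theorem meetsB_iff {o k m : ℕ} : meetsB o k m = true ↔ (maskSet o ∩ maskSet m).card = k := by
  rw [meetsB, Nat.beq_eq, ← maskSet_and, card_maskSet]

theorem testBit_iff_mem {i : Fin 24} {m : ℕ} : m.testBit i = true ↔ pt i ∈ maskSet m := by
  rw [mem_maskSet, idx_pt]

/-! ### Counting masked sets -/

theorem ncard_filter_image {l : List ℕ} (hl : l.Nodup) (hlt : ∀ m ∈ l, m < 2 ^ 24)
    (P : Finset GolayPt → Prop) (Pb : ℕ → Bool) (hP : ∀ m ∈ l, (P (maskSet m) ↔ Pb m = true)) :
    {s : Finset GolayPt | (∃ m ∈ l, maskSet m = s) ∧ P s}.ncard = (l.filter Pb).length := by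
  rw [← ncard_image_maskSet (hl.filter Pb) (fun m hm => hlt m (List.mem_filter.1 hm).1)]
  congr 1
  ext s
  simp only [Set.mem_ofPred_eq, List.mem_filter]
  constructor
  · rintro ⟨⟨m, hm, rfl⟩, h⟩; exact ⟨m, ⟨hm, (hP m hm).1 h⟩, rfl⟩
  · rintro ⟨m, ⟨hm, h⟩, rfl⟩; exact ⟨⟨m, hm, rfl⟩, (hP m hm).2 h⟩

theorem ncard_octads_filter (P : Finset GolayPt → Prop) (Pb : ℕ → Bool)
    (hP : ∀ m, P (maskSet m) ↔ Pb m = true) :
    {s : Finset GolayPt | s ∈ octads ∧ P s}.ncard = (octadList.filter Pb).length := by
  simp only [mem_octads]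
  exact ncard_filter_image octadList_nodup (fun m => lt_of_mem_octadList) P Pb (fun m _ => hP m)

theorem ncard_dodecads_filter (P : Finset GolayPt → Prop) (Pb : ℕ → Bool)
    (hP : ∀ m, P (maskSet m) ↔ Pb m = true) :
    {s : Finset GolayPt | s ∈ dodecads ∧ P s}.ncard = (dodecadList.filter Pb).length := by
  simp only [mem_dodecads]
  exact ncard_filter_image dodecadList_nodup (fun m => lt_of_mem_dodecadList) P Pb (fun m _ => hP m)

theorem smul_mem_octads_iff {g : Equiv.Perm GolayPt} (hg : g ∈ M24) {o : Finset GolayPt} :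
    g • o ∈ octads ↔ o ∈ octads :=
  ⟨fun h => by simpa using smul_mem_octads (inv_mem hg) h, smul_mem_octads hg⟩

theorem smul_mem_dodecads_iff {g : Equiv.Perm GolayPt} (hg : g ∈ M24) {o : Finset GolayPt} :
    g • o ∈ dodecads ↔ o ∈ dodecads :=
  ⟨fun h => by simpa using smul_mem_dodecads (inv_mem hg) h, smul_mem_dodecads hg⟩

/-- A family invariant under the group, counted after moving by an element of the group. -/
theorem ncard_smul (g : Equiv.Perm GolayPt) (P Q : Finset GolayPt → Prop)
    (h : ∀ s, P s ↔ Q (g • s)) :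
    {s : Finset GolayPt | P s}.ncard = {s : Finset GolayPt | Q s}.ncard := by
  rw [← Set.ncard_image_of_injective _ (MulAction.injective g)]
  congr 1
  ext s
  simp only [Set.mem_image, Set.mem_ofPred_eq]
  constructor
  · rintro ⟨t, ht, rfl⟩; exact (h t).1 ht
  · intro hs; exact ⟨g⁻¹ • s, (h _).2 (by rwa [smul_inv_smul]), smul_inv_smul g s⟩

theorem card_inter_smul (g : Equiv.Perm GolayPt) (a b : Finset GolayPt) :
    (g • a ∩ g • b).card = (a ∩ b).card := by
  rw [← Finset.smul_finset_inter, Finset.card_smul_finset]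

theorem apply_mem_smul_iff (g : Equiv.Perm GolayPt) (p : GolayPt) (s : Finset GolayPt) :
    g p ∈ g • s ↔ p ∈ s := Finset.smul_mem_smul_finset_iff g

theorem conj_fix {X : Type*} [MulAction (Equiv.Perm GolayPt) X] {g h : Equiv.Perm GolayPt}
    {s s₀ : X} (hg : g • s = s₀) (hh : h • s₀ = s₀) : (g⁻¹ * h * g) • s = s := by
  rw [mul_smul, mul_smul, hg, hh, ← hg, inv_smul_smul]

theorem conj_map {X : Type*} [MulAction (Equiv.Perm GolayPt) X] {g h : Equiv.Perm GolayPt}
    {a b : X} (hh : h • g • a = g • b) : (g⁻¹ * h * g) • a = b := by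
  rw [mul_smul, mul_smul, hh, inv_smul_smul]

/-- All masks below `2 ^ n` with `k` bits. -/
def masksOfWeight : ℕ → ℕ → List ℕ
  | 0, 0 => [0]
  | 0, _ + 1 => []
  | n + 1, 0 => masksOfWeight n 0
  | n + 1, k + 1 => masksOfWeight n (k + 1) ++ (masksOfWeight n k).map (fun x => x ||| (1 <<< n))

theorem lt_of_mem_masksOfWeight : ∀ n k, ∀ m ∈ masksOfWeight n k, m < 2 ^ n ∧ popCount m n = k := by
  intro n
  induction n with
  | zero => intro k m hm; cases k <;> simp_all [masksOfWeight, popCount]
  | succ n ih =>
    intro k m hm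
    have hs : ∀ a, popCount a (n + 1)
        = bif a.testBit n then popCount a n + 1 else popCount a n := fun a => rfl
    have low : ∀ a, a < 2 ^ n → popCount a (n + 1) = popCount a n := fun a ha => by
      rw [hs, Nat.testBit_lt_two_pow ha, cond_false]
    cases k with
    | zero =>
      obtain ⟨h1, h2⟩ := ih 0 m hm
      exact ⟨h1.trans (Nat.pow_lt_pow_succ (by norm_num)), by rw [low m h1, h2]⟩
    | succ k =>
      simp only [masksOfWeight, List.mem_append, List.mem_map] at hm
      rcases hm with hm | ⟨x, hx, rfl⟩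
      · obtain ⟨h1, h2⟩ := ih _ m hm
        exact ⟨h1.trans (Nat.pow_lt_pow_succ (by norm_num)), by rw [low m h1, h2]⟩
      · obtain ⟨h1, h2⟩ := ih _ x hx
        refine ⟨Nat.or_lt_two_pow (h1.trans (Nat.pow_lt_pow_succ (by norm_num)))
          (by rw [Nat.one_shiftLeft]; exact Nat.pow_lt_pow_succ (by norm_num)), ?_⟩
        have hb : (x ||| 1 <<< n).testBit n = true := by simp [Nat.one_shiftLeft]
        rw [hs, hb, cond_true, popCount_eq]
        rw [popCount_eq] at h2
        rw [← h2]
        congr 2
        refine Finset.filter_congr fun i hi => ?_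
        have := Finset.mem_range.1 hi
        simp [Nat.one_shiftLeft, Nat.testBit_two_pow, this.ne']

theorem mem_masksOfWeight : ∀ n k m, m < 2 ^ n → popCount m n = k → m ∈ masksOfWeight n k := by
  intro n
  induction n with
  | zero =>
    intro k m hm hk
    obtain rfl : m = 0 := by simpa using hm
    simp [popCount] at hk
    subst hk
    simp [masksOfWeight]
  | succ n ih =>
    intro k m hm hk
    have hs : popCount m (n + 1) = bif m.testBit n then popCount m n + 1 else popCount m n := rfl
    cases hb : m.testBit n with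
    | false =>
      rw [hs, hb, cond_false] at hk
      have hlt : m < 2 ^ n := Nat.lt_pow_two_of_testBit _ fun i hi => by
        rcases eq_or_lt_of_le hi with rfl | hi
        · exact hb
        · exact Nat.testBit_lt_two_pow (hm.trans_le (Nat.pow_le_pow_right (by norm_num) hi))
      have := ih k m hlt hk
      cases k with
      | zero => simpa [masksOfWeight] using this
      | succ k => exact List.mem_append_left _ this
    | true =>
      rw [hs, hb, cond_true] at hk
      obtain ⟨k', rfl⟩ : ∃ k', k = k' + 1 := ⟨popCount m n, hk.symm⟩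
      refine List.mem_append_right _ (List.mem_map.2 ⟨m % 2 ^ n, ih k' _ (Nat.mod_lt _ (by positivity)) ?_, ?_⟩)
      · rw [popCount_eq] at hk ⊢
        rw [← Nat.succ_inj.1 (show _ + 1 = k' + 1 from hk)]
        congr 1
        refine Finset.filter_congr fun i hi => ?_
        simp [Nat.testBit_mod_two_pow, Finset.mem_range.1 hi]
      · refine Nat.eq_of_testBit_eq fun i => ?_
        simp only [Nat.testBit_or, Nat.testBit_mod_two_pow, Nat.one_shiftLeft, Nat.testBit_two_pow]
        rcases lt_trichotomy i n with h | rfl | h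
        · simp [h, h.ne']
        · simp [hb]
        · simp [h.not_gt, h.ne, Nat.testBit_lt_two_pow (hm.trans_le (Nat.pow_le_pow_right (by norm_num) h))]

theorem masksOfWeight_nodup : ∀ n k, (masksOfWeight n k).Nodup := by
  intro n
  induction n with
  | zero => intro k; cases k <;> simp [masksOfWeight]
  | succ n ih =>
    intro k
    cases k with
    | zero => exact ih 0
    | succ k =>
      refine List.nodup_append.2 ⟨ih _, (ih k).map_on ?_, ?_⟩
      · intro a ha b hb h
        have h1 := (lt_of_mem_masksOfWeight n k a ha).1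
        have h2 := (lt_of_mem_masksOfWeight n k b hb).1
        refine Nat.eq_of_testBit_eq fun i => ?_
        rcases Nat.lt_or_ge i n with hi | hi
        · have := congrArg (fun x => Nat.testBit x i) h
          simpa [Nat.one_shiftLeft, Nat.testBit_two_pow, hi.ne'] using this
        · rw [Nat.testBit_lt_two_pow (h1.trans_le (Nat.pow_le_pow_right (by norm_num) hi)),
            Nat.testBit_lt_two_pow (h2.trans_le (Nat.pow_le_pow_right (by norm_num) hi))]
      · intro a ha b hb h
        obtain ⟨x, -, rfl⟩ := List.mem_map.1 hb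
        subst h
        have := Nat.testBit_lt_two_pow (lt_of_mem_masksOfWeight n _ _ ha).1
        simp [Nat.one_shiftLeft] at this

theorem card_eq_iff_mask {k : ℕ} {s : Finset GolayPt} :
    s.card = k ↔ ∃ m ∈ masksOfWeight 24 k, maskSet m = s := by
  constructor
  · intro h
    exact ⟨toMask s, mem_masksOfWeight _ _ _ (toMask_lt s) (by rw [← card_maskSet, maskSet_toMask, h]),
      maskSet_toMask s⟩
  · rintro ⟨m, hm, rfl⟩
    rw [card_maskSet, (lt_of_mem_masksOfWeight _ _ _ hm).2]

theorem ncard_card_filter (k : ℕ) (P : Finset GolayPt → Prop) (Pb : ℕ → Bool)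
    (hP : ∀ m, P (maskSet m) ↔ Pb m = true) :
    {s : Finset GolayPt | s.card = k ∧ P s}.ncard = ((masksOfWeight 24 k).filter Pb).length := by
  simp only [card_eq_iff_mask]
  exact ncard_filter_image (masksOfWeight_nodup _ _)
    (fun m hm => (lt_of_mem_masksOfWeight _ _ _ hm).1) P Pb (fun m _ => hP m)

end Cfsg.Agent.Golay
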