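import Cfsg.Agent.Lib.Golay.Basic

/-!
Restriction of words from the 24 points to the 23 residues.
-/

namespace Cfsg.Agent.Golay

open Cfsg

/-- The restriction to the residues. -/
def rest23 (w : GolayPt → ZMod 2) : ZMod 23 → ZMod 2 := fun x => w (some x)

theorem idx_some (x : ZMod 23) : idx (some x) = x.val := rfl

theorem hammingNorm_rest23 (m : ℕ) : hammingNorm (rest23 (ofMask m)) = popCount m 23 := by
  rw [popCount_eq, hammingNorm]
  refine Finset.card_bij (fun x _ => x.val) ?_ ?_ ?_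
  · intro x hx
    have hx' := (Finset.mem_filter.1 hx).2
    simp only [rest23, ofMask, idx_some] at hx'
    simp only [Finset.mem_filter, Finset.mem_range]
    refine ⟨ZMod.val_lt x, ?_⟩
    by_contra h
    simp [h] at hx'

  · exact fun x _ y _ h => ZMod.val_injective 23 h
  · intro i hi
    simp only [Finset.mem_filter, Finset.mem_range] at hi
    have hv : (i : ZMod 23).val = i := by rw [ZMod.val_natCast, Nat.mod_eq_of_lt hi.1]
    exact ⟨(i : ZMod 23), Finset.mem_filter.2 ⟨Finset.mem_univ _,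
      by simp [rest23, ofMask, idx_some, hv, hi.2]⟩, hv⟩

theorem popCount23_le (m : ℕ) : popCount m 24 ≤ popCount m 23 + 1 := by
  have : popCount m 24 = bif m.testBit 23 then popCount m 23 + 1 else popCount m 23 := rfl
  rw [this]; cases m.testBit 23 <;> simp

theorem rest23_sub (a b : GolayPt → ZMod 2) : rest23 (a - b) = rest23 a - rest23 b := rfl

theorem code_eq_of_rest {a b : GolayPt → ZMod 2} (ha : a ∈ golayCode) (hb : b ∈ golayCode)
    (h : hammingNorm (rest23 a - rest23 b) ≤ 6) : a = b := by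
  obtain ⟨m, hm, hm'⟩ := mem_golayCode.1 (sub_mem ha hb)
  rw [← rest23_sub, ← hm', hammingNorm_rest23] at h
  have h2 := popCount23_le m
  have h0 : popCount m 24 = 0 := by
    rcases weight_cases hm with h' | h' | h' | h' | h' <;> omega
  rw [← hammingNorm_ofMask, hammingNorm_eq_zero, hm'] at h0
  exact sub_eq_zero.1 h0

theorem mem_punctured {u : ZMod 23 → ZMod 2} :
    (∃ w ∈ golayCode, ∀ x : ZMod 23, u x = w (some x)) ↔
      ∃ m ∈ codeList, rest23 (ofMask m) = u := by
  constructor
  · rintro ⟨w, hw, h⟩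
    obtain ⟨m, hm, rfl⟩ := mem_golayCode.1 hw
    exact ⟨m, hm, funext fun x => (h x).symm⟩
  · rintro ⟨m, hm, rfl⟩
    exact ⟨ofMask m, mem_golayCode.2 ⟨m, hm, rfl⟩, fun x => rfl⟩

theorem ncard_punctured (p : ℕ → Bool) :
    {u : ZMod 23 → ZMod 2 | ∃ m ∈ codeList.filter p, rest23 (ofMask m) = u}.ncard
      = (codeList.filter p).length := by
  classical
  rw [show {u : ZMod 23 → ZMod 2 | ∃ m ∈ codeList.filter p, rest23 (ofMask m) = u}
      = (((codeList.filter p).toFinset.image fun m => rest23 (ofMask m) : Finset _) : Set _) by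
    ext u; simp, Set.ncard_coe_finset, Finset.card_image_of_injOn,
    List.toFinset_card_of_nodup (codeList_nodup.filter p)]
  intro a ha b hb hab
  simp only [Finset.mem_coe, List.mem_toFinset, List.mem_filter] at ha hb
  refine ofMask_inj (lt_of_mem_codeList ha.1) (lt_of_mem_codeList hb.1)
    (code_eq_of_rest (mem_golayCode.2 ⟨a, ha.1, rfl⟩) (mem_golayCode.2 ⟨b, hb.1, rfl⟩) ?_)
  have e : rest23 (ofMask a) = rest23 (ofMask b) := hab
  rw [e, sub_self, hammingNorm_zero]; norm_num

theorem ncard_punctured_weight (k : ℕ) :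
    {u : ZMod 23 → ZMod 2 | (∃ w ∈ golayCode, ∀ x : ZMod 23, u x = w (some x)) ∧ hammingNorm u = k}.ncard
      = (codeList.filter fun m => Nat.beq (popCount m 23) k).length := by
  rw [← ncard_punctured]
  congr 1
  ext u
  simp only [Set.mem_ofPred_eq, mem_punctured, List.mem_filter, Nat.beq_eq]
  constructor
  · rintro ⟨⟨m, hm, rfl⟩, h⟩
    exact ⟨m, ⟨hm, by rw [← hammingNorm_rest23, h]⟩, rfl⟩
  · rintro ⟨m, ⟨hm, h⟩, rfl⟩
    exact ⟨⟨m, hm, rfl⟩, by rw [hammingNorm_rest23, h]⟩

end Cfsg.Agent.Golay
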