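import Cfsg.Agent.Lib.Golay.OrbitChecks

/-!
Orbits of the stabilisers of a triad and of two points and a pair on small sets.
-/

namespace Cfsg.Agent.Golay

open Cfsg Cfsg.Agent.PermCert Cfsg.Agent.Golay.Cert
open scoped Pointwise

/-- The octads over the reference triad. -/
def triadOctads : List ℕ :=
  [8398155, 8421811, 8505411, 8524371, 8536111, 8657159, 8716939, 8983587, 9347075, 9465987,
    9471495, 9963547, 10496547, 10765331, 11010247, 11731203, 12656663, 12717187, 13124355,
    13893731, 14716939]

/-- The octads over the reference four points. -/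
def fourOctads : List ℕ := [8536111, 8657159, 9471495, 11010247, 12656663]

/-- The reference triad. -/
abbrev refTriad : ℕ := 8388611

/-- The reference four points. -/
abbrev refFour : ℕ := 8388615

theorem triadOctads_eq : octadList.filter (fun o => Nat.beq (o &&& refTriad) refTriad) = triadOctads :=
  beqList_spec _ _ (by decide +kernel)

theorem fourOctads_eq : octadList.filter (fun o => Nat.beq (o &&& refFour) refFour) = fourOctads :=
  beqList_spec _ _ (by decide +kernel)

theorem maskSet_subset_iff {a o : ℕ} (ha : a < 2 ^ 24) :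
    maskSet a ⊆ maskSet o ↔ o &&& a = a := by
  constructor
  · intro h
    refine maskSet_inj (Nat.and_lt_two_pow o ha) ha ?_
    rw [maskSet_and, Finset.inter_eq_right.2 h]
  · intro h
    rw [← h, maskSet_and]
    exact Finset.inter_subset_left

/-- Whether a common octad exists. -/
def inOctB (L : List ℕ) (m : ℕ) : Bool := L.any fun o => Nat.beq (o &&& m) m

theorem inOctB_iff {a : ℕ} {L : List ℕ}
    (hL : octadList.filter (fun o => Nat.beq (o &&& a) a) = L) (ha : a < 2 ^ 24) {m : ℕ}
    (hm : m < 2 ^ 24) :
    (∃ o ∈ octads, maskSet a ∪ maskSet m ⊆ o) ↔ inOctB L m = true := by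
  subst hL
  simp only [inOctB, List.any_eq_true, List.mem_filter, Nat.beq_eq]
  constructor
  · rintro ⟨o, ho, h⟩
    obtain ⟨k, hk, rfl⟩ := mem_octads.1 ho
    rw [Finset.union_subset_iff, maskSet_subset_iff ha, maskSet_subset_iff hm] at h
    exact ⟨k, ⟨hk, h.1⟩, h.2⟩
  · rintro ⟨k, ⟨hk, h1⟩, h2⟩
    exact ⟨maskSet k, mem_octads.2 ⟨k, hk, rfl⟩,
      Finset.union_subset ((maskSet_subset_iff ha).2 h1) ((maskSet_subset_iff hm).2 h2)⟩

theorem triad_classes : classesOK [refTriad] triadGens
    [(1, triadRoot0a, triadTree0a), (0, triadRoot0b, triadTree0b)]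
    ((masksOfWeight 24 3).filter fun m => Nat.beq (m &&& refTriad) 0)
    (fun m => bif inOctB triadOctads m then 1 else 0) = true := by
  decide +kernel

/-- The key for pairs: intersection with the reference pair and the octad property. -/
def pairKey (m : ℕ) : ℕ := 2 * popCount (6 &&& m) 24 + bif inOctB fourOctads m then 1 else 0

theorem pair_classes : classesOK [1 <<< 23, 1 <<< 0, 6] pqsGens
    [(1, pqsRoot0a, pqsTree0a), (0, pqsRoot0b, pqsTree0b), (3, pqsRoot1a, pqsTree1a)]
    ((masksOfWeight 24 2).filter fun m =>
      Nat.beq (m &&& 8388609) 0 && !(Nat.beq m 6)) pairKey = true := by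
  decide +kernel

end Cfsg.Agent.Golay
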