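import Cfsg.Agent.Lib.Golay.OrbitChecks

/-!
The group of the Golay code on small sets: transitivity, orbits, and complements of dodecads.
-/

namespace Cfsg.Agent.Golay

open Cfsg Cfsg.Agent.PermCert
open scoped Pointwise

theorem exists_map_list {l l' : List GolayPt} (hl : l.Nodup) (hl' : l'.Nodup)
    (h : l.length = l'.length) (h5 : l.length ≤ 5) : ∃ g ∈ M24, l.map g = l' := by
  obtain ⟨g, hg, hgi⟩ := exists_M24_map' h5 (x := fun i => l.get i)
    (y := fun i => l'.get (i.cast h)) (List.nodup_iff_injective_get.1 hl)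
    ((List.nodup_iff_injective_get.1 hl').comp (Fin.cast_injective h))
  exact ⟨g, hg, List.ext_get (by simp [h]) fun i h1 h2 => by
    simpa using hgi ⟨i, by simpa using h1⟩⟩

theorem smul_eq_of_map {g : Equiv.Perm GolayPt} {A A' : Finset GolayPt}
    (h : A.toList.map g = A'.toList) : g • A = A' := by
  ext p
  rw [← Finset.mem_toList (s := A'), ← h, List.mem_map, Finset.mem_smul_finset]
  simp [Equiv.Perm.smul_def]

theorem exists_map_three {A B C A' B' C' : Finset GolayPt}
    (hAB : Disjoint A B) (hAC : Disjoint A C) (hBC : Disjoint B C)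
    (hAB' : Disjoint A' B') (hAC' : Disjoint A' C') (hBC' : Disjoint B' C')
    (hA : A.card = A'.card) (hB : B.card = B'.card) (hC : C.card = C'.card)
    (h5 : A.card + B.card + C.card ≤ 5) : ∃ g ∈ M24, g • A = A' ∧ g • B = B' ∧ g • C = C' := by
  have nd : ∀ {A B C : Finset GolayPt}, Disjoint A B → Disjoint A C → Disjoint B C →
      (A.toList ++ B.toList ++ C.toList).Nodup := by
    intro A B C h1 h2 h3
    simp only [List.nodup_append, Finset.nodup_toList, true_and, List.mem_append, Finset.mem_toList]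
    refine ⟨fun a ha b hb e => Finset.disjoint_left.1 h1 ha (e ▸ hb), fun a ha b hb e => ?_⟩
    rcases ha with ha | ha
    · exact Finset.disjoint_left.1 h2 ha (e ▸ hb)
    · exact Finset.disjoint_left.1 h3 ha (e ▸ hb)
  obtain ⟨g, hg, h⟩ := exists_map_list (nd hAB hAC hBC) (nd hAB' hAC' hBC') (by simp [hA, hB, hC])
    (by simpa [Nat.add_assoc] using h5)
  simp only [List.map_append] at h
  obtain ⟨h1, h2⟩ := List.append_inj h (by simp [hA, hB])
  obtain ⟨h0, h1⟩ := List.append_inj h1 (by simp [hA])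
  exact ⟨g, hg, smul_eq_of_map h0, smul_eq_of_map h1, smul_eq_of_map h2⟩

/-- Sets `t`, `t'` meeting `s` equally, with few points in all, are moved by the stabiliser of `s`. -/
theorem exists_fix_smul_eq {s t t' : Finset GolayPt} (ht : t.card = t'.card)
    (hi : (s ∩ t).card = (s ∩ t').card) (h5 : (s ∪ t).card ≤ 5) :
    ∃ g ∈ M24, g • s = s ∧ g • t = t' := by
  have e1 := Finset.card_sdiff_add_card_inter s t
  have e2 := Finset.card_sdiff_add_card_inter s t'
  have e3 := Finset.card_sdiff_add_card_inter t s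
  have e4 := Finset.card_sdiff_add_card_inter t' s
  rw [Finset.inter_comm t s] at e3
  rw [Finset.inter_comm t' s] at e4
  have e5 := Finset.card_union_add_card_inter s t
  obtain ⟨g, hg, h1, h2, h3⟩ := exists_map_three
    (A := s ∩ t) (B := s \ t) (C := t \ s) (A' := s ∩ t') (B' := s \ t') (C' := t' \ s)
    (Finset.disjoint_sdiff_inter s t).symm
    (Finset.disjoint_sdiff.mono_left Finset.inter_subset_left)
    disjoint_sdiff_sdiff
    (Finset.disjoint_sdiff_inter s t').symm
    (Finset.disjoint_sdiff.mono_left Finset.inter_subset_left)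
    disjoint_sdiff_sdiff hi (by omega) (by omega) (by omega)
  have hu : ∀ a b : Finset GolayPt, a ∩ b ∪ a \ b = a := fun a b => by
    ext p; simp only [Finset.mem_union, Finset.mem_inter, Finset.mem_sdiff]; tauto
  refine ⟨g, hg, ?_, ?_⟩
  · conv_lhs => rw [← hu s t]
    rw [Finset.smul_finset_union, h1, h2, hu]
  · conv_lhs => rw [← hu t s]
    rw [Finset.smul_finset_union, Finset.inter_comm t s, h1, h3, Finset.inter_comm s t', hu]

theorem orbit_sets {k : ℕ} (hk : k ≤ 5) {s : Finset GolayPt} (hs : s.card = k) :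
    MulAction.orbit M24 s = {t | t.card = k} := by
  ext t
  constructor
  · rintro ⟨g, rfl⟩
    exact (Finset.card_smul_finset (g : Equiv.Perm GolayPt) s).trans hs
  · intro ht
    obtain ⟨g, hg, h⟩ := exists_smul_eq (s := s) (t := t) (hs ▸ hk) (hs.trans ht.symm)
    exact ⟨⟨g, hg⟩, h⟩

theorem card_class {k : ℕ} (hk : k ≤ 5) {s : Finset GolayPt} (hs : s.card = k) (a : ℕ) {s0 : ℕ}
    (hs0 : popCount s0 24 = k) :
    {t : Finset GolayPt | t.card = k ∧ (s ∩ t).card = a}.ncard
      = ((masksOfWeight 24 k).filter fun m => meetsB s0 a m).length := by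
  obtain ⟨g, -, hgs⟩ := exists_smul_eq (s := s) (t := maskSet s0) (hs ▸ hk)
    (by rw [hs, card_maskSet, hs0])
  rw [← ncard_card_filter k (fun t => (maskSet s0 ∩ t).card = a) _ fun m => meetsB_iff.symm]
  exact ncard_smul g _ _ fun t => by rw [← hgs, card_inter_smul, Finset.card_smul_finset]

theorem compl_mem_dodecads {d : Finset GolayPt} (hd : d ∈ dodecads) : dᶜ ∈ dodecads := by
  obtain ⟨m, hm, rfl⟩ := mem_dodecads.1 hd
  have e : maskSet (16777215 ^^^ m) = (maskSet m)ᶜ := by
    ext p
    rw [mem_maskSet, Finset.mem_compl, mem_maskSet, Nat.testBit_xor, testBit_full (idx_lt p)]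
    cases m.testBit (idx p) <;> simp
  refine mem_dodecads.2 ⟨16777215 ^^^ m, mem_dodecadList.2 ⟨spanList_xor _ _ all_mem_codeList _
    (mem_dodecadList.1 hm).1, ?_⟩, e⟩
  rw [← card_maskSet, e, Finset.card_compl, card_maskSet, (mem_dodecadList.1 hm).2]
  decide

end Cfsg.Agent.Golay
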