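import Cfsg.Agent.Lib.Golay.SylowQuotData
import Mathlib.GroupTheory.Sylow
import Mathlib.GroupTheory.QuotientGroup.Basic

/-!
The quotient of a Sylow 2-subgroup of the Golay code group by its centre: a unique abelian subgroup of
order 64, and maximal subgroups have small centres.
-/

set_option autoImplicit false
set_option maxRecDepth 20000

namespace Cfsg.Agent.Golay.SylQ

open Cfsg Cfsg.Agent.PermCert Cfsg.Agent.Golay Cfsg.Agent.Golay.SB Subgroup

local notation "Pm" => Equiv.Perm GolayPt

theorem pack_congr {f g : ℕ → ℕ} : ∀ {n : ℕ}, (∀ i < n, f i = g i) → pack 5 f n = pack 5 g n := by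
  intro n
  induction n with
  | zero => intro _; rfl
  | succ n ih => intro h; rw [pack_succ, pack_succ, ih fun i hi => h i (by omega), h n (by omega)]

/-- The point of a number. -/
def ptN (k : ℕ) : GolayPt := pt ⟨k % 24, Nat.mod_lt _ (by norm_num)⟩

theorem idx_lt32 (p : GolayPt) : idx p % 2 ^ 5 = idx p := Nat.mod_eq_of_lt (lt_trans (idx_lt p) (by norm_num))

theorem idx_ptN {k : ℕ} (hk : k < 24) : idx (ptN k) = k := by
  rw [ptN, idx_pt]; exact Nat.mod_eq_of_lt hk

theorem ptN_idx (p : GolayPt) : ptN (idx p) = p := idx_injective (idx_ptN (idx_lt p))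

/-- The code of a permutation. -/
def code (σ : Pm) : ℕ := pack 5 (fun k => idx (σ (ptN k))) 24

theorem get_code (σ : Pm) (p : GolayPt) : get 5 (code σ) (idx p) = idx (σ p) := by
  rw [code, get_pack _ _ _ _ (idx_lt p), idx_lt32, ptN_idx]

theorem code_lt (σ : Pm) : code σ < 2 ^ 120 := pack_lt 5 _ 24

theorem code_injective : Function.Injective code := fun σ τ h => Equiv.ext fun p =>
  idx_injective (by rw [← get_code, ← get_code, h])

theorem code_mul (σ τ : Pm) : code (σ * τ) = cm (code σ) (code τ) := by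
  rw [cm, comp, code]
  refine pack_congr fun k hk => ?_
  have h1 : get 5 (code τ) k = idx (τ (ptN k)) := by
    have := get_code τ (ptN k); rwa [idx_ptN hk] at this
  rw [h1, get_code]
  rfl

theorem code_permOf {e : Elt} (he : validElt 5 24 e = true) (hlt : e.1 < 2 ^ 120) : code (permOf e) = e.1 := by
  refine eq_code_of_get (code_lt _) hlt fun i hi => ?_
  have := get_code (permOf e) (ptN i)
  rw [idx_permOf he, idx_ptN hi] at this
  exact this

theorem code_one : code (1 : Pm) = idCode 5 24 := by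
  rw [code, idCode]
  exact pack_congr fun k hk => by simp [idx_ptN hk]

/-- The listed element, in the Sylow subgroup. -/
def el (i : ℕ) (hi : i < 1024) : sylS := ⟨permOf (sylElt i), list_mem_sylS i hi⟩

theorem code_el (i : ℕ) (hi : i < 1024) : code (el i hi : Pm) = c i :=
  code_permOf (sylElt_spec hi).1 (sylElt_spec hi).2

theorem exists_el (σ : sylS) : ∃ i, ∃ hi : i < 1024, σ = el i hi := by
  obtain ⟨i, hi, he⟩ := sylS_mem_list σ.2
  exact ⟨i, hi, Subtype.ext he⟩

theorem gen_mem {g : Elt} (hg : g ∈ sylGens) : permOf g ∈ sylS := Subgroup.subset_closure ⟨g, hg, rfl⟩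

theorem code_gen {g : Elt} (hg : g ∈ sylGens) : code (permOf g) = g.1 :=
  code_permOf (sylGens_spec hg).1 ((by decide +kernel : ∀ g ∈ sylGens, g.1 < 2 ^ 120) g hg)

/-- The central involution. -/
def zE : sylS := el 740 (by norm_num)

theorem code_zE : code (zE : Pm) = zc := code_el _ _

theorem zE_comm (σ : sylS) : σ * zE = zE * σ := by
  have h : sylS ≤ centralizer ({(zE : Pm)} : Set Pm) := by
    show Subgroup.closure _ ≤ _
    rw [Subgroup.closure_le]
    rintro _ ⟨g, hg, rfl⟩
    rw [SetLike.mem_coe, mem_centralizer_singleton_iff]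
    refine code_injective ?_
    have hz := okC_true
    simp only [okC, Bool.and_eq_true, List.all_eq_true, Nat.beq_eq] at hz
    rw [code_mul, code_mul, code_gen hg, code_zE]
    exact (hz.2 g hg).symm
  exact Subtype.ext (mem_centralizer_singleton_iff.1 (h σ.2))

theorem mem_center_iff' (σ : sylS) : σ ∈ center sylS ↔ σ = 1 ∨ σ = zE := by
  constructor
  · intro h
    obtain ⟨i, hi, rfl⟩ := exists_el σ
    have hz := okC_true
    simp only [okC, Bool.and_eq_true] at hz
    have := allBelow_spec _ _ hz.1 i hi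
    simp only [Bool.or_eq_true, Bool.not_eq_true', Nat.beq_eq] at this
    rcases this with (rfl | rfl) | h'
    · exact Or.inl (Subtype.ext permOf_sylElt_zero)
    · exact Or.inr rfl
    · exfalso
      apply Bool.eq_false_iff.1 h'
      simp only [List.all_eq_true, Nat.beq_eq]
      intro g hg
      have hc := congrArg (fun x : sylS => code (x : Pm)) ((Subgroup.mem_center_iff.1 h) ⟨_, gen_mem hg⟩)
      simp only [Subgroup.coe_mul, code_mul, code_gen hg, code_el] at hc
      exact hc.symm
  · rintro (rfl | rfl)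
    · exact one_mem _
    · exact Subgroup.mem_center_iff.2 zE_comm

theorem zE_ne_one : zE ≠ 1 := by
  intro h
  have := congrArg (fun x : sylS => code (x : Pm)) h
  simp only [code_zE, Subgroup.coe_one, code_one] at this
  revert this
  decide +kernel

theorem card_center : Nat.card (center sylS) = 2 := by
  classical
  rw [Nat.card_eq_two_iff]
  refine ⟨1, ⟨zE, (mem_center_iff' _).2 (Or.inr rfl)⟩, fun h => zE_ne_one (congrArg Subtype.val h).symm, ?_⟩
  refine Set.eq_univ_of_forall fun x => ?_
  rcases (mem_center_iff' x.1).1 x.2 with h | h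
  · exact Or.inl (Subtype.ext h)
  · exact Or.inr (Subtype.ext h)

/-- The quotient. -/
abbrev Q : Type := ↥sylS ⧸ center ↥sylS

theorem mk_eq (σ τ : sylS) : (σ : Q) = τ ↔ eqz (code (σ : Pm)) (code (τ : Pm)) = true := by
  rw [QuotientGroup.eq, mem_center_iff', inv_mul_eq_one, inv_mul_eq_iff_eq_mul, eqz]
  simp only [Bool.or_eq_true, Nat.beq_eq]
  rw [← code_zE, ← code_mul, code_injective.eq_iff, code_injective.eq_iff, ← Subgroup.coe_mul,
    Subtype.coe_inj, Subtype.coe_inj]
  exact or_congr Iff.rfl eq_comm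

/-- The class of a listed element. -/
def q (i : ℕ) : Q := if h : i < 1024 then (el i h : Q) else 1

theorem q_of {i : ℕ} (hi : i < 1024) : q i = (el i hi : Q) := dif_pos hi

theorem q_comm {i j : ℕ} (hi : i < 1024) (hj : j < 1024) : q i * q j = q j * q i ↔ comB (c i) (c j) = true := by
  rw [q_of hi, q_of hj, ← QuotientGroup.mk_mul, ← QuotientGroup.mk_mul, mk_eq, comB]
  simp only [Subgroup.coe_mul, code_mul, code_el]

theorem card_Q : Nat.card Q = 512 := by
  have h := Subgroup.card_eq_card_quotient_mul_card_subgroup (center ↥sylS)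
  rw [card_sylS, card_center] at h
  change 1024 = Nat.card Q * 2 at h
  omega

theorem a_lt {a : ℕ} (ha : a ∈ aList) : a < 1024 := by
  have h := okA_true
  simp only [okA, Bool.and_eq_true, List.all_eq_true, Nat.blt_eq] at h
  exact h.1.1.1.1.1 a ha

theorem q_zero : q 0 = 1 := by
  rw [q_of (by norm_num)]
  exact congrArg (fun x : sylS => (x : Q)) (Subtype.ext permOf_sylElt_zero : el 0 (by norm_num) = 1)

theorem zero_mem_aList : 0 ∈ aList := by decide +kernel

theorem aList_mul {a b : ℕ} (ha : a ∈ aList) (hb : b ∈ aList) : ∃ d ∈ aList, q a * q b = q d := by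
  have h := okA_true
  simp only [okA, Bool.and_eq_true, List.all_eq_true, memA, List.any_eq_true, Nat.beq_eq] at h
  obtain ⟨k, hk, hx⟩ := h.1.1.1.1.2 a ha b hb
  obtain ⟨d, hd, he⟩ := h.1.1.1.2 k hk
  refine ⟨d, hd, ?_⟩
  rw [q_of (a_lt ha), q_of (a_lt hb), q_of (a_lt hd), ← QuotientGroup.mk_mul, eq_comm, mk_eq]
  simpa only [Subgroup.coe_mul, code_mul, code_el, hx] using he

theorem aList_sq {a : ℕ} (ha : a ∈ aList) : q a * q a = 1 := by
  have h := okA_true
  simp only [okA, Bool.and_eq_true, List.all_eq_true] at h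
  rw [q_of (a_lt ha), ← QuotientGroup.mk_mul, ← QuotientGroup.mk_one, mk_eq]
  simpa only [Subgroup.coe_mul, code_mul, code_el, Subgroup.coe_one, code_one] using h.1.2 a ha

/-- The elementary abelian subgroup of order 64. -/
def A : Subgroup Q where
  carrier := {x | ∃ a ∈ aList, q a = x}
  mul_mem' := by
    rintro _ _ ⟨a, ha, rfl⟩ ⟨b, hb, rfl⟩
    obtain ⟨d, hd, he⟩ := aList_mul ha hb
    exact ⟨d, hd, he.symm⟩
  one_mem' := ⟨0, zero_mem_aList, q_zero⟩
  inv_mem' := by
    rintro _ ⟨a, ha, rfl⟩
    exact ⟨a, ha, (inv_eq_of_mul_eq_one_right (aList_sq ha)).symm⟩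

theorem A_sq {x : Q} (hx : x ∈ A) : x ^ 2 = 1 := by
  obtain ⟨a, ha, rfl⟩ := hx
  rw [pow_two, aList_sq ha]

theorem A_elementary : Cfsg.IsElementaryAbelian 2 A := by
  refine ⟨⟨⟨fun x y => ?_⟩⟩, fun x hx => A_sq hx⟩
  have e : ∀ u : A, u⁻¹ = u := fun u => inv_eq_of_mul_eq_one_right (Subtype.ext (by
    have h := A_sq u.2
    rwa [pow_two] at h))
  have h := e (x * y)
  rw [_root_.mul_inv_rev, e x, e y] at h
  exact h.symm

theorem aList_length : aList.length = 64 := by decide +kernel

theorem card_A : Nat.card A = 64 := by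
  classical
  have h := okA_true
  simp only [okA, Bool.and_eq_true] at h
  let f : Fin 64 → A := fun i => ⟨q (aList[(i : ℕ)]'(aList_length.symm ▸ i.2 : (i : ℕ) < aList.length)), _, List.getElem_mem _, rfl⟩
  have hf : Function.Bijective f := by
    refine ⟨fun i j hij => ?_, fun x => ?_⟩
    · have h6 : ∀ i j : ℕ, j < i → (hi : i < 64) → q (aList.getD i 0) ≠ q (aList.getD j 0) := by
        intro i j hji hi he
        have := allBelow_spec _ _ (allBelow_spec _ _ h.2 i hi) j hji
        simp only [Bool.not_eq_true', Bool.eq_false_iff] at this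
        refine this ?_
        have hi' : i < aList.length := by rw [aList_length]; exact hi
        have hj' : j < aList.length := hji.trans hi'
        rw [List.getD_eq_getElem _ _ hi', List.getD_eq_getElem _ _ hj'] at he ⊢
        rw [q_of (a_lt (List.getElem_mem hi')), q_of (a_lt (List.getElem_mem hj')), mk_eq] at he
        simpa only [code_el] using he
      have he : q (aList.getD i 0) = q (aList.getD j 0) := by
        rw [List.getD_eq_getElem _ _ (show (i : ℕ) < aList.length by rw [aList_length]; exact i.2),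
          List.getD_eq_getElem _ _ (show (j : ℕ) < aList.length by rw [aList_length]; exact j.2)]
        exact congrArg Subtype.val hij
      rcases lt_trichotomy (i : ℕ) j with hlt | heq | hgt
      · exact absurd he.symm (h6 j i hlt j.2)
      · exact Fin.ext heq
      · exact absurd he (h6 i j hgt i.2)
    · obtain ⟨a, ha, hax⟩ := x.2
      obtain ⟨i, hi, rfl⟩ := List.getElem_of_mem ha
      exact ⟨⟨i, aList_length ▸ hi⟩, Subtype.ext hax⟩
  rw [← Nat.card_eq_of_bijective f hf, Nat.card_fin]

theorem rList_length : rList.length = 8 := by decide +kernel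

/-- The coset representative. -/
def r (i : Fin 8) : Q := q (rList.getD i 0)

theorem r_lt (i : Fin 8) : rList.getD i 0 < 1024 := by revert i; decide +kernel

theorem r_zero : r 0 = 1 := q_zero

theorem coset_inj {i j : Fin 8} {a b : Q} (ha : a ∈ A) (hb : b ∈ A) (h : r i * a = r j * b) : i = j := by
  have key : ∀ i j : Fin 8, (j : ℕ) < i → ∀ a ∈ A, r j * a ≠ r i := by
    rintro i j hji _ ⟨a, ha, rfl⟩ he
    have h := okR_true
    simp only [okR, Bool.and_eq_true] at h
    have := List.all_eq_true.1 (allBelow_spec _ _ (allBelow_spec _ _ h.2 i i.2) j hji) a ha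
    simp only [Bool.not_eq_true', Bool.eq_false_iff] at this
    refine this ?_
    rw [r, r, q_of (r_lt i), q_of (r_lt j), q_of (a_lt ha), ← QuotientGroup.mk_mul, mk_eq] at he
    simpa only [Subgroup.coe_mul, code_mul, code_el] using he
  have h1 : r i * (a * b⁻¹) = r j := by rw [← mul_assoc, h, mul_inv_cancel_right]
  have h2 : r j * (b * a⁻¹) = r i := by rw [← mul_assoc, ← h, mul_inv_cancel_right]
  rcases lt_trichotomy (i : ℕ) j with hlt | heq | hgt
  · exact absurd h1 (key j i hlt _ (mul_mem ha (inv_mem hb)))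
  · exact Fin.ext heq
  · exact absurd h2 (key i j hgt _ (mul_mem hb (inv_mem ha)))

theorem exists_coset (x : Q) : ∃ i, ∃ a ∈ A, x = r i * a := by
  classical
  let f : Fin 8 × A → Q := fun p => r p.1 * p.2
  have hf : Function.Injective f := by
    rintro ⟨i, a⟩ ⟨j, b⟩ h
    obtain rfl := coset_inj a.2 b.2 h
    exact Prod.ext rfl (Subtype.ext (mul_left_cancel (a := r i) h))
  have hs : Function.Surjective f := by
    haveI : Fintype Q := Fintype.ofFinite _
    haveI : Fintype (Fin 8 × A) := Fintype.ofFinite _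
    refine ((Fintype.bijective_iff_injective_and_card f).2 ⟨hf, ?_⟩).2
    rw [← Nat.card_eq_fintype_card, ← Nat.card_eq_fintype_card, Nat.card_prod, Nat.card_fin, card_A, card_Q]
  obtain ⟨⟨i, a⟩, rfl⟩ := hs x
  exact ⟨i, a, a.2, rfl⟩

theorem card_le_cA (is : List (Fin 8)) (D : Subgroup Q) (hD : D ≤ A)
    (hc : ∀ d ∈ D, ∀ i ∈ is, r i * d = d * r i) :
    Nat.card D ≤ cA (is.map fun i : Fin 8 => rList.getD i 0) := by
  classical
  let L := aList.filter fun a => (is.map fun i : Fin 8 => rList.getD i 0).all fun s => comB (c s) (c a)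
  have hsub : ∀ d : D, ∃ a ∈ L, q a = d := by
    intro d
    obtain ⟨a, ha, hq⟩ := hD d.2
    refine ⟨a, List.mem_filter.2 ⟨ha, ?_⟩, hq⟩
    rw [List.all_eq_true]
    intro s hs
    obtain ⟨i, hi, rfl⟩ := List.mem_map.1 hs
    rw [← q_comm (r_lt i) (a_lt ha), hq]
    exact hc d d.2 i hi
  choose g hg hgq using hsub
  let F : D → L.toFinset := fun d => ⟨g d, List.mem_toFinset.2 (hg d)⟩
  have hF : Function.Injective F := fun d e h => Subtype.ext (by
    rw [← hgq d, ← hgq e]; exact congrArg (fun y => q (Subtype.val y)) h)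
  refine (Nat.card_le_card_of_injective F hF).trans ?_
  rw [Nat.card_eq_fintype_card, Fintype.card_coe]
  exact List.toFinset_card_le L

theorem abelian_unique (B : Subgroup Q) (hB : IsMulCommutative B) (hc : Nat.card B = 64) : B = A := by
  classical
  have hcomm : ∀ x ∈ B, ∀ y ∈ B, x * y = y * x := fun x hx y hy =>
    congrArg Subtype.val (hB.is_comm.comm (⟨x, hx⟩ : B) ⟨y, hy⟩)
  let I : Finset (Fin 8) := Finset.univ.filter fun i => ∃ a ∈ A, r i * a ∈ B
  let D : Subgroup Q := B ⊓ A
  have hIc : ∀ d ∈ D, ∀ i ∈ I, r i * d = d * r i := by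
    intro d hd i hi
    obtain ⟨a, ha, hra⟩ := (Finset.mem_filter.1 hi).2
    have had : a * d = d * a :=
      congrArg Subtype.val (A_elementary.1.is_comm.comm (⟨a, ha⟩ : A) ⟨d, hd.2⟩)
    have h := hcomm _ hra d hd.1
    rw [mul_assoc, had, ← mul_assoc, ← mul_assoc] at h
    exact mul_right_cancel h
  choose idx' a' ha' hx' using exists_coset
  have hle : Nat.card B ≤ I.card * Nat.card D := by
    have hI : ∀ x : B, idx' x ∈ I := fun x =>
      Finset.mem_filter.2 ⟨Finset.mem_univ _, a' x, ha' x, by rw [← hx']; exact x.2⟩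
    choose w hw hwB using fun i : I => (Finset.mem_filter.1 i.2).2
    let F : B → I × D := fun x => (⟨idx' x, hI x⟩, ⟨(r (idx' x) * w ⟨idx' x, hI x⟩)⁻¹ * x,
      Subgroup.mem_inf.2 ⟨mul_mem (inv_mem (hwB _)) x.2, by
        have h : (r (idx' x) * w ⟨idx' x, hI x⟩)⁻¹ * (x : Q) = (w ⟨idx' x, hI x⟩)⁻¹ * a' x := by
          conv_lhs => arg 2; rw [hx' x]
          group
        rw [h]; exact mul_mem (inv_mem (hw _)) (ha' x)⟩⟩)
    have hF : Function.Injective F := by
      intro x y h
      obtain ⟨h1, h2⟩ := Prod.ext_iff.1 h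
      have e1 : idx' x = idx' y := congrArg Subtype.val h1
      have e2 : (r (idx' x) * w ⟨idx' x, hI x⟩)⁻¹ * (x : Q) = (r (idx' y) * w ⟨idx' y, hI y⟩)⁻¹ * y :=
        congrArg Subtype.val h2
      simp only [e1] at e2
      exact Subtype.ext (mul_left_cancel e2)
    refine (Nat.card_le_card_of_injective F hF).trans (le_of_eq ?_)
    rw [Nat.card_prod, Nat.card_eq_fintype_card, Fintype.card_coe]
  by_cases hI0 : ∀ i ∈ I, i = 0
  · refine Subgroup.eq_of_le_of_card_ge (fun x hx => ?_) (by rw [card_A, hc])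
    have : idx' x = 0 := hI0 _ (Finset.mem_filter.2 ⟨Finset.mem_univ _, a' x, ha' x, by rw [← hx']; exact hx⟩)
    rw [hx' x, this, r_zero, one_mul]
    exact ha' x
  exfalso
  push Not at hI0
  obtain ⟨i, hi, hi0⟩ := hI0
  have hK := okK_true
  simp only [okK, Bool.and_eq_true] at hK
  have hrow : ∀ i : Fin 8, i ≠ 0 → cA [rList.getD i 0] ≤ 16 ∧
      ∀ j : Fin 8, (j : ℕ) < i → j ≠ 0 → cA [rList.getD i 0, rList.getD j 0] < 16 := by
    intro i hi
    have h := allBelow_spec _ _ hK.1 i i.2
    simp only [Bool.or_eq_true, Bool.and_eq_true, Nat.beq_eq, Nat.ble_eq] at h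
    rcases h with h | h
    · exact absurd (Fin.ext h) hi
    refine ⟨h.1, fun j hji hj => ?_⟩
    have h' := allBelow_spec _ _ h.2 j hji
    simp only [Bool.or_eq_true, Nat.beq_eq, Nat.blt_eq] at h'
    exact h'.resolve_left fun e => hj (Fin.ext e)
  have h1 : Nat.card D ≤ 16 := by
    refine (card_le_cA [i] D inf_le_right fun d hd k hk => ?_).trans (hrow i hi0).1
    rw [List.mem_singleton] at hk; subst hk; exact hIc d hd k hi
  obtain ⟨j, hj, hji, hj0⟩ : ∃ j ∈ I, j ≠ i ∧ j ≠ 0 := by
    by_contra hne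
    push Not at hne
    have : I ⊆ {0, i} := fun k hk => by
      simp only [Finset.mem_insert, Finset.mem_singleton]
      by_cases h : k = i
      · exact Or.inr h
      · exact Or.inl (hne k hk h)
    have := (Finset.card_le_card this).trans (Finset.card_le_two)
    nlinarith [hle, hc, h1, this]
  have h2 : Nat.card D < 16 := by
    have hpair : ∀ a b : Fin 8, a ≠ 0 → b ≠ 0 → (b : ℕ) < a → a ∈ I → b ∈ I → Nat.card D < 16 := by
      intro a b ha hb hba haI hbI
      refine (card_le_cA [a, b] D inf_le_right fun d hd k hk => ?_).trans_lt ((hrow a ha).2 b hba hb)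
      simp only [List.mem_cons, List.not_mem_nil, or_false] at hk
      rcases hk with rfl | rfl
      · exact hIc d hd _ haI
      · exact hIc d hd _ hbI
    rcases lt_or_gt_of_ne (fun e => hji (Fin.ext e) : (j : ℕ) ≠ i) with h | h
    · exact hpair i j hi0 hj0 h hi hj
    · exact hpair j i hj0 hi0 h hj hi
  have h3 : Nat.card D ≤ 8 := by
    have hdvd : Nat.card D ∣ 2 ^ 6 := by
      rw [show (2 : ℕ) ^ 6 = Nat.card B by rw [hc]; norm_num]
      exact Subgroup.card_dvd_of_le inf_le_left
    obtain ⟨k, hk, he⟩ := (Nat.dvd_prime_pow Nat.prime_two).1 hdvd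
    rw [he] at h2 ⊢
    interval_cases k <;> norm_num at *
  have hI8 : I.card ≤ 8 := by simpa using I.card_le_univ
  have huniv : I = Finset.univ := Finset.eq_univ_of_card _ (by
    rw [Fintype.card_fin]; nlinarith [hle, hc, h3, hI8])
  have h4 : Nat.card D < 8 := by
    have hb : cA rList.tail < 8 := Nat.blt_eq.mp hK.2
    have hl : ([1, 2, 3, 4, 5, 6, 7] : List (Fin 8)).map (fun i : Fin 8 => rList.getD i 0) = rList.tail := by
      decide +kernel
    refine lt_of_le_of_lt (card_le_cA [1, 2, 3, 4, 5, 6, 7] D inf_le_right fun d hd k _ => ?_) (hl ▸ hb)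
    exact hIc d hd k (huniv ▸ Finset.mem_univ k)
  nlinarith [hle, hc, h4, hI8]

/-- The class of a generator. -/
def gq (j : Fin 4) : Q := ((⟨permOf sylGens[(j : ℕ)], gen_mem (List.getElem_mem _)⟩ : sylS) : Q)

/-- The value of a word. -/
def wq : List (Fin 4) → Q
  | [] => 1
  | j :: w => gq j * wq w

theorem wq_rep : ∀ w : List (Fin 4), ∃ σ : sylS, wq w = (σ : Q) ∧ code (σ : Pm) = wCode (w.map Fin.val)
  | [] => ⟨1, rfl, code_one⟩
  | j :: w => by
    obtain ⟨σ, h1, h2⟩ := wq_rep w
    refine ⟨⟨permOf sylGens[(j : ℕ)], gen_mem (List.getElem_mem _)⟩ * σ, ?_, ?_⟩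
    · rw [wq, h1]; rfl
    · rw [Subgroup.coe_mul, code_mul, h2, code_gen (List.getElem_mem _)]
      simp only [wCode, List.map_cons, List.foldr_cons, List.getD_eq_getElem _ (0, 0) (show (j : ℕ) < sylGens.length from j.2)]

theorem closure_gq : Subgroup.closure (Set.range gq) = ⊤ := by
  refine eq_top_iff.2 fun x _ => ?_
  induction x using QuotientGroup.induction_on with
  | H σ =>
    have hle : (sylS : Subgroup Pm) ≤
        ((Subgroup.closure (Set.range gq)).comap (QuotientGroup.mk' (center ↥sylS))).map sylS.subtype := by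
      show Subgroup.closure _ ≤ _
      rw [Subgroup.closure_le]
      rintro _ ⟨g, hg, rfl⟩
      obtain ⟨j, hj, rfl⟩ := List.getElem_of_mem hg
      exact ⟨⟨_, gen_mem (List.getElem_mem hj)⟩, Subgroup.subset_closure ⟨⟨j, hj⟩, rfl⟩, rfl⟩
    obtain ⟨τ, hτ, he⟩ := hle σ.2
    obtain rfl : τ = σ := Subtype.ext he
    exact hτ

theorem isPGroup_Q : IsPGroup 2 Q := IsPGroup.of_card (n := 9) (by rw [card_Q]; norm_num)

theorem index_of_isCoatom (M : Subgroup Q) (hM : IsCoatom M) : M.index = 2 := by
  haveI : Fact (Nat.Prime 2) := ⟨Nat.prime_two⟩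
  obtain ⟨k, hk⟩ := (isPGroup_Q.to_subgroup M).exists_card_eq
  have hk9 : k ≤ 9 := by
    have := Subgroup.card_subgroup_dvd_card M
    rw [hk, card_Q, show (512 : ℕ) = 2 ^ 9 by norm_num] at this
    exact Nat.pow_dvd_pow_iff_le_right (by norm_num) |>.1 this
  have hmul := M.card_mul_index
  rw [hk, card_Q] at hmul
  rcases eq_or_lt_of_le hk9 with rfl | hlt
  · exact absurd (Subgroup.index_eq_one.1 (show M.index = 1 from Nat.eq_of_mul_eq_mul_left (by norm_num : 0 < 2 ^ 9) (by rw [hmul]; norm_num))) hM.1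
  obtain ⟨K, hK, hMK⟩ := Sylow.exists_subgroup_card_pow_prime_le 2
    (n := k) (m := 8) (G := Q) (by rw [card_Q]; norm_num) M hk (by omega)
  rcases hM.le_iff.1 hMK with h | h
  · exact absurd (by rw [h, Subgroup.card_top, card_Q] at hK; norm_num at hK) id
  · subst h
    have : k = 8 := Nat.pow_right_injective (le_refl 2) (hk.symm.trans hK)
    subst this
    norm_num at hmul; omega

theorem center_small (M : Subgroup Q) (hM : IsCoatom M) : Nat.card (center M) ≤ 8 := by
  classical
  have hidx := index_of_isCoatom M hM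
  let b : Fin 4 → Bool := fun j => decide (gq j ∈ M)
  obtain ⟨m, hm, hbit⟩ : ∃ m, m < 16 ∧ ∀ j : Fin 4, m.testBit j = b j := by
    have : ∀ b0 b1 b2 b3 : Bool, ∃ m : Fin 16, m.1.testBit 0 = b0 ∧ m.1.testBit 1 = b1 ∧
        m.1.testBit 2 = b2 ∧ m.1.testBit 3 = b3 := by decide
    obtain ⟨m, h0, h1, h2, h3⟩ := this (b 0) (b 1) (b 2) (b 3)
    refine ⟨m, m.2, fun j => ?_⟩
    fin_cases j <;> assumption
  have hm15 : m < 15 := by
    rcases Nat.lt_or_ge m 15 with h | h
    · exact h
    exfalso
    have he : m = 15 := by omega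
    subst he
    refine hM.1 (eq_top_iff.2 (closure_gq ▸ ?_))
    rw [Subgroup.closure_le]
    rintro _ ⟨j, rfl⟩
    have h := hbit j
    rw [(by decide : ∀ j : Fin 4, (15 : ℕ).testBit j = true) j] at h
    exact of_decide_eq_true h.symm
  have hw : ∀ w : List (Fin 4), wq w ∈ M ↔ inPat m (w.map Fin.val) = true := by
    intro w
    induction w with
    | nil => exact iff_of_true (one_mem M) rfl
    | cons j w ih =>
      rw [wq, Subgroup.mul_mem_iff_of_index_two hidx, ih]
      simp only [inPat, List.map_cons, List.foldr_cons, hbit j, b]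
      by_cases hj : gq j ∈ M <;> simp [hj, inPat]
  let L := (wordList.filter fun w => inPat m w).map wCode
  let E := rList.flatMap fun s => aList.map fun a => cm (c s) (c a)
  have hcount : (E.filter fun x => L.all fun y => comB x y).length ≤ 8 :=
    Nat.ble_eq.mp (allBelow_spec _ _ okM_true m hm15)
  have hrep : ∀ x : center M, ∃ e ∈ E.filter fun x => L.all fun y => comB x y,
      ∃ σ : sylS, ((σ : Q) = (x : M).1) ∧ code (σ : Pm) = e := by
    intro x
    obtain ⟨i, _, ⟨a, ha, rfl⟩, hx⟩ := exists_coset (x : M).1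
    have he : ((el _ (r_lt i) * el a (a_lt ha) : sylS) : Q) = (x : M).1 := by
      rw [QuotientGroup.mk_mul, hx, r, q_of (r_lt i), q_of (a_lt ha)]
    refine ⟨cm (c (rList.getD i 0)) (c a), List.mem_filter.2 ⟨?_, ?_⟩, _, he, ?_⟩
    · refine List.mem_flatMap.2 ⟨_, ?_, List.mem_map.2 ⟨a, ha, rfl⟩⟩
      rw [List.getD_eq_getElem _ _ (rList_length.symm ▸ i.2)]
      exact List.getElem_mem _
    · simp only [L, List.all_eq_true, List.mem_map, List.mem_filter]
      rintro _ ⟨w, ⟨hwl, hwp⟩, rfl⟩
      obtain ⟨w', rfl⟩ : ∃ w' : List (Fin 4), w'.map Fin.val = w := by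
        have : ∀ j ∈ w, j < 4 := (by decide +kernel : ∀ w ∈ wordList, ∀ j ∈ w, j < 4) w hwl
        exact ⟨w.pmap Fin.mk this, by simp [List.map_pmap]⟩
      obtain ⟨τ, hτ, hτc⟩ := wq_rep w'
      have hcom : (x : M).1 * wq w' = wq w' * (x : M).1 :=
        congrArg Subtype.val ((Subgroup.mem_center_iff.1 x.2) ⟨wq w', (hw w').2 hwp⟩).symm
      rw [← he, hτ, ← QuotientGroup.mk_mul, ← QuotientGroup.mk_mul, mk_eq] at hcom
      rw [comB]
      simpa only [Subgroup.coe_mul, code_mul, code_el, hτc] using hcom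
    · rw [Subgroup.coe_mul, code_mul, code_el, code_el]
  choose g hg σ hσ hσg using hrep
  let F : center M → (E.filter fun x => L.all fun y => comB x y).toFinset :=
    fun x => ⟨g x, List.mem_toFinset.2 (hg x)⟩
  have hF : Function.Injective F := by
    intro x y h
    have : σ x = σ y := Subtype.ext (code_injective (by
      rw [hσg, hσg]; exact congrArg Subtype.val h))
    exact Subtype.ext (Subtype.ext (by rw [← hσ x, ← hσ y, this]))
  refine (Nat.card_le_card_of_injective F hF).trans ?_
  rw [Nat.card_eq_fintype_card, Fintype.card_coe]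
  exact (List.toFinset_card_le _).trans hcount

end Cfsg.Agent.Golay.SylQ
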