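import Cfsg.Agent.Lib.Golay.TripleGenData
import Cfsg.Agent.Lib.Golay.Local.Classes
import Cfsg.Agent.Lib.Golay.Mathieu
import Cfsg.Agent.Lib.Golay.NoDefectZero
import Cfsg.Agent.Lib.PermRep.ScottTriple

/-!
Which prime triples generate the one-point stabiliser in the group of the code.
-/

set_option autoImplicit false
set_option maxRecDepth 100000
set_option linter.style.haveILetI false

namespace Cfsg.Agent.Golay.TripleGen

open Cfsg Cfsg.Agent.PermCert Cfsg.Agent.Golay.Cert Cfsg.Agent.Golay.Local Cfsg.Agent.PermRep Module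

/-- The code of a power. -/
def powF (e : ℕ) : ℕ → ℕ
  | 0 => idC
  | n + 1 => cmpF (powF e n) e

theorem code_powF {e : ℕ} {σ : Equiv.Perm GolayPt} (h : Code e σ) : ∀ n, Code (powF e n) (σ ^ n)
  | 0 => by rw [pow_zero]; exact code_idC
  | n + 1 => by rw [pow_succ]; exact (code_powF h n).cmp h

/-- The order is the given prime. -/
def ordF (e p : ℕ) : Bool := sameF (powF e p) idC && !sameF e idC

theorem orderOf_of_ordF {e p : ℕ} (hp : p.Prime) {σ : Equiv.Perm GolayPt} (h : Code e σ) (ho : ordF e p = true) :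
    orderOf σ = p := by
  haveI := Fact.mk hp
  simp only [ordF, Bool.and_eq_true, Bool.not_eq_true'] at ho
  refine orderOf_eq_prime ((sameF_iff (code_powF h p) code_idC).1 ho.1) fun h1 => ?_
  rw [(sameF_iff h code_idC).2 h1] at ho
  exact Bool.noConfusion ho.2

/-- The code of a word in two elements and their inverses. -/
def wordF (x y : Elt) : List ℕ → ℕ
  | [] => idC
  | i :: l => cmpF (cond (Nat.beq i 0) x.1 (cond (Nat.beq i 1) y.1 (cond (Nat.beq i 2) x.2 y.2))) (wordF x y l)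

theorem code_wordF {x y : Elt} (hx : validElt 5 24 x = true) (hy : validElt 5 24 y = true) :
    ∀ l, ∃ σ ∈ Subgroup.closure ({permOf x, permOf y} : Set (Equiv.Perm GolayPt)), Code (wordF x y l) σ
  | [] => ⟨1, one_mem _, code_idC⟩
  | i :: l => by
    obtain ⟨σ, hσ, hc⟩ := code_wordF hx hy l
    have mx : permOf x ∈ Subgroup.closure ({permOf x, permOf y} : Set (Equiv.Perm GolayPt)) :=
      Subgroup.subset_closure (by simp)
    have my : permOf y ∈ Subgroup.closure ({permOf x, permOf y} : Set (Equiv.Perm GolayPt)) :=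
      Subgroup.subset_closure (by simp)
    simp only [wordF]
    cases Nat.beq i 0
    · cases Nat.beq i 1
      · cases Nat.beq i 2
        · exact ⟨_, mul_mem (inv_mem my) hσ, (code_permOf_inv hy).cmp hc⟩
        · exact ⟨_, mul_mem (inv_mem mx) hσ, (code_permOf_inv hx).cmp hc⟩
      · exact ⟨_, mul_mem my hσ, (code_permOf hy).cmp hc⟩
    · exact ⟨_, mul_mem mx hσ, (code_permOf hx).cmp hc⟩

/-- A witness row is in order. -/
def rowOK : (ℕ × ℕ × ℕ) × Elt × Elt × List ℕ × List ℕ → Bool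
  | ((p, q, r), x, y, wa, wb) =>
    validElt 5 24 x && validElt 5 24 y && inStabB m23Inv x && inStabB m23Inv y && ordF x.1 p && ordF y.1 q &&
      ordF (cmpF x.1 y.1) r &&
      sameF (wordF x y wa) ((m23Gens.getD 0 (0, 0)).1) && sameF (wordF x y wb) ((m23Gens.getD 1 (0, 0)).1)

theorem rows_ok : witRows.all rowOK = true := by decide +kernel

theorem gens_valid : m23Gens.all (fun e => validElt 5 24 e) = true ∧ m23Gens.length = 2 := by decide +kernel

/-- The triples with a witness. -/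
def witKeys : List (ℕ × ℕ × ℕ) := witRows.map Prod.fst

theorem mem_M23_iff {σ : Equiv.Perm GolayPt} : σ ∈ Spor.M23 ↔ σ ∈ stabIn m23Inv := by
  rw [sporM23_eq, ← stabIn_m23]

theorem exists_of_mem {p q r : ℕ} (hp : p.Prime) (hq : q.Prime) (hr : r.Prime) (h : (p, q, r) ∈ witKeys) :
    ∃ x y z : Spor.M23, orderOf x = p ∧ orderOf y = q ∧ orderOf z = r ∧ x * y * z = 1 ∧
      Subgroup.closure {x, y} = ⊤ := by
  obtain ⟨⟨t, x, y, wa, wb⟩, hrow, rfl : t = (p, q, r)⟩ := List.mem_map.1 h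
  have hok := List.all_eq_true.1 rows_ok _ hrow
  simp only [rowOK, Bool.and_eq_true] at hok
  obtain ⟨⟨⟨⟨⟨⟨⟨⟨hvx, hvy⟩, hsx⟩, hsy⟩, hox⟩, hoy⟩, hoz⟩, hwa⟩, hwb⟩ := hok
  let X : Spor.M23 := ⟨permOf x, mem_M23_iff.2 (permOf_mem_stabIn hvx hsx)⟩
  let Y : Spor.M23 := ⟨permOf y, mem_M23_iff.2 (permOf_mem_stabIn hvy hsy)⟩
  refine ⟨X, Y, (X * Y)⁻¹, ?_, ?_, ?_, mul_inv_cancel _, ?_⟩
  · rw [← Subgroup.orderOf_coe]; exact orderOf_of_ordF hp (code_permOf hvx) hox
  · rw [← Subgroup.orderOf_coe]; exact orderOf_of_ordF hq (code_permOf hvy) hoy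
  · rw [orderOf_inv, ← Subgroup.orderOf_coe]
    exact orderOf_of_ordF hr ((code_permOf hvx).cmp (code_permOf hvy)) hoz
  · have hsub : stabIn m23Inv ≤ Subgroup.closure ({permOf x, permOf y} : Set (Equiv.Perm GolayPt)) := by
      rw [← closure_eq_stabIn m23_ok, Subgroup.closure_le]
      intro σ hσ
      obtain ⟨e, he, rfl⟩ := List.mem_map.1 hσ
      have hv := List.all_eq_true.1 gens_valid.1 e he
      have hcases : e = m23Gens.getD 0 (0, 0) ∨ e = m23Gens.getD 1 (0, 0) := by
        simpa [m23Gens] using he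
      rcases hcases with h0 | h0
      · obtain ⟨s, hs, hc⟩ := code_wordF hvx hvy wa
        rw [← h0] at hwa
        exact (sameF_iff hc (code_permOf hv)).1 hwa ▸ hs
      · obtain ⟨s, hs, hc⟩ := code_wordF hvx hvy wb
        rw [← h0] at hwb
        exact (sameF_iff hc (code_permOf hv)).1 hwb ▸ hs
    refine Subgroup.map_injective (Subgroup.subtype_injective _) (le_antisymm (Subgroup.map_mono le_top) ?_)
    rw [MonoidHom.map_closure, ← MonoidHom.range_eq_map, Subgroup.range_subtype, Set.image_pair]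
    exact fun σ hσ => hsub (mem_M23_iff.1 hσ)

/-- The labelling in a row is invariant and onto. -/
def labOK : ℕ × Elt × ℕ × List ℕ → Bool
  | (p, e, c, l) => validElt 5 24 e && isAutB e && ordF e.1 p &&
      (List.range 24).all (fun i => Nat.beq (l.getD (g5 e.1 i) 0) (l.getD i 0) && Nat.blt (l.getD i 0) c) &&
      (List.range c).all (fun j => (List.range 24).any fun i => Nat.beq (l.getD i 0) j)

theorem labs_ok : orbRows.all labOK = true := by decide +kernel

theorem rep_rows : (∃ r ∈ orbRows, r.1 = 2 ∧ r.2.1 = rep2A ∧ r.2.2.1 = 16) ∧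
    (∃ r ∈ orbRows, r.1 = 3 ∧ r.2.1 = rep3A ∧ r.2.2.1 = 12) := by decide +kernel

theorem exists_label {r : ℕ × Elt × ℕ × List ℕ} (hr : r ∈ orbRows) :
    (permOf r.2.1 ∈ M24 ∧ (r.1.Prime → orderOf (permOf r.2.1) = r.1)) ∧
      ∃ f : GolayPt → Fin r.2.2.1, Function.Surjective f ∧ ∀ a, f (permOf r.2.1 a) = f a := by
  obtain ⟨p, e, c, l⟩ := r
  have hok := List.all_eq_true.1 labs_ok _ hr
  simp only [labOK, Bool.and_eq_true, List.all_eq_true, List.mem_range, Nat.beq_eq, Nat.blt_eq, List.any_eq_true] at hok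
  obtain ⟨⟨⟨⟨hv, hM⟩, ho⟩, hinv⟩, hsur⟩ := hok
  refine ⟨⟨permOf_mem_M24 hv hM, fun hp => orderOf_of_ordF hp (code_permOf hv) ho⟩,
    fun a => ⟨l.getD (idx a) 0, (hinv _ (idx_lt a)).2⟩, fun j => ?_, fun a => ?_⟩
  · obtain ⟨i, hi, hij⟩ := hsur j j.2
    refine ⟨pt ⟨i, hi⟩, Fin.ext ?_⟩
    show l.getD (idx (pt ⟨i, hi⟩)) 0 = j
    rw [idx_pt]; exact hij
  · refine Fin.ext ?_
    show l.getD (idx (permOf e a)) 0 = l.getD (idx a) 0
    rw [idx_permOf hv, ← g5_eq]; exact (hinv _ (idx_lt a)).1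

/-- An upper bound for the moved space of an element of given prime order. -/
def bnd : ℕ → ℕ
  | 2 => 8
  | 3 => 12
  | 5 => 16
  | 7 => 18
  | 11 => 20
  | _ => 22

theorem bnd_rows : ∀ p ∈ [5, 7, 11, 23], ∃ r ∈ orbRows, r.1 = p ∧ r.2.2.1 + bnd p = 24 := by decide +kernel

theorem card_pts : Fintype.card GolayPt = 24 := by decide

theorem mv_le {σ : Equiv.Perm GolayPt} (hσ : σ ∈ Spor.M23) {p : ℕ} (hp : p ∈ [2, 3, 5, 7, 11, 23])
    (ho : orderOf σ = p) : finrank ℚ (mv σ) ≤ bnd p := by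
  have hM : σ ∈ M24 := (Subgroup.mem_inf.1 hσ).1
  have hfix : σ none = none := (Subgroup.mem_inf.1 hσ).2
  have hne : (Finset.univ.filter fun q => σ q = q).card ≠ 0 :=
    Finset.card_ne_zero.2 ⟨none, Finset.mem_filter.2 ⟨Finset.mem_univ _, hfix⟩⟩
  -- from a labelling of a conjugate
  have key : ∀ {c : ℕ} (τ k : Equiv.Perm GolayPt) (n : ℤ) (f : GolayPt → Fin c), Function.Surjective f →
      (∀ a, f (τ a) = f a) → σ = k * τ ^ n * k⁻¹ → c + bnd p = 24 → finrank ℚ (mv σ) ≤ bnd p := by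
    intro c τ k n f hf hτ hc hb
    have hpow : ∀ m : ℤ, ∀ a, f ((τ ^ m) a) = f a := by
      intro m
      induction m with
      | zero => intro a; rfl
      | succ m ih => intro a; rw [zpow_add_one, Equiv.Perm.mul_apply, ih, hτ]
      | pred m ih =>
        intro a
        rw [zpow_sub_one, Equiv.Perm.mul_apply, ih]
        conv_rhs => rw [← (show τ (τ⁻¹ a) = a from τ.apply_symm_apply a), hτ]
    have h := finrank_mv_le (σ := σ) (fun a => f (k⁻¹ a)) (hf.comp (k⁻¹).surjective) (fun a => by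
      show f (k⁻¹ (σ a)) = f (k⁻¹ a)
      rw [hc, Equiv.Perm.mul_apply, Equiv.Perm.mul_apply, show k⁻¹ (k ((τ ^ n) (k⁻¹ a))) = (τ ^ n) (k⁻¹ a) from k.symm_apply_apply _, hpow])
    rw [card_pts] at h
    omega
  simp only [List.mem_cons, List.not_mem_nil, or_false] at hp
  rcases hp with rfl | rfl | hp
  · obtain ⟨⟨r, hr, -, he, hc⟩, -⟩ := rep_rows
    obtain ⟨-, f, hf, hτ⟩ := exists_label hr
    obtain ⟨k, -, hk⟩ := class2A hM ho hne
    exact key R2A k 1 f hf (fun a => by rw [show R2A = permOf r.2.1 by rw [he]]; exact hτ a)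
      (by rw [zpow_one]; exact hk) (by rw [hc]; rfl)
  · obtain ⟨-, ⟨r, hr, -, he, hc⟩⟩ := rep_rows
    obtain ⟨-, f, hf, hτ⟩ := exists_label hr
    obtain ⟨k, -, hk⟩ := class3A hM ho hne
    exact key R3A k 1 f hf (fun a => by rw [show R3A = permOf r.2.1 by rw [he]]; exact hτ a)
      (by rw [zpow_one]; exact hk) (by rw [hc]; rfl)
  · have hp4 : p ∈ [5, 7, 11, 23] := by simp [hp]
    obtain ⟨r, hr, hrp, hc⟩ := bnd_rows p hp4
    obtain ⟨⟨hτM, hτo⟩, f, hf, hτ⟩ := exists_label hr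
    have hprime : p.Prime := by rcases hp with rfl | rfl | rfl | rfl <;> norm_num
    haveI := Fact.mk hprime
    have hfac : (Nat.card M24).factorization p = 1 := by
      rw [card_M24, show (244823040 : ℕ) = p * (244823040 / p) by rcases hp with rfl | rfl | rfl | rfl <;> rfl,
        Nat.factorization_mul hprime.ne_zero (by rcases hp with rfl | rfl | rfl | rfl <;> norm_num),
        Finsupp.add_apply, hprime.factorization_self,
        Nat.factorization_eq_zero_of_not_dvd (by rcases hp with rfl | rfl | rfl | rfl <;> norm_num)]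
    set s : M24 := ⟨σ, hM⟩ with hs
    set t : M24 := ⟨_, hτM⟩ with ht
    have hco : ∀ (u : M24), orderOf (u : Equiv.Perm GolayPt) = p →
        Nat.card (Subgroup.zpowers u) = p ^ (Nat.card M24).factorization p := fun u hu => by
      rw [hfac, pow_one, Nat.card_zpowers, ← Subgroup.orderOf_coe, hu]
    obtain ⟨k, hk⟩ := MulAction.exists_smul_eq M24 (Sylow.ofCard _ (hco t (by rw [hτo (hrp ▸ hprime), hrp])))
      (Sylow.ofCard _ (hco s ho))
    have hsmem : s ∈ ((k • Sylow.ofCard _ (hco t (by rw [hτo (hrp ▸ hprime), hrp])) : Sylow p M24) : Subgroup M24) := by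
      rw [hk]; exact Subgroup.mem_zpowers s
    rw [Sylow.coe_subgroup_smul, Subgroup.mem_smul_pointwise_iff_exists] at hsmem
    obtain ⟨u, hu, hku⟩ := hsmem
    obtain ⟨n, rfl⟩ := Subgroup.mem_zpowers_iff.1 (show u ∈ Subgroup.zpowers t from hu)
    refine key (permOf r.2.1) k n f hf hτ ?_ hc
    have := congrArg Subtype.val hku
    simpa using this.symm

theorem not_exists {p q r : ℕ} (hp : p ∈ [2, 3, 5, 7, 11, 23]) (hq : q ∈ [2, 3, 5, 7, 11, 23])
    (hr : r ∈ [2, 3, 5, 7, 11, 23]) (hb : bnd p + bnd q + bnd r < 44) {x y z : Spor.M23} (hx : orderOf x = p)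
    (hy : orderOf y = q) (hz : orderOf z = r) (hxyz : x * y * z = 1) (hgen : Subgroup.closure {x, y} = ⊤) :
    False := by
  have hcl : Subgroup.closure ({(x : Equiv.Perm GolayPt), (y : Equiv.Perm GolayPt)} : Set (Equiv.Perm GolayPt)) =
      Spor.M23 := by
    have := congrArg (Subgroup.map Spor.M23.subtype) hgen
    rw [MonoidHom.map_closure, ← MonoidHom.range_eq_map, Subgroup.range_subtype, Set.image_pair] at this
    exact this
  have h := scott_two (x := (x : Equiv.Perm GolayPt)) (y := y) (z := z) (o := none) (b := some 0)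
    (congrArg Subtype.val hxyz) (fun q hq => by
      rw [hcl]
      obtain ⟨g, hg, hg'⟩ := exists_M24_map' (k := 2) (by norm_num) (x := ![none, some 0]) (y := ![none, q])
        (by decide) (by intro i j hij; fin_cases i <;> fin_cases j <;> simp_all)
      exact ⟨g, Subgroup.mem_inf.2 ⟨hg, hg' 0⟩, hg' 1⟩)
  have h1 := mv_le x.2 hp (by rw [Subgroup.orderOf_coe, hx])
  have h2 := mv_le y.2 hq (by rw [Subgroup.orderOf_coe, hy])
  have h3 := mv_le z.2 hr (by rw [Subgroup.orderOf_coe, hz])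
  rw [card_pts] at h
  omega

end Cfsg.Agent.Golay.TripleGen
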